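import Mathlib.RingTheory.Smooth.StandardSmoothOfFree
import Mathlib.RingTheory.Smooth.StandardSmoothCotangent
import Mathlib.RingTheory.Extension.Presentation.Core
import Mathlib.RingTheory.Localization.BaseChange

/-!
Etale algebras over a quotient lift to etale algebras.
-/

universe u

open TensorProduct

namespace Groth.Agent.AlgSpLoc

/-- An étale algebra over a quotient ring is the reduction of an étale algebra. -/
theorem exists_etale_lift (R : Type u) [CommRing R] (I : Ideal R) (Sb : Type u)
    [CommRing Sb] [Algebra (R ⧸ I) Sb] [Algebra.Etale (R ⧸ I) Sb] :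
    ∃ (S : Type u) (_ : CommRing S) (_ : Algebra R S), Algebra.Etale R S ∧
      Nonempty (((R ⧸ I) ⊗[R] S) ≃ₐ[R ⧸ I] Sb) := by
  classical
  obtain ⟨ι, σ, _, _, P, hP⟩ :=
    (Algebra.Etale.iff_isStandardSmoothOfRelativeDimension_zero.1 ‹Algebra.Etale (R ⧸ I) Sb›).out
  let _ : Fintype σ := Fintype.ofFinite σ
  let _ : Algebra R Sb := ((algebraMap (R ⧸ I) Sb).comp (algebraMap R (R ⧸ I))).toAlgebra
  have : IsScalarTower R (R ⧸ I) Sb := IsScalarTower.of_algebraMap_eq fun _ => rfl
  have : P.HasCoeffs R := ⟨fun x _ => Ideal.Quotient.mk_surjective x⟩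
  let P₀ := P.toPreSubmersivePresentation.ofHasCoeffs R
  let M := P.toPresentation.ModelOfHasCoeffs R
  let d : M := Ideal.Quotient.mk _ (P.jacobianOfHasCoeffs R)
  let S := Localization.Away d
  let T : Algebra.SubmersivePresentation R S (Unit ⊕ ι) (Unit ⊕ σ) :=
    { toPreSubmersivePresentation :=
        (Algebra.PreSubmersivePresentation.localizationAway S d).comp P₀
      jacobian_isUnit := by
        rw [Algebra.PreSubmersivePresentation.comp_jacobian_eq_jacobian_smul_jacobian,
          Algebra.PreSubmersivePresentation.localizationAway_jacobian, Algebra.smul_def]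
        have : P₀.jacobian = d := by
          rw [Algebra.PreSubmersivePresentation.jacobian_eq_jacobiMatrix_det]
          rfl
        rw [this]
        exact (IsLocalization.Away.algebraMap_isUnit d).mul (IsLocalization.Away.algebraMap_isUnit d) }
  have hT : T.toPresentation.dimension = 0 := by
    rw [show T.toPresentation.dimension = _ from
      Algebra.PreSubmersivePresentation.dimension_comp_eq_dimension_add_dimension _ _]
    simp only [Algebra.Presentation.dimension] at hP ⊢
    simpa [Nat.card_eq_fintype_card] using hP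
  have := T.isStandardSmoothOfRelativeDimension hT
  let e := P.toPresentation.tensorModelOfHasCoeffsEquiv R
  have hu : IsUnit ((1 : R ⧸ I) ⊗ₜ[R] d) := by
    rw [← e.symm_apply_apply ((1 : R ⧸ I) ⊗ₜ[R] d)]
    refine IsUnit.map e.symm ?_
    rw [show e (1 ⊗ₜ d) = P.jacobian from by
      change P.toPresentation.tensorModelOfHasCoeffsEquiv R (1 ⊗ₜ Ideal.Quotient.mk _ _) = _
      rw [Algebra.Presentation.tensorModelOfHasCoeffsEquiv_tmul]
      simp]
    exact P.jacobian_isUnit
  exact ⟨S, inferInstance, inferInstance, inferInstance,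
    ⟨(IsLocalization.Away.tensorProductEquivTMulRight R (R ⧸ I) d S).trans
      (((IsLocalization.atUnit _ (Localization.Away ((1 : R ⧸ I) ⊗ₜ[R] d))
        ((1 : R ⧸ I) ⊗ₜ[R] d) hu).symm.restrictScalars (R ⧸ I)).trans e)⟩⟩

end Groth.Agent.AlgSpLoc
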