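import Groth.Agent.AlgSpLoc.Inst2
import Groth.Agent.AlgSpc.Misc1
import Groth.Agent.FpqcDescent.Basic
import Mathlib.AlgebraicGeometry.Morphisms.FlatDescent

/-!
The diagonal of a morphism of algebraic spaces and fpqc descent of its properties.
-/

set_option autoImplicit false
set_option backward.isDefEq.respectTransparency false

universe u

open CategoryTheory CategoryTheory.Limits AlgebraicGeometry Opposite

namespace Groth.Agent.AlgSpLoc

open _root_.AlgSp Groth.Agent.AlgSpc

variable {S : Scheme.{u}}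

/-- The diagonal of a morphism out of an algebraic space is representable. -/
theorem representable_diagonal_mor {X Y : Sp S} (hX : IsAlgSpace X) (f : X ⟶ Y) :
    Representable (pullback.diagonal f) := by
  let m : pullback f f ⟶ X ⨯ X := prod.lift (pullback.fst f f) (pullback.snd f f)
  have hm : Limits.diag X = pullback.diagonal f ≫ m := by
    ext <;> simp [m]
  intro T ξ
  obtain ⟨W, fst, snd, sq⟩ := exists_sq hX.diag (ξ ≫ m)
  refine ⟨W, snd, fst, ?_⟩
  have w : fst ≫ pullback.diagonal f = (yon S).map snd ≫ ξ := by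
    have := sq.w
    rw [hm, ← Category.assoc, ← Category.assoc] at this
    apply pullback.hom_ext
    · simpa [m] using congrArg (· ≫ prod.fst) this
    · simpa [m] using congrArg (· ≫ prod.snd) this
  refine ⟨⟨w⟩, ⟨PullbackCone.IsLimit.mk w (fun s => sq.lift s.fst s.snd ?_) (fun s => sq.lift_fst _ _ _)
    (fun s => sq.lift_snd _ _ _) fun s n h₁ h₂ => ?_⟩⟩
  · rw [hm, ← Category.assoc, s.condition, Category.assoc]
  · apply sq.hom_ext
    · rw [sq.lift_fst]; exact h₁
    · rw [sq.lift_snd]; exact h₂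

variable {ι : Type u} {X Y : Sp S} {Yi : ι → Sp S} {g : ∀ i, Yi i ⟶ Y} {Xi : ι → Sp S}
  {f : X ⟶ Y} {p : ∀ i, Xi i ⟶ Yi i} {q : ∀ i, Xi i ⟶ X}

/-- The diagonal of a base change is the base change of the diagonal. -/
theorem isPullback_diagonal {X' Y' : Sp S} {f' : X' ⟶ Y'} {g' : X' ⟶ X} {gY : Y' ⟶ Y}
    (sq : IsPullback g' f' f gY) :
    IsPullback g' (pullback.diagonal f') (pullback.diagonal f)
      (pullback.map f' f' f f g' g' gY sq.w.symm sq.w.symm) := by
  have w : g' ≫ pullback.diagonal f = pullback.diagonal f' ≫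
      pullback.map f' f' f f g' g' gY sq.w.symm sq.w.symm := by
    apply pullback.hom_ext <;> simp
  refine ⟨⟨w⟩, ⟨PullbackCone.IsLimit.mk w (fun s => s.snd ≫ pullback.fst f' f') (fun s => ?_) (fun s => ?_)
    fun s n h₁ h₂ => ?_⟩⟩
  · simpa using (congrArg (· ≫ pullback.fst f f) s.condition).symm
  · apply pullback.hom_ext
    · simp
    · apply sq.hom_ext
      · have e1 := congrArg (· ≫ pullback.fst f f) s.condition
        have e2 := congrArg (· ≫ pullback.snd f f) s.condition
        simp at e1 e2 ⊢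
        rw [← e1, ← e2]
      · simp [pullback.condition]
  · simpa using congrArg (· ≫ pullback.fst f' f') h₂

/-- Descent of a property of the diagonal along an fpqc covering. -/
theorem repWith_diagonal_of_cover {P : MorphismProperty Scheme.{u}} [P.IsStableUnderBaseChange]
    [IsZariskiLocalAtTarget P]
    [P.DescendsAlong (@Surjective ⊓ @Flat ⊓ @QuasiCompact : MorphismProperty Scheme.{u})]
    (hX : IsAlgSpace X) (hcov : IsFpqcCover Yi g) (hsq : ∀ i, IsPullback (q i) (p i) f (g i))
    (h : ∀ i, RepWith P (pullback.diagonal (p i))) : RepWith P (pullback.diagonal f) := by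
  refine repWith_mk fun T gT => ?_
  obtain ⟨V, fst, snd, sq⟩ := exists_sq (representable_diagonal_mor hX f) gT
  refine ⟨V, fst, snd, sq, prop_of_affine_covers P snd.left fun Z hZ => ?_⟩
  let Z' : Over S := Over.mk (Z.ι ≫ T.hom)
  let ι' : Z' ⟶ T := Over.homMk Z.ι rfl
  obtain ⟨m, W, c, hW, hc, hsurj, hl⟩ :=
    hcov.2 Z' hZ ((yon S).map ι' ≫ gT ≫ pullback.fst f f ≫ f)
  refine ⟨m, fun j => (W j).left, fun j => (c j).left, hW, hc, hsurj, fun j => ?_⟩
  obtain ⟨i, l, hli⟩ := hl j
  let k : W j ⟶ T := c j ≫ ι'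
  have hk : ((yon S).map k ≫ gT ≫ pullback.fst f f) ≫ f = l ≫ g i := by
    rw [hli, Functor.map_comp]; simp
  have hk' : ((yon S).map k ≫ gT ≫ pullback.snd f f) ≫ f = l ≫ g i := by
    rw [← hk]; simp [pullback.condition]
  let k' : (yon S).obj (W j) ⟶ pullback (p i) (p i) :=
    pullback.lift ((hsq i).lift _ l hk) ((hsq i).lift _ l hk') (by simp)
  have hkk : k' ≫ pullback.map (p i) (p i) f f (q i) (q i) (g i) (hsq i).w.symm (hsq i).w.symm =
      (yon S).map k ≫ gT := by
    apply pullback.hom_ext <;> simp [k']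
  obtain ⟨VW, a, b, sW⟩ := exists_sq (representable_diagonal_mor hX f) ((yon S).map k ≫ gT)
  have hb : P b.left := by
    have sB := isPullback_diagonal (hsq i)
    rw [← hkk] at sW
    let e := sB.lift a ((yon S).map b ≫ k') (by rw [Category.assoc]; exact sW.w)
    have se : IsPullback e ((yon S).map b) (pullback.diagonal (p i)) k' := by
      refine IsPullback.of_right ?_ (sB.lift_snd _ _ _) sB
      rw [sB.lift_fst]; exact sW
    exact (repWith_yon_map_iff P b).1 (repWith_of_isPullback se (h i))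
  have w2 : a ≫ pullback.diagonal f = ((yon S).map b ≫ (yon S).map k) ≫ gT := by
    rw [Category.assoc]; exact sW.w
  let n := pre (sq.lift _ _ w2)
  have s3 : IsPullback ((yon S).map n) ((yon S).map b) ((yon S).map snd) ((yon S).map k) := by
    refine IsPullback.of_right (t := sq) ?_ (by simp [n])
    simpa [n] using sW
  have s4 := isPullback_left s3
  have hb' : P (s4.isoPullback.hom ≫ pullback.snd snd.left k.left) := s4.isoPullback_hom_snd.symm ▸ hb
  rw [P.cancel_left_of_respectsIso] at hb'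
  exact hb'

/-- A property of the diagonal is fpqc local on the base. -/
theorem isLocalOnBase_repWith_diagonal {P : MorphismProperty Scheme.{u}} [P.IsStableUnderBaseChange]
    [IsZariskiLocalAtTarget P]
    [P.DescendsAlong (@Surjective ⊓ @Flat ⊓ @QuasiCompact : MorphismProperty Scheme.{u})] :
    IsLocalOnBase (IsFpqcCover (S := S)) (fun _ _ f => RepWith P (pullback.diagonal f)) := by
  intro ι Y Yi g _ _ hcov X f hX Xi p q _ hsq
  exact ⟨fun hf i => repWith_of_isPullback (isPullback_diagonal (hsq i)) hf,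
    repWith_diagonal_of_cover hX hcov hsq⟩

end Groth.Agent.AlgSpLoc

namespace Groth.Agent.AlgSpLoc

open _root_.AlgSp Groth.Agent.AlgSpc

variable {S : Scheme.{u}}

theorem isLocalOnBase_quasiSeparated : IsLocalOnBase (IsFpqcCover (S := S)) (IsQuasiSeparatedMor (S := S)) :=
  isLocalOnBase_repWith_diagonal

theorem isLocalOnBase_separated : IsLocalOnBase (IsFpqcCover (S := S)) (IsSeparatedMor (S := S)) :=
  isLocalOnBase_repWith_diagonal

theorem isLocalOnBase_inf {P Q : MorphismProperty (Sp S)}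
    (hP : IsLocalOnBase (IsFpqcCover (S := S)) P) (hQ : IsLocalOnBase (IsFpqcCover (S := S)) Q) :
    IsLocalOnBase (IsFpqcCover (S := S)) (fun _ _ f => P f ∧ Q f) := by
  intro ι Y Yi g hY hYi hcov X f hX Xi p q hXi hsq
  have h1 := hP Yi g hY hYi hcov f hX Xi p q hXi hsq
  have h2 := hQ Yi g hY hYi hcov f hX Xi p q hXi hsq
  exact ⟨fun hf i => ⟨h1.1 hf.1 i, h2.1 hf.2 i⟩, fun hp => ⟨h1.2 fun i => (hp i).1, h2.2 fun i => (hp i).2⟩⟩

theorem isLocalOnBase_finitePresentation :
    IsLocalOnBase (IsFpqcCover (S := S)) (IsFinitePresentationMor (S := S)) := by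
  intro ι Y Yi g hY hYi hcov X f hX Xi p q hXi hsq
  have h1 := isLocalOnBase_lfp Yi g hY hYi hcov f hX Xi p q hXi hsq
  have h2 := isLocalOnBase_quasiSeparated Yi g hY hYi hcov f hX Xi p q hXi hsq
  exact ⟨fun hf i => ⟨h1.1 hf.1 i, quasiCompact_of_isPullback (hsq i) hf.2.1, h2.1 hf.2.2 i⟩,
    fun hp => ⟨h1.2 fun i => (hp i).1, quasiCompact_of_cover hcov hsq hX hY fun i => (hp i).2.1,
      h2.2 fun i => (hp i).2.2⟩⟩

theorem isLocalOnBase_proper : IsLocalOnBase (IsFpqcCover (S := S)) (IsProperMor (S := S)) := by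
  intro ι Y Yi g hY hYi hcov X f hX Xi p q hXi hsq
  have h1 := isLocalOnBase_separated Yi g hY hYi hcov f hX Xi p q hXi hsq
  have h2 := isLocalOnBase_and_quasiCompact isLocalOnBase_lft Yi g hY hYi hcov f hX Xi p q hXi hsq
  exact ⟨fun hf i => ⟨h1.1 hf.1 i, h2.1 hf.2.1 i, univSp_of_isPullback (hsq i) hf.2.2⟩,
    fun hp => ⟨h1.2 fun i => (hp i).1, h2.2 fun i => (hp i).2.1,
      univClosed_of_cover hcov hsq fun i => (hp i).2.2⟩⟩

theorem mono_iff_diagonal {X Y : Sp S} (hX : IsAlgSpace X) (f : X ⟶ Y) :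
    Mono f ↔ RepWith (MorphismProperty.isomorphisms Scheme.{u}) (pullback.diagonal f) := by
  constructor
  · intro hf
    refine repWith_mk fun T gT => ?_
    obtain ⟨V, fst, snd, sq⟩ := exists_sq (representable_diagonal_mor hX f) gT
    refine ⟨V, fst, snd, sq, ?_⟩
    have h0 : pullback.fst f f = pullback.snd f f := (cancel_mono f).1 pullback.condition
    have w : (gT ≫ pullback.fst f f) ≫ pullback.diagonal f = 𝟙 _ ≫ gT := by
      apply pullback.hom_ext <;> simp [h0]
    let r := pre (sq.lift _ _ w)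
    have h1 : r ≫ snd = 𝟙 T := (yon S).map_injective (by simp [r])
    have h2 : snd ≫ r = 𝟙 V := (yon S).map_injective <| by
      apply sq.hom_ext
      · simp [r, ← sq.w_assoc]
      · simp [r]
    have : IsIso snd := ⟨r, h2, h1⟩
    exact (inferInstance : IsIso ((Over.forget S).map snd))
  · intro h
    refine mono_of_cancel fun T a b hab => ?_
    obtain ⟨V, fst, snd, sq⟩ := exists_sq h.1 (pullback.lift a b hab : (yon S).obj T ⟶ pullback f f)
    have : IsIso snd.left := h.2 _ _ _ sq
    have : IsIso ((Over.forget S).map snd) := ‹IsIso snd.left›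
    have : IsIso snd := isIso_of_reflects_iso snd (Over.forget S)
    have hw := sq.w
    have e1 : fst = (yon S).map snd ≫ a := by simpa using congrArg (· ≫ pullback.fst f f) hw
    have e2 : fst = (yon S).map snd ≫ b := by simpa using congrArg (· ≫ pullback.snd f f) hw
    rw [← cancel_epi ((yon S).map snd), ← e1, ← e2]

theorem isLocalOnBase_mono :
    IsLocalOnBase (IsFpqcCover (S := S)) (MorphismProperty.monomorphisms (Sp S)) := by
  intro ι Y Yi g hY hYi hcov X f hX Xi p q hXi hsq
  change Mono f ↔ ∀ i, Mono (p i)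
  simp only [mono_iff_diagonal hX, fun i => mono_iff_diagonal (hXi i) (p i)]
  exact isLocalOnBase_repWith_diagonal Yi g hY hYi hcov f hX Xi p q hXi hsq

end Groth.Agent.AlgSpLoc
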