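import Groth.Agent.AlgSpLoc.Cover
import Groth.Agent.AlgSpLoc.Diag
import Groth.Agent.AlgSpc.EtLocInst

/-!
Open immersions of algebraic spaces are the etale monomorphisms; descent of open immersions and isomorphisms.
-/

set_option autoImplicit false
set_option backward.isDefEq.respectTransparency false

universe u

open CategoryTheory CategoryTheory.Limits AlgebraicGeometry Opposite

namespace Groth.Agent.AlgSpLoc

open _root_.AlgSp Groth.Agent.AlgSpc

variable {S : Scheme.{u}}

/-- An etale monomorphism to a scheme is an open subscheme. -/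
theorem exists_open_of_mono_etale {X : Sp S} (hX : IsAlgSpace X) {T : Over S} (f : X ⟶ (yon S).obj T)
    [Mono f] (hf : IsEtaleMor f) :
    ∃ (V : Over S) (j : V ⟶ T) (e : (yon S).obj V ≅ X), IsOpenImmersion j.left ∧ e.hom ≫ f = (yon S).map j := by
  obtain ⟨U, p, hp, hps⟩ := hX.atlas
  let φ := pre (p ≫ f)
  have hφ : Etale φ.left := (repWith_pre _).1 (hf p hp)
  let O : T.left.Opens := ⟨Set.range φ.left, φ.left.isOpenMap.isOpen_range⟩
  let V : Over S := Over.mk (O.ι ≫ T.hom)
  let j : V ⟶ T := Over.homMk O.ι rfl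
  have hj : IsOpenImmersion j.left := inferInstanceAs (IsOpenImmersion O.ι)
  let φ₀ : U ⟶ V := Over.homMk (IsOpenImmersion.lift O.ι φ.left (by intro x hx; exact ⟨⟨x, hx⟩, rfl⟩)) (by
    change IsOpenImmersion.lift O.ι φ.left _ ≫ O.ι ≫ T.hom = U.hom
    rw [IsOpenImmersion.lift_fac_assoc]; exact Over.w φ)
  have hj₀ : φ₀ ≫ j = φ := by ext; exact IsOpenImmersion.lift_fac _ _ _
  have hmj : Mono j := (Over.forget S).mono_of_mono_map (inferInstanceAs (Mono O.ι))
  obtain ⟨n, hn⟩ := exists_desc_of_atlas hp hps ((yon S).map φ₀) fun T' a b w => by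
    rw [← Functor.map_comp, ← Functor.map_comp]
    congr 1
    rw [← cancel_mono j, Category.assoc, Category.assoc, hj₀]
    apply (yon S).map_injective
    simp [φ, reassoc_of% w]
  have hnf : n ≫ (yon S).map j = f := by
    have := epi_of_repWith hp hps
    rw [← cancel_epi p, reassoc_of% hn, ← Functor.map_comp, hj₀]
    simp [φ]
  have : Mono (n ≫ (yon S).map j) := hnf ▸ inferInstance
  have : Mono n := mono_of_mono n ((yon S).map j)
  have hne : IsEtaleMor n := fun W a ha => by
    refine (repWith_pre _).2 ?_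
    have h1 : Etale ((pre (a ≫ n)).left ≫ j.left) := by
      rw [← Over.comp_left, show pre (a ≫ n) ≫ j = pre (a ≫ f) from
        (yon S).map_injective (by simp [← hnf])]
      exact (repWith_pre _).1 (hf a ha)
    exact Etale.of_comp _ j.left
  have hns : Function.Surjective (Points.map n) := by
    intro y
    obtain ⟨v, rfl⟩ := (Points.schemeHomeo V).surjective y
    obtain ⟨u, hu⟩ : j.left v ∈ Set.range φ.left := by
      have h' : O.ι v ∈ Set.range O.ι := ⟨v, rfl⟩
      rw [Scheme.Opens.range_ι] at h'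
      exact h'
    have hv : φ₀.left u = v := O.ι.isOpenEmbedding.injective <| by
      change j.left (φ₀.left u) = j.left v
      rw [← hu, ← hj₀]; rfl
    refine ⟨Points.ofPt p u, ?_⟩
    rw [Points.map_ofPt, hn, ofPt_pre, pre_map, hv]
    rfl
  have := isIso_of_mono_etale_surjective hX n hne hns
  exact ⟨V, j, (asIso n).symm, hj, by simp [← hnf]⟩

theorem repWith_openImmersion_of_mono_etale {X Y : Sp S} (hX : IsAlgSpace X) (hY : IsAlgSpace Y)
    (f : X ⟶ Y) [Mono f] (hf : LocP @Etale f) : RepWith @IsOpenImmersion f := by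
  refine repWith_mk fun T g => ?_
  have sq := IsPullback.of_hasPullback f g
  have hZ : IsAlgSpace (pullback f g) := isAlgSpace_of_isPullback hX hY (IsAlgSpace.yon_obj T) sq
  have he : IsEtaleMor (pullback.snd f g) := (isEtaleMor_iff_locP hZ (IsAlgSpace.yon_obj T)).2
    (locP_base_change hX hY (IsAlgSpace.yon_obj T) sq hf)
  obtain ⟨V, j, e, hj, hje⟩ := exists_open_of_mono_etale hZ (pullback.snd f g) he
  refine ⟨V, e.hom ≫ pullback.fst f g, j, ?_, hj⟩
  exact sq.of_iso e.symm (Iso.refl _) (Iso.refl _) (Iso.refl _) (by simp) (by simp [← hje]) (by simp) (by simp)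

theorem repWith_openImmersion_iff {X Y : Sp S} (hX : IsAlgSpace X) (hY : IsAlgSpace Y) (f : X ⟶ Y) :
    RepWith @IsOpenImmersion f ↔ Mono f ∧ LocP @Etale f := by
  refine ⟨fun h => ⟨mono_of_repWith (fun _ _ g (_ : IsOpenImmersion g) => inferInstance) h, ?_⟩,
    fun ⟨_, h⟩ => repWith_openImmersion_of_mono_etale hX hY f h⟩
  refine locP_of_repWith (fun e f (_ : Etale e) (_ : Etale f) => inferInstanceAs (Etale (e ≫ f)))
    (repWith_mono (fun _ _ g (_ : IsOpenImmersion g) => (inferInstance : Etale g)) h)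

theorem isIso_iff {X Y : Sp S} (hX : IsAlgSpace X) (hY : IsAlgSpace Y) (f : X ⟶ Y) :
    IsIso f ↔ Mono f ∧ LocP @Etale f ∧ Function.Surjective (Points.map f) := by
  refine ⟨fun _ => ⟨inferInstance, ?_, fun y => ⟨Points.map (inv f) y, ?_⟩⟩, fun ⟨_, h, hs⟩ => ?_⟩
  · exact ((repWith_openImmersion_iff hX hY f).1 (repWith_iso f)).2
  · rw [← Points.map_comp, IsIso.inv_hom_id, Points.map_id]
  · exact isIso_of_mono_etale_surjective hX f ((isEtaleMor_iff_locP hX hY).2 h) hs

theorem isLocalOnBase_openImmersion :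
    IsLocalOnBase (IsFpqcCover (S := S)) (RepWith (S := S) @IsOpenImmersion) := by
  intro ι Y Yi g hY hYi hcov X f hX Xi p q hXi hsq
  have h1 := isLocalOnBase_mono Yi g hY hYi hcov f hX Xi p q hXi hsq
  have h2 := isLocalOnBase_etale Yi g hY hYi hcov f hX Xi p q hXi hsq
  rw [isEtaleMor_iff_locP hX hY] at h2
  simp only [repWith_openImmersion_iff hX hY, fun i => repWith_openImmersion_iff (hXi i) (hYi i) (p i),
    fun i => isEtaleMor_iff_locP (f := p i) (hXi i) (hYi i)] at h2 ⊢
  exact ⟨fun h i => ⟨h1.1 h.1 i, h2.1 h.2 i⟩, fun h => ⟨h1.2 fun i => (h i).1, h2.2 fun i => (h i).2⟩⟩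

theorem isLocalOnBase_iso :
    IsLocalOnBase (IsFpqcCover (S := S)) (MorphismProperty.isomorphisms (Sp S)) := by
  intro ι Y Yi g hY hYi hcov X f hX Xi p q hXi hsq
  refine ⟨fun (_ : IsIso f) i => (hsq i).isIso_snd_of_isIso, fun hp => (isIso_iff hX hY f).2 ⟨?_, ?_, ?_⟩⟩
  · exact (isLocalOnBase_mono Yi g hY hYi hcov f hX Xi p q hXi hsq).2 fun i =>
      (haveI : IsIso (p i) := hp i; (inferInstance : Mono (p i)))
  · rw [← isEtaleMor_iff_locP hX hY]
    exact (isLocalOnBase_etale Yi g hY hYi hcov f hX Xi p q hXi hsq).2 fun i =>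
      (isEtaleMor_iff_locP (hXi i) (hYi i)).2 ((isIso_iff (hXi i) (hYi i) (p i)).1 (hp i)).2.1
  · refine surjective_of_cover (Q := fun _ _ b => Function.Surjective (Points.map b)) hcov hsq
      (fun _ _ b hb => hb) (fun i Z Z' _ h fst snd sq => ?_) hY (h := 𝟙 Y) (IsPullback.id_vert f).flip
    have : IsIso (p i) := hp i
    have : IsIso snd := sq.isIso_snd_of_isIso
    intro y
    exact ⟨Points.map (inv snd) y, by rw [← Points.map_comp, IsIso.inv_hom_id, Points.map_id]⟩

end Groth.Agent.AlgSpLoc
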