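import Groth.Agent.AlgSpc.More
import Groth.Agent.AlgSpc.LocP
import Mathlib.CategoryTheory.Sites.EpiMono
import Mathlib.CategoryTheory.Sites.RegularEpi

/-!
Etale surjective and fppf representable maps are effective epimorphisms of sheaves.
-/

set_option autoImplicit false
set_option backward.isDefEq.respectTransparency false

universe u

open CategoryTheory CategoryTheory.Limits AlgebraicGeometry Opposite

namespace Groth.Agent.AlgSpLoc

open _root_.AlgSp Groth.Agent.AlgSpc

variable {S : Scheme.{u}}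

theorem generate_singleton_mem_J {V T : Over S} (b : V ⟶ T) [Flat b.left] [Surjective b.left]
    [LocallyOfFinitePresentation b.left] : Sieve.generate (Presieve.singleton b) ∈ J S T := by
  rw [show J S = (Scheme.fppfPrecoverage.toGrothendieck).over S from rfl,
    GrothendieckTopology.mem_over_iff]
  refine GrothendieckTopology.superset_covering _ ?_
    (Precoverage.generate_mem_toGrothendieck b.left.singleton_mem_fppfPrecoverage)
  rintro W _ ⟨W', a, _, hb, rfl⟩
  obtain ⟨⟩ := hb
  rw [Sieve.overEquiv_iff]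
  exact ⟨V, Over.homMk a (by simp), b, ⟨⟩, by ext; simp⟩

/-- A morphism of sheaves which lifts locally along fppf covers is an epimorphism. -/
theorem isLocallySurjective_of_sq {F G : Sp S} (f : F ⟶ G)
    (h : ∀ ⦃T : Over S⦄ (g : (yon S).obj T ⟶ G), ∃ (V : Over S) (b : V ⟶ T) (a : (yon S).obj V ⟶ F),
      Flat b.left ∧ Surjective b.left ∧ LocallyOfFinitePresentation b.left ∧ a ≫ f = (yon S).map b ≫ g) :
    Sheaf.IsLocallySurjective f where
  imageSieve_mem {T} s := by
    obtain ⟨V, b, a, hb₁, hb₂, hb₃, w⟩ := h ((J S).uliftYonedaEquiv.symm s)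
    refine GrothendieckTopology.superset_covering _ ?_ (generate_singleton_mem_J b)
    rintro W c ⟨W', d, _, hb, rfl⟩
    obtain ⟨⟩ := hb
    apply (Presheaf.imageSieve f.hom s).downward_closed
    refine ⟨(J S).uliftYonedaEquiv a, ?_⟩
    change f.hom.app _ ((J S).uliftYonedaEquiv a) = _
    rw [← GrothendieckTopology.uliftYonedaEquiv_comp, w]
    rw [← GrothendieckTopology.uliftYonedaEquiv_naturality, Equiv.apply_symm_apply]

theorem epi_of_sq {F G : Sp S} (f : F ⟶ G)
    (h : ∀ ⦃T : Over S⦄ (g : (yon S).obj T ⟶ G), ∃ (V : Over S) (b : V ⟶ T) (a : (yon S).obj V ⟶ F),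
      Flat b.left ∧ Surjective b.left ∧ LocallyOfFinitePresentation b.left ∧ a ≫ f = (yon S).map b ≫ g) :
    Epi f :=
  haveI := isLocallySurjective_of_sq f h
  inferInstance

theorem epi_of_repWith {F G : Sp S} {f : F ⟶ G} (he : RepWith @Etale f) (hs : RepWith @Surjective f) :
    Epi f := by
  refine epi_of_sq f fun T g => ?_
  obtain ⟨V, a, b, sq⟩ := exists_sq he.1 g
  have : Etale b.left := he.2 _ _ _ sq
  have := hs.2 _ _ _ sq
  exact ⟨V, b, a, inferInstance, ‹_›, inferInstance, sq.w⟩

theorem effectiveEpi_of_epi {F G : Sp S} (f : F ⟶ G) [Epi f] : EffectiveEpi f := by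
  have := IsRegularEpiCategory.regularEpiOfEpi f
  exact (isRegularEpi_iff_effectiveEpi f).mp inferInstance

/-- Maps out of a sheaf with a representable etale surjective chart are given by maps out of the chart. -/
theorem exists_desc_of_atlas {F G : Sp S} {U : Over S} {p : (yon S).obj U ⟶ F}
    (he : RepWith @Etale p) (hs : RepWith @Surjective p) (m : (yon S).obj U ⟶ G)
    (h : ∀ ⦃T : Over S⦄ (a b : T ⟶ U), (yon S).map a ≫ p = (yon S).map b ≫ p →
      (yon S).map a ≫ m = (yon S).map b ≫ m) :
    ∃ n : F ⟶ G, p ≫ n = m := by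
  have := epi_of_repWith he hs
  have := effectiveEpi_of_epi p
  refine ⟨EffectiveEpi.desc p m fun g₁ g₂ w => ?_, EffectiveEpi.fac p m _⟩
  refine Groth.Agent.AlgSpc.hom_ext fun T t => ?_
  have := h (pre (t ≫ g₁)) (pre (t ≫ g₂)) (by simp [w])
  simpa using this

/-- A monomorphism that is locally surjective is an isomorphism. -/
theorem isIso_of_mono_of_sq {F G : Sp S} (f : F ⟶ G) [Mono f]
    (h : ∀ ⦃T : Over S⦄ (g : (yon S).obj T ⟶ G), ∃ (V : Over S) (b : V ⟶ T) (a : (yon S).obj V ⟶ F),
      Flat b.left ∧ Surjective b.left ∧ LocallyOfFinitePresentation b.left ∧ a ≫ f = (yon S).map b ≫ g) :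
    IsIso f :=
  haveI := epi_of_sq f h
  isIso_of_mono_of_epi f

/-- A monomorphism which is etale and surjective is an isomorphism. -/
theorem isIso_of_mono_etale_surjective {X Y : Sp S} (hX : IsAlgSpace X) (f : X ⟶ Y) [Mono f]
    (he : IsEtaleMor f) (hs : Function.Surjective (Points.map f)) : IsIso f := by
  obtain ⟨U, p, hp, hps⟩ := hX.atlas
  refine isIso_of_mono_of_sq f fun T g => ?_
  obtain ⟨V, a, b, sq⟩ := exists_sq (he p hp).1 g
  have : Etale b.left := (he p hp).2 _ _ _ sq
  refine ⟨V, b, a ≫ p, inferInstance, ?_, inferInstance, by rw [Category.assoc]; exact sq.w⟩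
  refine surjective_of_sq ?_ sq
  intro y
  obtain ⟨x, rfl⟩ := hs y
  obtain ⟨u, rfl⟩ := surjective_map_of_repWith hps x
  exact ⟨u, Points.map_comp _ _ _⟩

end Groth.Agent.AlgSpLoc
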