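import Groth.Agent.AlgSpLoc.SourceFppf
import Groth.Agent.AlgSpLoc.Cover
import Groth.Agent.AlgSpc.LfpCancel
import Groth.Agent.FpqcDescent.FlatFactor
import Groth.Agent.AlgSpc.FibreProd

/-!
Flatness, LFT and LFP descend along surjections of fppf sheaves on the source.
-/

set_option autoImplicit false
set_option backward.isDefEq.respectTransparency false

universe u

open CategoryTheory CategoryTheory.Limits AlgebraicGeometry Opposite

namespace Groth.Agent.AlgSpLoc

open _root_.AlgSp Groth.Agent.AlgSpc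

variable {S : Scheme.{u}}

/-- A covering sieve contains a jointly surjective fppf family. -/
theorem exists_fppf_of_mem_J {T : Over S} {R : Sieve T} (hR : R ∈ J S T) :
    ∃ (κ : Type u) (U : κ → Over S) (v : ∀ k, U k ⟶ T), (∀ k, R.arrows (v k)) ∧ (∀ k, Flat (v k).left) ∧
      (∀ k, LocallyOfFinitePresentation (v k).left) ∧ ∀ t : ↥T.left, ∃ k, t ∈ Set.range (v k).left := by
  have : Precoverage.HasIsos (Scheme.fppfPrecoverage : Precoverage Scheme.{u}) := by
    rw [Scheme.fppfPrecoverage]; infer_instance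
  rw [show J S = (Scheme.fppfPrecoverage.toGrothendieck).over S from rfl, GrothendieckTopology.mem_over_iff,
    Precoverage.mem_toGrothendieck_iff_of_isStableUnderComposition] at hR
  obtain ⟨P, hP, hle⟩ := hR
  rw [Scheme.fppfPrecoverage, Precoverage.mem_iff_exists_zeroHypercover] at hP
  obtain ⟨𝒰, rfl⟩ := hP
  obtain ⟨h1, h2⟩ := (Scheme.ofArrows_mem_precoverage_iff _).mp 𝒰.mem₀
  choose i hi using h1
  refine ⟨↥T.left, fun t => Over.mk (𝒰.f (i t) ≫ T.hom), fun t => Over.homMk (𝒰.f (i t)) rfl,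
    fun t => (Sieve.overEquiv_iff R (𝒰.f (i t))).1 (hle _ _ (Presieve.ofArrows.mk (i t))), fun t => (h2 (i t)).1, fun t => (h2 (i t)).2,
    fun t => ⟨t, hi t⟩⟩

/-- If `P` descends along factorisations through fppf coverings, it descends along surjections of sheaves. -/
theorem locP_of_comp_of_locallySurjective {P : MorphismProperty Scheme.{u}} [IsZariskiLocalAtSource P]
    (hfac : ∀ {X Y Z Y' : Scheme.{u}} (f : X ⟶ Y) (q : Y ⟶ Z) (g : Y' ⟶ Y) (l : Y' ⟶ X), l ≫ f = g →
      Flat g → LocallyOfFinitePresentation g → Surjective g → P (f ≫ q) → P q)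
    {X Y Z : Sp S} (hX : IsAlgSpace X) (hY : IsAlgSpace Y) (g : X ⟶ Y) (h : Y ⟶ Z)
    (hg : Sheaf.IsLocallySurjective g) (hgh : LocP P (g ≫ h)) : LocP P h := by
  intro U V a b k ha hb w
  obtain ⟨κ, T, v, hRv, hvf, hvp, hvs⟩ := exists_fppf_of_mem_J
    (hg.imageSieve_mem (U := op U |>.unop) ((J S).uliftYonedaEquiv a))
  choose l hl using hRv
  have hl' : ∀ j, (J S).uliftYonedaEquiv.symm (l j) ≫ g = (yon S).map (v j) ≫ a := fun j => by
    apply (J S).uliftYonedaEquiv.injective
    rw [GrothendieckTopology.uliftYonedaEquiv_comp, Equiv.apply_symm_apply]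
    exact (hl j).trans (GrothendieckTopology.uliftYonedaEquiv_naturality _ _ _)
  -- a chart of `X ×_Y U`
  have sR := IsPullback.of_hasPullback g a
  have hR : IsAlgSpace (pullback g a) := isAlgSpace_of_isPullback hX hY (IsAlgSpace.yon_obj U) sR
  obtain ⟨U₂, c, hc, hcs⟩ := hR.atlas
  let f : U₂ ⟶ U := pre (c ≫ pullback.snd g a)
  have hk : P (f ≫ k).left := by
    refine hgh (c ≫ pullback.fst g a) b (f ≫ k) (repWith_comp hc (repWith_of_isPullback sR.flip ha)) hb ?_
    simp only [Functor.map_comp, Category.assoc, ← w, f, map_pre, pullback.condition_assoc]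
  -- lifts to the chart
  choose T' p q sq using fun j => exists_sq hc.1 (pullback.lift _ _ (hl' j))
  choose p' hp' using fun j => (yon S).map_surjective (p j)
  have hq : ∀ j, Etale (q j).left := fun j => hc.2 _ _ _ (sq j)
  have hqs : ∀ j, Surjective (q j).left := fun j => hcs.2 _ _ _ (sq j)
  have e : ∀ j, (p' j).left ≫ f.left = (q j).left ≫ (v j).left := fun j => by
    rw [← Over.comp_left, ← Over.comp_left]
    congr 1
    refine (yon S).map_injective ?_
    rw [Functor.map_comp, hp', map_pre, ← Category.assoc, (sq j).w]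
    simp
  let F : κ → Scheme.{u} := fun j => (T' j).left
  refine hfac f.left k.left (Sigma.desc fun j => (q j).left ≫ (v j).left) (Sigma.desc fun j => (p' j).left)
    (Sigma.hom_ext _ _ fun j => by rw [Sigma.ι_desc_assoc, Sigma.ι_desc, e]) ?_ ?_ ⟨fun t => ?_⟩ hk
  · refine IsZariskiLocalAtSource.of_openCover (P := @Flat) (sigmaOpenCover F) fun j => ?_
    change Flat (Sigma.ι F j ≫ _)
    rw [Sigma.ι_desc]
    have := hq j; have := hvf j
    infer_instance
  · refine IsZariskiLocalAtSource.of_openCover (P := @LocallyOfFinitePresentation) (sigmaOpenCover F) fun j => ?_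
    change LocallyOfFinitePresentation (Sigma.ι F j ≫ _)
    rw [Sigma.ι_desc]
    have := hq j; have := hvp j
    infer_instance
  · obtain ⟨j, x, rfl⟩ := hvs t
    obtain ⟨y, rfl⟩ := (hqs j).surj x
    refine ⟨Sigma.ι F j y, ?_⟩
    rw [← Scheme.Hom.comp_apply, Sigma.ι_desc]
    rfl

theorem hfac_lft {X Y Z Y' : Scheme.{u}} (f : X ⟶ Y) (q : Y ⟶ Z) (g : Y' ⟶ Y) (l : Y' ⟶ X) (hl : l ≫ f = g)
    (_ : Flat g) (_ : LocallyOfFinitePresentation g) (_ : Surjective g) (h : LocallyOfFiniteType (f ≫ q)) :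
    LocallyOfFiniteType q := by
  let s : Y' ⟶ pullback f g := pullback.lift l (𝟙 Y') (by rw [hl, Category.id_comp])
  have e : g ≫ q = s ≫ pullback.fst f g ≫ f ≫ q := by rw [pullback.lift_fst_assoc, ← hl, Category.assoc]
  have : LocallyOfFiniteType (s ≫ pullback.snd f g) := by rw [pullback.lift_snd]; infer_instance
  have : LocallyOfFiniteType s := locallyOfFiniteType_of_comp s (pullback.snd f g)
  have : LocallyOfFiniteType (g ≫ q) := by rw [e]; infer_instance
  exact GenFlat.locallyOfFiniteType_of_fppf_comp g q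

theorem hfac_lfp {X Y Z Y' : Scheme.{u}} (f : X ⟶ Y) (q : Y ⟶ Z) (g : Y' ⟶ Y) (l : Y' ⟶ X) (hl : l ≫ f = g)
    (_ : Flat g) (_ : LocallyOfFinitePresentation g) (_ : Surjective g)
    (h : LocallyOfFinitePresentation (f ≫ q)) : LocallyOfFinitePresentation q := by
  let s : Y' ⟶ pullback f g := pullback.lift l (𝟙 Y') (by rw [hl, Category.id_comp])
  have e : g ≫ q = s ≫ pullback.fst f g ≫ f ≫ q := by rw [pullback.lift_fst_assoc, ← hl, Category.assoc]
  have : LocallyOfFiniteType (pullback.snd f g ≫ g ≫ q) := by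
    rw [← pullback.condition_assoc]; infer_instance
  have : LocallyOfFiniteType (pullback.snd f g) := locallyOfFiniteType_of_comp _ (g ≫ q)
  have : LocallyOfFinitePresentation (s ≫ pullback.snd f g) := by rw [pullback.lift_snd]; infer_instance
  have : LocallyOfFinitePresentation s := lfp_of_comp s (pullback.snd f g)
  have : LocallyOfFinitePresentation (g ≫ q) := by rw [e]; infer_instance
  exact GenFlat.locallyOfFinitePresentation_of_fppf_comp g q

theorem hfac_flat {X Y Z Y' : Scheme.{u}} (f : X ⟶ Y) (q : Y ⟶ Z) (g : Y' ⟶ Y) (l : Y' ⟶ X) (hl : l ≫ f = g)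
    (_ : Flat g) (_ : LocallyOfFinitePresentation g) (_ : Surjective g) (h : Flat (f ≫ q)) : Flat q :=
  FpqcDescent.flat_of_flat_comp_of_factor f q g l hl

end Groth.Agent.AlgSpLoc
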