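import Groth.Agent.AlgSpLoc.AffineCoeq
import Groth.Agent.AlgSpLoc.OpenImm
import Mathlib.AlgebraicGeometry.QuasiAffine

/-!
An algebraic space over an affine scheme which becomes (quasi-)affine after a faithfully flat affine base change
is (quasi-)affine.
-/

set_option autoImplicit false
set_option backward.isDefEq.respectTransparency false

universe u

open CategoryTheory CategoryTheory.Limits AlgebraicGeometry Opposite

namespace Groth.Agent.AlgSpLoc

open _root_.AlgSp Groth.Agent.AlgSpc

variable {S : Scheme.{u}}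

/-- Base change of an fpqc covering. -/
theorem isFpqcCover_of_isPullback {X X' : Sp S} {a : X' ⟶ X} {ι : Type u} {Xi Xi' : ι → Sp S}
    {g : ∀ i, Xi i ⟶ X} {q : ∀ i, Xi' i ⟶ X'} {p : ∀ i, Xi' i ⟶ Xi i}
    (hX : IsAlgSpace X) (hX' : IsAlgSpace X') (hXi : ∀ i, IsAlgSpace (Xi i))
    (sq : ∀ i, IsPullback (q i) (p i) a (g i)) (h : IsFpqcCover Xi g) : IsFpqcCover Xi' q := by
  refine ⟨fun i => locP_base_change (hXi i) hX hX' (sq i).flip (h.1 i), fun Z hZ z => ?_⟩
  obtain ⟨m, W, c, hW, hc, hs, hl⟩ := h.2 Z hZ (z ≫ a)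
  refine ⟨m, W, c, hW, hc, hs, fun j => ?_⟩
  obtain ⟨i, l, hli⟩ := hl j
  exact ⟨i, (sq i).lift ((yon S).map (c j) ≫ z) l (by rw [Category.assoc, hli]), (sq i).lift_fst _ _ _⟩

/-- An algebraic space over an affine scheme, quasi-affine after base change along an fpqc covering by affine schemes,
is a quasi-compact open of an affine scheme; it is affine if its base changes are. -/
theorem exists_open_in_affine {X : Sp S} (hX : IsAlgSpace X) {T : Over S} [IsAffine T.left]
    {ι : Type u} {T' : ι → Over S} [∀ i, IsAffine (T' i).left] (c : ∀ i, T' i ⟶ T)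
    [∀ i, Flat (c i).left] (hcov : IsFpqcCover (fun i => (yon S).obj (T' i)) (fun i => (yon S).map (c i)))
    (f : X ⟶ (yon S).obj T) {W : ι → Over S} (qW : ∀ i, (yon S).obj (W i) ⟶ X) (fW : ∀ i, W i ⟶ T' i)
    (sq : ∀ i, IsPullback (qW i) ((yon S).map (fW i)) f ((yon S).map (c i)))
    [∀ i, (W i).left.IsQuasiAffine] :
    ∃ (B : Over S) (b : B ⟶ T) (V : Over S) (j : V ⟶ B) (e : (yon S).obj V ≅ X),
      IsAffine B.left ∧ IsOpenImmersion j.left ∧ CompactSpace ↥V.left ∧
      e.hom ≫ f = (yon S).map (j ≫ b) ∧ ((∀ i, IsAffine (W i).left) → IsIso j) := by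
  have hT := IsAlgSpace.yon_obj T
  have hW := fun i => IsAlgSpace.yon_obj (W i)
  -- quasi-compact and quasi-separated by descent
  have hfqc : ∀ i, QuasiCompact (fW i).left :=
    fun i => (quasiCompact_iff_compactSpace (fW i).left).2 inferInstance
  have hfs : ∀ i, IsSeparated (fW i).left := fun i => inferInstance
  have hqc : IsQuasiCompactMor f :=
    quasiCompact_of_cover (p := fun i => (yon S).map (fW i)) (q := qW) hcov
      sq hX hT fun i => isQuasiCompactMor_of_repWith ((repWith_yon_map_iff _ (fW i)).2 (hfqc i))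
  have hqs : RepWith @QuasiCompact (pullback.diagonal f) :=
    repWith_diagonal_of_cover (p := fun i => (yon S).map (fW i)) (q := qW) hX hcov
      sq fun i => (isQuasiSeparatedMor_yon_map_iff (fW i)).2 inferInstance
  have hXc : IsQuasiCompactSp X := hqc hT isQuasiCompactSp_yon (𝟙 _) _ _ (IsPullback.id_vert f).flip
  obtain ⟨U, p, hU, hp, hps⟩ := (isQuasiCompactSp_iff_affine hX).1 hXc
  let u : U ⟶ T := pre (p ≫ f)
  have hu : (yon S).map u = p ≫ f := map_pre _
  -- the equivalence relation
  let UU := pullback u u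
  have hUU : IsAffine UU.left := IsAffine.of_isPullback (show IsPullback (pullback.fst u u).left
    (pullback.snd u u).left u.left u.left from (IsPullback.of_hasPullback u u).map (Over.forget S))
  let k : (yon S).obj UU ⟶ pullback f f :=
    pullback.lift ((yon S).map (pullback.fst u u) ≫ p) ((yon S).map (pullback.snd u u) ≫ p) (by
      have key : (yon S).map (pullback.fst u u) ≫ (yon S).map u = (yon S).map (pullback.snd u u) ≫ (yon S).map u := by
        rw [← Functor.map_comp, ← Functor.map_comp, pullback.condition]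
      rw [hu] at key
      simpa only [Category.assoc] using key)
  obtain ⟨V, fstV, sndV, sqV⟩ := exists_sq hqs.1 k
  have : QuasiCompact sndV.left := hqs.2 _ _ _ sqV
  have : CompactSpace ↥V.left := QuasiCompact.compactSpace_of_compactSpace sndV.left
  let r₁ : V ⟶ U := sndV ≫ pullback.fst u u
  let r₂ : V ⟶ U := sndV ≫ pullback.snd u u
  have hr : (yon S).map r₁ ≫ p = (yon S).map r₂ ≫ p := by
    have w1 := congrArg (· ≫ pullback.fst f f) sqV.w
    have w2 := congrArg (· ≫ pullback.snd f f) sqV.w
    simp [k] at w1 w2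
    simp [r₁, r₂, ← w1, ← w2]
  have hfac : ∀ ⦃Z : Over S⦄ (a b : Z ⟶ U), (yon S).map a ≫ p = (yon S).map b ≫ p →
      ∃ r : Z ⟶ V, r ≫ r₁ = a ∧ r ≫ r₂ = b := by
    intro Z a b w
    have hab : a ≫ u = b ≫ u := (yon S).map_injective (by simp [hu, reassoc_of% w])
    let ab : Z ⟶ UU := pullback.lift a b hab
    have hl : ((yon S).map a ≫ p) ≫ pullback.diagonal f = (yon S).map ab ≫ k := by
      apply pullback.hom_ext
      · simp [k, ab, ← Functor.map_comp_assoc]
      · simp [k, ab, ← Functor.map_comp_assoc, w]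
    refine ⟨pre (sqV.lift _ _ hl), ?_, ?_⟩ <;>
    · apply (yon S).map_injective
      simp only [r₁, r₂, Functor.map_comp, map_pre, IsPullback.lift_snd_assoc]
      rw [← Functor.map_comp]
      simp [ab]
  -- affine cover of the equivalence relation
  let 𝒰 := V.left.affineCover.finiteSubcover
  have : ∀ i, IsAffine (𝒰.X i) := fun i => inferInstanceAs (IsAffine (V.left.affineCover.X _))
  let σ₀ : (∐ 𝒰.X) ⟶ V.left := Sigma.desc 𝒰.f
  let Ra : Over S := Over.mk (σ₀ ≫ V.hom)
  let σ : Ra ⟶ V := Over.homMk σ₀ rfl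
  have : IsAffine Ra.left := inferInstanceAs (IsAffine (∐ 𝒰.X))
  have hσ : ∀ ⦃Z : Scheme.{u}⦄ (a b : V.left ⟶ Z), σ₀ ≫ a = σ₀ ≫ b → a = b := fun Z a b w =>
    Scheme.Cover.hom_ext 𝒰 _ _ fun i => by
      have := congrArg (Sigma.ι 𝒰.X i ≫ ·) w
      simpa [σ₀] using this
  have hw : (σ ≫ r₁) ≫ u = (σ ≫ r₂) ≫ u := (yon S).map_injective (by simp [hu, reassoc_of% hr])
  obtain ⟨B₀, hB₀, b₀, π₀, hπb, hπr, hstab⟩ := exists_stable_coequalizer u.left (σ ≫ r₁).left
    (σ ≫ r₂).left (congrArg CommaMorphism.left hw)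
  let B : Over S := Over.mk (b₀ ≫ T.hom)
  let b : B ⟶ T := Over.homMk b₀ rfl
  let π : U ⟶ B := Over.homMk π₀ (show π₀ ≫ b₀ ≫ T.hom = U.hom by rw [reassoc_of% hπb]; exact Over.w u)
  have : IsAffine B.left := hB₀
  have hπb' : π ≫ b = u := Over.OverMorphism.ext hπb
  obtain ⟨m, hm⟩ := exists_desc_of_atlas hp hps ((yon S).map π) fun Z a b' w => by
    obtain ⟨r, rfl, rfl⟩ := hfac a b' w
    rw [← Functor.map_comp, ← Functor.map_comp]
    congr 1
    ext : 1
    simp only [Category.assoc, Over.comp_left]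
    congr 1
    refine hσ _ _ ?_
    simpa [σ, π, Category.assoc] using hπr
  have := epi_of_repWith hp hps
  have hmb : m ≫ (yon S).map b = f := by
    rw [← cancel_epi p, reassoc_of% hm, ← Functor.map_comp, hπb', hu]
  -- base change
  have key : ∀ i, ∃ mW : W i ⟶ pullback (c i) b,
      IsPullback (qW i) ((yon S).map mW) m ((yon S).map (pullback.snd (c i) b)) ∧
      IsOpenImmersion mW.left ∧ (IsAffine (W i).left → IsIso mW.left) := by
    suffices ∀ (T' : Over S) (c : T' ⟶ T) (W : Over S) (qW : (yon S).obj W ⟶ X) (fW : W ⟶ T'),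
        IsAffine T'.left → Flat c.left → W.left.IsQuasiAffine →
        IsPullback qW ((yon S).map fW) f ((yon S).map c) →
        ∃ mW : W ⟶ pullback c b, IsPullback qW ((yon S).map mW) m ((yon S).map (pullback.snd c b)) ∧
          IsOpenImmersion mW.left ∧ (IsAffine W.left → IsIso mW.left) from
      fun i => this (T' i) (c i) (W i) (qW i) (fW i) inferInstance inferInstance inferInstance (sq i)
    intro T' c W qW fW _ _ _ sq
    let B' := pullback c b
    let U' := pullback c u
    let R' := pullback c ((σ ≫ r₁) ≫ u)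
    have hB' : IsAffine B'.left := IsAffine.of_isPullback (show IsPullback (pullback.fst c b).left
      (pullback.snd c b).left c.left b.left from (IsPullback.of_hasPullback c b).map (Over.forget S))
    let π' : U' ⟶ B' := pullback.map c u c b (𝟙 _) π (𝟙 _) (by simp) (by simp [hπb'])
    let r₁' : R' ⟶ U' := pullback.map c ((σ ≫ r₁) ≫ u) c u (𝟙 _) (σ ≫ r₁) (𝟙 _) (by simp) (by simp)
    let r₂' : R' ⟶ U' := pullback.map c ((σ ≫ r₁) ≫ u) c u (𝟙 _) (σ ≫ r₂) (𝟙 _) (by simp) (by simp [← hw])
    have coeq : ∀ {Q : Scheme.{u}} [IsAffine Q] (h : U'.left ⟶ Q), r₁'.left ≫ h = r₂'.left ≫ h →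
        ∃! k : B'.left ⟶ Q, π'.left ≫ k = h :=
      hstab c.left inferInstance _ _ ((IsPullback.of_hasPullback c b).map (Over.forget S))
        _ _ ((IsPullback.of_hasPullback c u).map (Over.forget S))
        _ _ ((IsPullback.of_hasPullback c ((σ ≫ r₁) ≫ u)).map (Over.forget S))
        π'.left r₁'.left r₂'.left
        (by simp [π', ← Over.comp_left]) (by simp [π', ← Over.comp_left]; rfl)
        (by simp [r₁', ← Over.comp_left]) (by simp [r₁', ← Over.comp_left])
        (by simp [r₂', ← Over.comp_left]) (by simp [r₂', ← Over.comp_left])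
    -- the chart of the base change
    let p' : U' ⟶ W := pre (sq.lift ((yon S).map (pullback.snd c u) ≫ p) ((yon S).map (pullback.fst c u)) (by
      rw [Category.assoc, ← hu, ← Functor.map_comp, ← Functor.map_comp, pullback.condition]))
    have hp'1 : (yon S).map p' ≫ qW = (yon S).map (pullback.snd c u) ≫ p := by simp [p']
    have hp'2 : p' ≫ fW = pullback.fst c u := (yon S).map_injective (by simp [p'])
    have sqp : IsPullback ((yon S).map (pullback.snd c u)) ((yon S).map p') p qW := by
      refine IsPullback.of_bot ?_ hp'1.symm sq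
      rw [← Functor.map_comp, hp'2, ← hu]
      exact (IsPullback.of_hasPullback c u).flip.map (yon S)
    have hp'e := repWith_of_isPullback sqp hp
    have := epi_of_repWith hp'e (repWith_of_isPullback sqp hps)
    have hepi : ∀ {Z : Over S} (a a' : W ⟶ Z), p' ≫ a = p' ≫ a' → a = a' := fun a a' h =>
      (yon S).map_injective ((cancel_epi ((yon S).map p')).1 (by rw [← Functor.map_comp, h, Functor.map_comp]))
    have hwmW : (qW ≫ m) ≫ (yon S).map b = (yon S).map fW ≫ (yon S).map c := by
      rw [Category.assoc, hmb]; exact sq.w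
    let mW : W ⟶ B' := pullback.lift fW (pre (qW ≫ m)) ((yon S).map_injective (by simp [← hwmW]))
    have sqm : IsPullback qW ((yon S).map mW) m ((yon S).map (pullback.snd c b)) := by
      refine IsPullback.of_bot (h₃₁ := (yon S).map c) (v₂₁ := (yon S).map (pullback.fst c b)) ?_ ?_
        ((IsPullback.of_hasPullback c b).flip.map (yon S))
      · rw [← Functor.map_comp, hmb, show mW ≫ pullback.fst c b = fW from pullback.lift_fst _ _ _]
        exact sq
      · rw [← Functor.map_comp, show mW ≫ pullback.snd c b = _ from pullback.lift_snd _ _ _, map_pre]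
    have hp'm : p' ≫ mW = π' := by
      apply pullback.hom_ext
      · simp [mW, π', hp'2]
      · apply (yon S).map_injective
        simp [mW, π', reassoc_of% hp'1, hm]
    have hr' : r₁' ≫ p' = r₂' ≫ p' := by
      apply (yon S).map_injective
      apply sq.hom_ext
      · simp only [Functor.map_comp, Category.assoc, hp'1]
        rw [← Functor.map_comp_assoc, ← Functor.map_comp_assoc,
          show r₁' ≫ pullback.snd c u = _ from pullback.lift_snd _ _ _,
          show r₂' ≫ pullback.snd c u = _ from pullback.lift_snd _ _ _]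
        simp [hr]
      · simp only [← Functor.map_comp, Category.assoc, hp'2]
        congr 1
        simp [r₁', r₂']
    -- compare with the affinization
    let τ : W.left ⟶ Spec Γ(W.left, ⊤) := W.left.toSpecΓ
    obtain ⟨mΓ, hmΓ⟩ : ∃ mΓ : Spec Γ(W.left, ⊤) ⟶ B'.left, τ ≫ mΓ = mW.left :=
      ⟨Spec.map mW.left.appTop ≫ B'.left.isoSpec.inv, by
        rw [← Scheme.toSpecΓ_naturality_assoc]; simp [Scheme.isoSpec]⟩
    let WΓ : Over S := Over.mk (mΓ ≫ B'.hom)
    let τ' : W ⟶ WΓ := Over.homMk τ (show τ ≫ mΓ ≫ B'.hom = W.hom by rw [reassoc_of% hmΓ]; exact Over.w mW)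
    let mΓ' : WΓ ⟶ B' := Over.homMk mΓ rfl
    have hτm : τ' ≫ mΓ' = mW := Over.OverMorphism.ext hmΓ
    have hh : r₁'.left ≫ (p' ≫ τ').left = r₂'.left ≫ (p' ≫ τ').left := by
      rw [← Over.comp_left, ← Over.comp_left, reassoc_of% hr']
    have : IsAffine WΓ.left := inferInstanceAs (IsAffine (Spec _))
    obtain ⟨k', hk', -⟩ := coeq (p' ≫ τ').left hh
    obtain ⟨_, -, huniq⟩ := coeq π'.left (by
      rw [← hp'm, ← Over.comp_left, ← Over.comp_left, reassoc_of% hr'])
    have hk1 : k' ≫ mΓ = 𝟙 _ := by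
      refine (huniq (k' ≫ mΓ) ?_).trans (huniq (𝟙 _) (Category.comp_id _)).symm
      change π'.left ≫ k' ≫ mΓ = _
      rw [← Category.assoc, hk', Over.comp_left, Category.assoc]
      change p'.left ≫ τ ≫ mΓ = _
      rw [hmΓ, ← Over.comp_left, hp'm]
    have hk2 : mΓ ≫ k' = 𝟙 _ := by
      let k₁ : B' ⟶ WΓ := Over.homMk k' (show k' ≫ mΓ ≫ B'.hom = B'.hom by rw [reassoc_of% hk1])
      have hπk : π' ≫ k₁ = p' ≫ τ' := Over.OverMorphism.ext hk'
      have hWk : mW ≫ k₁ = τ' := hepi _ _ (by rw [← Category.assoc, hp'm, hπk])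
      have e : τ ≫ (mΓ ≫ k') = τ ≫ 𝟙 _ := by
        rw [← Category.assoc, hmΓ, Category.comp_id]
        exact congrArg CommaMorphism.left hWk
      apply ext_of_isAffine
      have e' := congrArg Scheme.Hom.appTop e
      simp only [Scheme.Hom.comp_appTop] at e'
      have : IsIso τ.appTop := by simp only [τ, Scheme.toSpecΓ_appTop]; infer_instance
      simpa only [Scheme.Hom.comp_appTop, cancel_mono τ.appTop] using e'
    have hiso : IsIso mΓ := ⟨k', hk2, hk1⟩
    have hmW : IsOpenImmersion mW.left := by rw [← hmΓ]; infer_instance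
    refine ⟨mW, sqm, hmW, fun _ => ?_⟩
    rw [← hmΓ]; infer_instance
  choose mW sqm hmW hmWiso using key
  -- descend
  have hB'sp := fun i => IsAlgSpace.yon_obj (pullback (c i) b)
  have hcov' : IsFpqcCover (fun i => (yon S).obj (pullback (c i) b)) (fun i => (yon S).map (pullback.snd (c i) b)) :=
    isFpqcCover_of_isPullback hT (IsAlgSpace.yon_obj B) (fun i => IsAlgSpace.yon_obj (T' i))
      (p := fun i => (yon S).map (pullback.fst (c i) b))
      (fun i => (IsPullback.of_hasPullback (c i) b).flip.map (yon S)) hcov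
  have hm' : RepWith @IsOpenImmersion m :=
    (isLocalOnBase_openImmersion _ _ (IsAlgSpace.yon_obj B) hB'sp hcov' m hX
      (fun i => (yon S).obj (W i)) (fun i => (yon S).map (mW i)) qW hW sqm).2
      fun i => (repWith_yon_map_iff _ (mW i)).2 (hmW i)
  obtain ⟨V', fstV', j, sqj⟩ := exists_sq hm'.1 (𝟙 ((yon S).obj B))
  have : IsIso fstV' := sqj.isIso_fst_of_isIso
  have hje : fstV' ≫ m = (yon S).map j := by rw [sqj.w, Category.comp_id]
  have hV'c : CompactSpace ↥V'.left := by
    have := compactSpace_points hXc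
    exact ((Points.schemeHomeo V').trans
      ⟨⟨Points.map fstV', Points.map (inv fstV'), fun x => by simp [← Points.map_comp, Points.map_id],
        fun x => by simp [← Points.map_comp, Points.map_id]⟩, Points.continuous_map _,
        Points.continuous_map _⟩).symm.compactSpace
  refine ⟨B, b, V', j, asIso fstV', inferInstance, hm'.2 _ _ _ sqj, hV'c, ?_, fun hWa => ?_⟩
  · rw [asIso_hom, ← hmb, reassoc_of% hje, Functor.map_comp]
  · have : ∀ i, IsIso (mW i) := fun i =>
      haveI : IsIso ((Over.forget S).map (mW i)) := hmWiso i (hWa i)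
      isIso_of_reflects_iso (mW i) (Over.forget S)
    have hmi : IsIso m :=
      (isLocalOnBase_iso _ _ (IsAlgSpace.yon_obj B) hB'sp hcov' m hX
        (fun i => (yon S).obj (W i)) (fun i => (yon S).map (mW i)) qW hW sqm).2
        fun i => (inferInstance : IsIso ((yon S).map (mW i)))
    have : IsIso ((yon S).map j) := hje ▸ inferInstance
    exact isIso_of_reflects_iso j (yon S)

end Groth.Agent.AlgSpLoc
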