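import Groth.Agent.AlgSpLoc.Inst
import Groth.Agent.AlgSpLoc.AffineDescent

/-!
Relations between the notions of coverings of algebraic spaces.
-/

set_option autoImplicit false
set_option backward.isDefEq.respectTransparency false

universe u

open CategoryTheory CategoryTheory.Limits AlgebraicGeometry Opposite

namespace Groth.Agent.AlgSpLoc

open _root_.AlgSp Groth.Agent.AlgSpc

variable {S : Scheme.{u}}

/-- An fppf covering is refined, over a scheme, by a jointly surjective family of flat lfp maps of schemes. -/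
theorem exists_fppf_family {ι : Type u} {X : Sp S} {Xi : ι → Sp S} {g : ∀ i, Xi i ⟶ X}
    (hX : IsAlgSpace X) (hXi : ∀ i, IsAlgSpace (Xi i)) (h : IsFppfCover Xi g) {T : Over S}
    (t : (yon S).obj T ⟶ X) :
    ∃ (U : ι → Over S) (c : ∀ i, U i ⟶ T), (∀ i, Flat (c i).left) ∧
      (∀ i, LocallyOfFinitePresentation (c i).left) ∧ (∀ s : ↥T.left, ∃ i, s ∈ Set.range (c i).left) ∧
      ∀ i, ∃ l : (yon S).obj (U i) ⟶ Xi i, l ≫ g i = (yon S).map (c i) ≫ t := by
  have sq := fun i => IsPullback.of_hasPullback (g i) t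
  have hR : ∀ i, IsAlgSpace (pullback (g i) t) := fun i =>
    isAlgSpace_of_isPullback (hXi i) hX (IsAlgSpace.yon_obj T) (sq i)
  choose U w hw hws using fun i => (hR i).atlas
  have hprop : ∀ {P : MorphismProperty Scheme.{u}} [EtLoc P] [P.IsStableUnderBaseChange] (i : ι),
      LocP P (g i) → P (pre (w i ≫ pullback.snd (g i) t)).left := fun {P} _ _ i hi =>
    locP_base_change (hXi i) hX (IsAlgSpace.yon_obj T) (sq i) hi (w i) (𝟙 _) _ (hw i) (repWith_id _ T)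
      (by simp)
  refine ⟨U, fun i => pre (w i ≫ pullback.snd (g i) t), fun i => hprop i (h.1 i).1,
    fun i => hprop i (h.1 i).2, fun s => ?_, fun i => ⟨w i ≫ pullback.fst (g i) t, ?_⟩⟩
  · obtain ⟨i, z, hz⟩ := h.2 (Points.ofPt t s)
    obtain ⟨r, -, hr⟩ := exists_point_of_isPullback (sq i) z (Points.ofScheme T s)
      (by rw [hz, Points.ofPt_eq_map_ofScheme])
    obtain ⟨v, rfl⟩ := surjective_ofPt (hws i) r
    refine ⟨i, v, ?_⟩
    rw [Points.map_ofPt, ofPt_pre] at hr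
    simpa using congrArg (Points.toScheme T) hr
  · simp [pullback.condition]

/-- An fppf covering is an fpqc covering. -/
theorem isFpqcCover_of_isFppfCover {ι : Type u} {X : Sp S} {Xi : ι → Sp S} {g : ∀ i, Xi i ⟶ X}
    (hX : IsAlgSpace X) (hXi : ∀ i, IsAlgSpace (Xi i)) (h : IsFppfCover Xi g) : IsFpqcCover Xi g := by
  refine ⟨fun i => (h.1 i).1, fun Z hZ z => ?_⟩
  obtain ⟨U, c, hc, hc', hs, hl⟩ := exists_fppf_family hX hXi h z
  choose l hl using hl
  have := hZ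
  let A := Σ i, (U i).left.affineOpens
  have hopen : ∀ a : A, IsOpenMap (c a.1).left := fun a => by
    have := hc a.1; have := hc' a.1
    exact (c a.1).left.isOpenMap
  obtain ⟨s, hs'⟩ := isCompact_univ.elim_finite_subcover
    (fun a : A => (c a.1).left '' (a.2.1 : Set (U a.1).left)) (fun a => hopen a _ a.2.1.2) (fun x _ => by
      obtain ⟨i, y, rfl⟩ := hs x
      obtain ⟨O, hO, hy, -⟩ := exists_isAffineOpen_mem_and_subset (show y ∈ (⊤ : (U i).left.Opens) from trivial)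
      exact Set.mem_iUnion.2 ⟨⟨i, ⟨O, hO⟩⟩, y, hy, rfl⟩)
  let e := s.equivFin.symm
  let W : Fin s.card → Over S := fun j => Over.mk ((e j).1.2.1.ι ≫ (U (e j).1.1).hom)
  let ιW : ∀ j, W j ⟶ U (e j).1.1 := fun j => Over.homMk (e j).1.2.1.ι rfl
  refine ⟨s.card, W, fun j => ιW j ≫ c _, fun j => (e j).1.2.2, fun j => ?_, fun z => ?_, fun j => ?_⟩
  · have := hc (e j).1.1
    change Flat ((e j).1.2.1.ι ≫ (c (e j).1.1).left)
    infer_instance
  · obtain ⟨a, ha, y, hy, rfl⟩ : ∃ a ∈ s, ∃ y ∈ (a.2.1 : Set (U a.1).left), (c a.1).left y = z := by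
      simpa [Set.mem_iUnion] using hs' (Set.mem_univ z)
    obtain ⟨j, hj⟩ := e.surjective ⟨a, ha⟩
    refine ⟨j, ?_⟩
    rw [show (ιW j ≫ c _).left = (e j).1.2.1.ι ≫ (c (e j).1.1).left from rfl]
    clear_value e
    obtain rfl : a = (e j).1 := by rw [hj]
    exact ⟨⟨y, hy⟩, rfl⟩
  · exact ⟨_, (yon S).map (ιW j) ≫ l _, by rw [Category.assoc, hl, Functor.map_comp, Category.assoc]⟩

/-- An etale surjective atlas is an fpqc covering. -/
theorem isFpqcCover_atlas {X : Sp S} (hX : IsAlgSpace X) {U : Over S} {p : (yon S).obj U ⟶ X}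
    (hp : RepWith @Etale p) (hps : RepWith @Surjective p) :
    IsFpqcCover (fun _ : PUnit.{u+1} => (yon S).obj U) (fun _ => p) := by
  refine isFpqcCover_of_isFppfCover hX (fun _ => IsAlgSpace.yon_obj U) ⟨fun _ => ⟨?_, ?_⟩, fun x => ?_⟩
  · exact locP_of_repWith (fun e f (_ : Etale e) (_ : Flat f) => inferInstanceAs (Flat (e ≫ f)))
      (repWith_mono (fun _ _ f (_ : Etale f) => inferInstanceAs (Flat f)) hp)
  · exact locP_of_repWith (fun e f (_ : Etale e) (_ : LocallyOfFinitePresentation f) =>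
      inferInstanceAs (LocallyOfFinitePresentation (e ≫ f)))
      (repWith_mono (fun _ _ f (_ : Etale f) => inferInstanceAs (LocallyOfFinitePresentation f)) hp)
  · obtain ⟨y, hy⟩ := surjective_map_of_repWith hps x
    exact ⟨PUnit.unit, y, hy⟩

/-- Composition of the lifting conditions of fpqc coverings. -/
theorem exists_lift_trans {ι : Type u} {X : Sp S} {Xi : ι → Sp S} {g : ∀ i, Xi i ⟶ X}
    {κ : ι → Type u} {Xij : ∀ i, κ i → Sp S} {gij : ∀ i j, Xij i j ⟶ Xi i}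
    (h : IsFpqcCover Xi g) (hij : ∀ i, IsFpqcCover (Xij i) (gij i)) (Z : Over S) (hZ : IsAffine Z.left)
    (z : (yon S).obj Z ⟶ X) :
    ∃ (m : ℕ) (W : Fin m → Over S) (c : ∀ j, W j ⟶ Z),
      (∀ j, IsAffine (W j).left) ∧ (∀ j, Flat (c j).left) ∧
      (∀ z : ↥Z.left, ∃ j, z ∈ Set.range (c j).left) ∧
      ∀ j, ∃ (r : Σ i, κ i) (l : (yon S).obj (W j) ⟶ Xij r.1 r.2),
        l ≫ gij r.1 r.2 ≫ g r.1 = (yon S).map (c j) ≫ z := by
  obtain ⟨m, W, c, hW, hc, hs, hl⟩ := h.2 Z hZ z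
  choose i l hl using hl
  choose m' W' c' hW' hc' hs' hl' using fun j => (hij (i j)).2 (W j) (hW j) (l j)
  let e := (Fintype.equivFin (Σ j, Fin (m' j))).symm
  refine ⟨_, fun r => W' (e r).1 (e r).2, fun r => c' (e r).1 (e r).2 ≫ c (e r).1, fun r => hW' _ _,
    fun r => ?_, fun z => ?_, fun r => ?_⟩
  · have := hc (e r).1; have := hc' (e r).1 (e r).2
    exact inferInstanceAs (Flat ((c' (e r).1 (e r).2).left ≫ (c (e r).1).left))
  · obtain ⟨j, y, rfl⟩ := hs z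
    obtain ⟨j', x, rfl⟩ := hs' j y
    obtain ⟨r, hr⟩ := e.surjective ⟨j, j'⟩
    have key : ∀ q : Σ j, Fin (m' j), q = ⟨j, j'⟩ →
        (c j).left ((c' j j').left x) ∈ Set.range (c' q.1 q.2 ≫ c q.1).left := by
      rintro _ rfl; exact ⟨x, rfl⟩
    exact ⟨r, key _ hr⟩
  · obtain ⟨k, l', hl''⟩ := hl' (e r).1 (e r).2
    exact ⟨⟨i (e r).1, k⟩, l', by rw [reassoc_of% hl'', hl, Functor.map_comp, Category.assoc]⟩

theorem isFpqcCover_sigma {ι : Type u} {X : Sp S} {Xi : ι → Sp S} {g : ∀ i, Xi i ⟶ X}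
    {κ : ι → Type u} {Xij : ∀ i, κ i → Sp S} {gij : ∀ i j, Xij i j ⟶ Xi i}
    (hX : IsAlgSpace X) (hXi : ∀ i, IsAlgSpace (Xi i)) (hXij : ∀ i j, IsAlgSpace (Xij i j))
    (h : IsFpqcCover Xi g) (hij : ∀ i, IsFpqcCover (Xij i) (gij i)) :
    IsFpqcCover (fun r : Σ i, κ i => Xij r.1 r.2) (fun r => gij r.1 r.2 ≫ g r.1) :=
  ⟨fun r => locP_comp (hXij r.1 r.2) (hXi r.1) hX ((hij r.1).1 r.2) (h.1 r.1), exists_lift_trans h hij⟩

theorem isFpqcCover_iff_of_chart {ι : Type u} {X : Sp S} {Xi : ι → Sp S} {g : ∀ i, Xi i ⟶ X}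
    (hX : IsAlgSpace X) (hXi : ∀ i, IsAlgSpace (Xi i)) {U : Over S} {p : (yon S).obj U ⟶ X}
    (hp : RepWith @Etale p) (hps : RepWith @Surjective p) {Ui : ι → Sp S} {q : ∀ i, Ui i ⟶ (yon S).obj U}
    {p' : ∀ i, Ui i ⟶ Xi i} (sq : ∀ i, IsPullback (q i) (p' i) p (g i)) :
    IsFpqcCover Xi g ↔ IsFpqcCover Ui q := by
  refine ⟨fun h => isFpqcCover_of_isPullback hX (IsAlgSpace.yon_obj U) hXi sq h, fun h => ⟨fun i => ?_, ?_⟩⟩
  · exact locP_of_cover (hXi i) hX (fun _ : PUnit.{u+1} => (yon S).obj U) (fun _ => p)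
      (fun _ => IsAlgSpace.yon_obj U) (isFpqcCover_atlas hX hp hps) (g i)
      (fun _ => Ui i) (fun _ => q i) (fun _ => p' i) (fun _ => (sq i).flip) (fun _ => h.1 i)
  · intro Z hZ z
    obtain ⟨m, W, c, hW, hc, hs, hl⟩ := exists_lift_trans (isFpqcCover_atlas hX hp hps)
      (κ := fun _ => ι) (Xij := fun _ => Ui) (gij := fun _ => q) (fun _ => h) Z hZ z
    refine ⟨m, W, c, hW, hc, hs, fun j => ?_⟩
    obtain ⟨r, l, hl'⟩ := hl j
    exact ⟨r.2, l ≫ p' r.2, by rw [Category.assoc, ← (sq r.2).w]; exact hl'⟩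

/-- Open subsets descend along fpqc coverings. -/
theorem existsUnique_open_descend {ι : Type u} {T : Sp S} {Ti : ι → Sp S} {g : ∀ i, Ti i ⟶ T}
    (hT : IsAlgSpace T) (hg : IsFpqcCover Ti g) (Wi : ∀ i, Set (Points (Ti i))) (hW : ∀ i, IsOpen (Wi i))
    (hc : ∀ i j, Points.map (pullback.fst (g i) (g j)) ⁻¹' Wi i =
      Points.map (pullback.snd (g i) (g j)) ⁻¹' Wi j) :
    ∃! W : TopologicalSpace.Opens (Points T), ∀ i, Points.map (g i) ⁻¹' (W : Set (Points T)) = Wi i := by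
  obtain ⟨κ, W, w, i, l, hl, hs, hdet⟩ := exists_detecting hg hT (𝟙 T)
  simp only [Category.comp_id] at hl
  let O : Set (Points T) := ⋃ i, Points.map (g i) '' Wi i
  have hO : ∀ j, Points.map (g j) ⁻¹' O = Wi j := fun j => by
    ext y
    refine ⟨fun hy => ?_, fun hy => Set.mem_iUnion.2 ⟨j, y, hy, rfl⟩⟩
    obtain ⟨i, x, hx, he⟩ := Set.mem_iUnion.1 hy
    obtain ⟨z, rfl, rfl⟩ := exists_point_of_isPullback (IsPullback.of_hasPullback (g i) (g j)) x y he
    exact (Set.ext_iff.1 (hc i j) z).1 hx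
  have hOo : IsOpen O := hdet O fun k => by
    rw [← hl k, show Points.ofPt (l k ≫ g (i k)) ⁻¹' O = Points.ofPt (l k) ⁻¹' (Points.map (g (i k)) ⁻¹' O) from by
      ext t; simp only [Set.mem_preimage, Points.map_ofPt], hO]
    exact (hW _).preimage (Points.continuous_ofPt _)
  refine ⟨⟨O, hOo⟩, hO, fun V hV => TopologicalSpace.Opens.ext (Set.ext fun x => ?_)⟩
  obtain ⟨k, t, rfl⟩ := hs x
  rw [← hl k, ← Points.map_ofPt]
  exact (Set.ext_iff.1 ((hV (i k)).trans (hO (i k)).symm) _)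

end Groth.Agent.AlgSpLoc
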