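import Groth.Agent.AlgSpLoc.Cover

/-!
Gluing morphisms out of representable sheaves, and sheaves covered by open subspaces which are schemes.
-/

set_option autoImplicit false
set_option backward.isDefEq.respectTransparency false

universe u w

open CategoryTheory CategoryTheory.Limits AlgebraicGeometry Opposite

namespace Groth.Agent.AlgSpLoc

open _root_.AlgSp Groth.Agent.AlgSpc

variable {S : Scheme.{u}}

/-- A jointly surjective family of flat, locally finitely presented maps is a covering. -/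
theorem ofArrows_mem_J {T : Over S} {κ : Type w} (U : κ → Over S) (u : ∀ k, U k ⟶ T)
    (hf : ∀ k, Flat (u k).left) (hp : ∀ k, LocallyOfFinitePresentation (u k).left)
    (hs : ∀ t : ↥T.left, ∃ k, t ∈ Set.range (u k).left) : Sieve.ofArrows U u ∈ J S T := by
  rw [show J S = (Scheme.fppfPrecoverage.toGrothendieck).over S from rfl,
    GrothendieckTopology.mem_over_iff]
  have : Presieve.ofArrows (fun k => (U k).left) (fun k => (u k).left) ∈ Scheme.fppfPrecoverage T.left := by
    rw [Scheme.fppfPrecoverage, Scheme.ofArrows_mem_precoverage_iff]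
    exact ⟨hs, fun k => ⟨hf k, hp k⟩⟩
  refine GrothendieckTopology.superset_covering _ ?_ (Precoverage.generate_mem_toGrothendieck this)
  rintro W _ ⟨W', a, _, ⟨k⟩, rfl⟩
  rw [Sieve.overEquiv_iff]
  exact ⟨U k, Over.homMk a (by simp), u k, ⟨k⟩, by ext; simp⟩

/-- Morphisms out of a scheme to a sheaf can be glued along an open covering. -/
theorem existsUnique_glue {X : Sp S} {T : Over S} {κ : Type w} (U : κ → Over S) (u : ∀ k, U k ⟶ T)
    (hu : ∀ k, IsOpenImmersion (u k).left) (hs : ∀ t : ↥T.left, ∃ k, t ∈ Set.range (u k).left)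
    (x : ∀ k, (yon S).obj (U k) ⟶ X)
    (hx : ∀ (k k' : κ) ⦃Z : Over S⦄ (a : Z ⟶ U k) (b : Z ⟶ U k'), a ≫ u k = b ≫ u k' →
      (yon S).map a ≫ x k = (yon S).map b ≫ x k') :
    ∃! y : (yon S).obj T ⟶ X, ∀ k, (yon S).map (u k) ≫ y = x k := by
  have hmem := ofArrows_mem_J U u (fun k => inferInstance) (fun k => inferInstance) hs
  have hX : Presieve.IsSheafFor X.obj (Presieve.ofArrows U u) :=
    (Presieve.isSheafFor_iff_generate _).2 (((isSheaf_iff_isSheaf_of_type _ _).1 X.property) _ hmem)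
  rw [Presieve.isSheafFor_arrows_iff] at hX
  obtain ⟨t, ht, htu⟩ := hX (fun k => (J S).uliftYonedaEquiv (x k)) fun k k' Z a b w => by
    rw [GrothendieckTopology.uliftYonedaEquiv_naturality, GrothendieckTopology.uliftYonedaEquiv_naturality]
    exact congrArg _ (hx k k' a b w)
  refine ⟨(J S).uliftYonedaEquiv.symm t, fun k => ?_, fun y hy => ?_⟩
  · apply (J S).uliftYonedaEquiv.injective
    rw [← GrothendieckTopology.uliftYonedaEquiv_naturality, Equiv.apply_symm_apply]
    exact ht k
  · rw [Equiv.eq_symm_apply]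
    refine htu _ fun k => ?_
    rw [GrothendieckTopology.uliftYonedaEquiv_naturality, hy k]

theorem hom_ext_of_openCover {X : Sp S} {T : Over S} {κ : Type w} (U : κ → Over S) (u : ∀ k, U k ⟶ T)
    (hu : ∀ k, IsOpenImmersion (u k).left) (hs : ∀ t : ↥T.left, ∃ k, t ∈ Set.range (u k).left)
    {y y' : (yon S).obj T ⟶ X} (h : ∀ k, (yon S).map (u k) ≫ y = (yon S).map (u k) ≫ y') : y = y' :=
  (existsUnique_glue U u hu hs (fun k => (yon S).map (u k) ≫ y) fun k k' Z a b w => by
    rw [← Functor.map_comp_assoc, w, Functor.map_comp_assoc]).unique (fun _ => rfl) fun k => (h k).symm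

/-- The open subscheme as an object over the base. -/
noncomputable def openSub (T : Over S) (O : T.left.Opens) : Over S := Over.mk (O.ι ≫ T.hom)

/-- The inclusion of an open subscheme. -/
noncomputable def openSubι (T : Over S) (O : T.left.Opens) : openSub T O ⟶ T := Over.homMk O.ι rfl

@[simp] theorem openSubι_left (T : Over S) (O : T.left.Opens) : (openSubι T O).left = O.ι := rfl

instance (T : Over S) (O : T.left.Opens) : IsOpenImmersion (openSubι T O).left :=
  inferInstanceAs (IsOpenImmersion O.ι)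

theorem range_openSubι (T : Over S) (O : T.left.Opens) : Set.range (openSubι T O).left = (O : Set T.left) :=
  Scheme.Opens.range_ι O

/-- Factor through an open subscheme. -/
theorem exists_openSub_lift {T T' : Over S} (O : T.left.Opens) (a : T' ⟶ T)
    (h : ∀ t, a.left t ∈ O) : ∃ b : T' ⟶ openSub T O, b ≫ openSubι T O = a := by
  have h' : Set.range a.left ⊆ Set.range O.ι := by
    rintro _ ⟨t, rfl⟩; exact ⟨⟨_, h t⟩, rfl⟩
  refine ⟨Over.homMk (IsOpenImmersion.lift O.ι a.left h') ?_, ?_⟩
  · change IsOpenImmersion.lift O.ι a.left _ ≫ O.ι ≫ T.hom = _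
    rw [IsOpenImmersion.lift_fac_assoc]; exact Over.w a
  · ext; exact IsOpenImmersion.lift_fac _ _ _

section

variable {ι : Type u} {X : Sp S} (V : ι → Over S) (e : ∀ i, (yon S).obj (V i) ⟶ X)

/-- The ordered set of opens of the members of the covering. -/
structure Piece where
  /-- the member -/
  i : ι
  /-- the open subscheme -/
  O : (V i).left.Opens

/-- The morphism of a piece to the sheaf. -/
noncomputable def Piece.hom (a : Piece V) : (yon S).obj (openSub (V a.i) a.O) ⟶ X :=
  (yon S).map (openSubι _ a.O) ≫ e a.i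

/-- Pieces are ordered by factorization. -/
@[instance_reducible] noncomputable def piecePreorder : Preorder (Piece V) where
  le a b := ∃ k : openSub (V a.i) a.O ⟶ openSub (V b.i) b.O, (yon S).map k ≫ b.hom V e = a.hom V e
  le_refl a := ⟨𝟙 _, by simp⟩
  le_trans a b c := fun ⟨k, hk⟩ ⟨l, hl⟩ => ⟨k ≫ l, by simp [hl, hk]⟩

theorem Piece.mono_hom (he : ∀ i, RepWith @IsOpenImmersion (e i)) (a : Piece V) : Mono (a.hom V e) := by
  have : Mono (e a.i) := mono_of_repWith (fun _ _ g (_ : IsOpenImmersion g) => inferInstance) (he a.i)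
  have : Mono (openSubι (V a.i) a.O) := (Over.forget S).mono_of_mono_map (inferInstanceAs (Mono a.O.ι))
  exact mono_comp _ _

/-- The chosen map between comparable pieces. -/
noncomputable def pieceMap {a b : Piece V}
    (h : letI := piecePreorder V e; a ≤ b) : openSub (V a.i) a.O ⟶ openSub (V b.i) b.O :=
  Classical.choose h

theorem pieceMap_spec {a b : Piece V} (h : letI := piecePreorder V e; a ≤ b) :
    (yon S).map (pieceMap V e h) ≫ b.hom V e = a.hom V e :=
  Classical.choose_spec h

variable {V e} (he : ∀ i, RepWith @IsOpenImmersion (e i))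

include he in
theorem piece_hom_unique {Z : Over S} {b : Piece V} {k k' : Z ⟶ openSub (V b.i) b.O}
    (h : (yon S).map k ≫ b.hom V e = (yon S).map k' ≫ b.hom V e) : k = k' :=
  haveI := Piece.mono_hom V e he b
  (yon S).map_injective ((cancel_mono (b.hom V e)).1 h)

/-- The diagram of pieces. -/
noncomputable def pieceFunctor : letI := piecePreorder V e; Piece V ⥤ Over S :=
  letI := piecePreorder V e
  { obj := fun a => openSub (V a.i) a.O
    map := fun h => pieceMap V e (leOfHom h)
    map_id := fun a => piece_hom_unique he (by rw [pieceMap_spec]; simp)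
    map_comp := fun {a b c} h h' => piece_hom_unique he (by
      rw [pieceMap_spec, Functor.map_comp, Category.assoc, pieceMap_spec, pieceMap_spec]) }

include he in
/-- Two members meet in an open of either. -/
theorem exists_meet (i j : ι) {Z : Over S} (a : Z ⟶ V i) (b : Z ⟶ V j)
    (w : (yon S).map a ≫ e i = (yon S).map b ≫ e j) :
    ∃ (O : (V i).left.Opens) (h : openSub (V i) O ⟶ V j), (∀ z, a.left z ∈ O) ∧
      (yon S).map h ≫ e j = (yon S).map (openSubι _ O) ≫ e i := by
  obtain ⟨P, pj, pi, sq⟩ := exists_sq (he j).1 (e i)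
  have : IsOpenImmersion pi.left := (he j).2 _ _ _ sq
  let O := pi.left.opensRange
  have hpi : ∃ q : openSub (V i) O ⟶ P, q ≫ pi = openSubι _ O := by
    refine ⟨Over.homMk (IsOpenImmersion.lift pi.left O.ι (Scheme.Opens.range_ι O).le) ?_, ?_⟩
    · change IsOpenImmersion.lift pi.left O.ι _ ≫ P.hom = O.ι ≫ (V i).hom
      rw [← Over.w pi, IsOpenImmersion.lift_fac_assoc]
    · ext; exact IsOpenImmersion.lift_fac _ _ _
  obtain ⟨q, hq⟩ := hpi
  refine ⟨O, pre ((yon S).map q ≫ pj), fun z => ?_, ?_⟩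
  · have : pre (sq.lift _ _ w.symm) ≫ pi = a := (yon S).map_injective (by simp)
    exact ⟨(pre (sq.lift _ _ w.symm)).left z, congr($(congrArg CommaMorphism.left this) z)⟩
  · rw [map_pre, Category.assoc, sq.w, ← Functor.map_comp_assoc, hq]

include he in
theorem isOpenImmersion_pieceMap {a b : Piece V} (h : letI := piecePreorder V e; a ≤ b) :
    IsOpenImmersion (pieceMap V e h).left := by
  obtain ⟨P, pj, pi, sq⟩ := exists_sq (he b.i).1 (a.hom V e)
  have : IsOpenImmersion pi.left := (he b.i).2 _ _ _ sq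
  let q := pre (sq.lift ((yon S).map (pieceMap V e h) ≫ (yon S).map (openSubι _ b.O)) (𝟙 _)
    (by rw [Category.assoc, Category.id_comp]; exact pieceMap_spec V e h))
  have hq : q ≫ pi = 𝟙 _ := (yon S).map_injective (by simp [q])
  have : Mono pi := (Over.forget S).mono_of_mono_map (inferInstanceAs (Mono pi.left))
  have hq' : pi ≫ q = 𝟙 _ := by rw [← cancel_mono pi, Category.assoc, hq]; simp
  have hj : IsOpenImmersion (pre pj).left := by
    obtain ⟨P', pi', pj', sq'⟩ := exists_sq (he a.i).1 (e b.i)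
    have : IsOpenImmersion pj'.left := (he a.i).2 _ _ _ sq'
    have w' : ((yon S).map pi ≫ (yon S).map (openSubι _ a.O)) ≫ e a.i = pj ≫ e b.i := by
      rw [sq.w, Category.assoc]; rfl
    let l := pre (sq'.lift _ _ w')
    have hl : l ≫ pj' = pre pj := (yon S).map_injective (by simp [l])
    have hl' : l ≫ pre pi' = pi ≫ openSubι _ a.O := (yon S).map_injective (by simp [l])
    have : IsOpenImmersion (pi ≫ openSubι _ a.O).left :=
      inferInstanceAs (IsOpenImmersion (pi.left ≫ (openSubι _ a.O).left))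
    have hi' : IsOpenImmersion (pre pi').left := (repWith_pre _).1 (repWith_of_isPullback sq'.flip (he b.i))
    have : IsOpenImmersion (l.left ≫ (pre pi').left) := by rw [← Over.comp_left, hl']; infer_instance
    have : IsOpenImmersion l.left := IsOpenImmersion.of_comp l.left (pre pi').left
    rw [← hl, Over.comp_left]; infer_instance
  have e1 : q ≫ pre pj = pieceMap V e h ≫ openSubι _ b.O :=
    (yon S).map_injective (by simp [q])
  have : IsIso q.left := by
    have : IsIso q := ⟨pi, hq, hq'⟩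
    exact inferInstanceAs (IsIso ((Over.forget S).map q))
  have : IsOpenImmersion ((pieceMap V e h).left ≫ (openSubι _ b.O).left) := by
    rw [← Over.comp_left, ← e1, Over.comp_left]; infer_instance
  exact IsOpenImmersion.of_comp (pieceMap V e h).left (openSubι _ b.O).left

theorem isLocallyDirected_pieceFunctor :
    letI := piecePreorder V e
    ((pieceFunctor he ⋙ Over.forget S) ⋙ Scheme.forget).IsLocallyDirected := by
  let := piecePreorder V e
  let F₀ : Piece V ⥤ Over S := pieceFunctor he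
  let F : Piece V ⥤ Scheme.{u} := F₀ ⋙ Over.forget S
  have hmap : ∀ {a b : Piece V} (h : a ⟶ b),
      (yon S).map (F₀.map h) ≫ b.hom V e = a.hom V e := fun h => pieceMap_spec V e (leOfHom h)
  have : ∀ {a b : Piece V} (h : a ⟶ b), IsOpenImmersion (F.map h) := fun h =>
    isOpenImmersion_pieceMap he (leOfHom h)
  constructor
  intro a b c f g x y hxy
  change (F.map f) x = (F.map g) y at hxy
  -- the common part
  let O : (V c.i).left.Opens :=
    ((openSubι _ c.O).left ''ᵁ ((F.map f).opensRange ⊓ (F.map g).opensRange))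
  let d : Piece V := ⟨c.i, O⟩
  have hO : ∀ z, (openSubι (V c.i) O).left z ∈ c.O := by
    intro z
    obtain ⟨w, -, hw⟩ := (show (openSubι (V c.i) O).left z ∈ (O : Set _) from (range_openSubι _ O).le ⟨z, rfl⟩)
    exact hw ▸ (range_openSubι _ c.O).le ⟨w, rfl⟩
  obtain ⟨k, hk⟩ := exists_openSub_lift c.O (openSubι (V c.i) O) hO
  have hsub : ∀ (a : Piece V) (f : a ⟶ c), (∀ z, k.left z ∈ (F.map f).opensRange) →
      ∃ l : openSub (V d.i) d.O ⟶ openSub (V a.i) a.O, l ≫ F₀.map f = k := by
    intro a f hr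
    have : IsOpenImmersion (F₀.map f).left := isOpenImmersion_pieceMap he (leOfHom f)
    have hr' : Set.range k.left ⊆ Set.range (F₀.map f).left := by rintro _ ⟨z, rfl⟩; exact hr z
    refine ⟨Over.homMk (IsOpenImmersion.lift (F₀.map f).left k.left hr') ?_, ?_⟩
    · exact (congrArg (_ ≫ ·) (Over.w (F₀.map f)).symm).trans
        ((IsOpenImmersion.lift_fac_assoc _ _ _ _).trans (Over.w k))
    · ext; exact IsOpenImmersion.lift_fac _ _ _
  have hkz : ∀ z, k.left z ∈ (F.map f).opensRange ⊓ (F.map g).opensRange := by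
    intro z
    obtain ⟨w, hw, hw'⟩ := (show (openSubι (V c.i) O).left z ∈ (O : Set _) from (range_openSubι _ O).le ⟨z, rfl⟩)
    have : (openSubι _ c.O).left (k.left z) = (openSubι (V c.i) O).left z := by
      rw [← Scheme.Hom.comp_apply, ← Over.comp_left, hk]
    rwa [(openSubι _ c.O).left.isOpenEmbedding.injective (this.trans hw'.symm)]
  obtain ⟨la, hla⟩ := hsub a f fun z => (hkz z).1
  obtain ⟨lb, hlb⟩ := hsub b g fun z => (hkz z).2
  have hda : d ≤ a := ⟨la, by
    rw [← hmap f, ← Functor.map_comp_assoc]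
    change (yon S).map (la ≫ F₀.map f) ≫ _ = _
    rw [hla, Piece.hom, ← Functor.map_comp_assoc, hk]; rfl⟩
  have hdb : d ≤ b := ⟨lb, by
    rw [← hmap g, ← Functor.map_comp_assoc]
    change (yon S).map (lb ≫ F₀.map g) ≫ _ = _
    rw [hlb, Piece.hom, ← Functor.map_comp_assoc, hk]; rfl⟩
  obtain ⟨z, hz⟩ : ∃ z, k.left z = (F.map f) x := by
    have : (openSubι _ c.O).left ((F.map f) x) ∈ O :=
      ⟨(F.map f) x, ⟨⟨x, rfl⟩, hxy ▸ ⟨y, rfl⟩⟩, rfl⟩
    obtain ⟨z, hz⟩ := (range_openSubι _ O).ge this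
    refine ⟨z, (openSubι _ c.O).left.isOpenEmbedding.injective ?_⟩
    rw [← hz, ← Scheme.Hom.comp_apply, ← Over.comp_left, hk]
  refine ⟨d, homOfLE hda, homOfLE hdb, z, ?_, ?_⟩
  · apply (F.map f).isOpenEmbedding.injective
    rw [← hz]
    change (F.map f) ((F.map (homOfLE hda)) z) = _
    rw [← Scheme.Hom.comp_apply, ← F.map_comp]
    change (F₀.map (homOfLE hda ≫ f)).left z = k.left z
    rw [show F₀.map (homOfLE hda ≫ f) = k from piece_hom_unique he (by
      rw [hmap, Piece.hom, Piece.hom, ← Functor.map_comp_assoc, hk])]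
    rfl
  · apply (F.map g).isOpenEmbedding.injective
    rw [← hxy, ← hz]
    change (F.map g) ((F.map (homOfLE hdb)) z) = _
    rw [← Scheme.Hom.comp_apply, ← F.map_comp]
    change (F₀.map (homOfLE hdb ≫ g)).left z = k.left z
    rw [show F₀.map (homOfLE hdb ≫ g) = k from piece_hom_unique he (by
      rw [hmap, Piece.hom, Piece.hom, ← Functor.map_comp_assoc, hk])]
    rfl

variable (V e) in
/-- A gluing of the pieces. -/
structure Gluing (W : Over S) where
  /-- the inclusions -/
  q : ∀ a : Piece V, openSub (V a.i) a.O ⟶ W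
  isOpenImmersion : ∀ a, IsOpenImmersion (q a).left
  surj : ∀ t : ↥W.left, ∃ a, t ∈ Set.range (q a).left
  nat : ∀ {a b : Piece V} (h : letI := piecePreorder V e; a ≤ b), pieceMap V e h ≫ q b = q a
  common : ∀ (a b : Piece V) (x : ↥(openSub (V a.i) a.O).left) (y : ↥(openSub (V b.i) b.O).left),
    (q a).left x = (q b).left y →
      ∃ (d : Piece V) (_ : letI := piecePreorder V e; d ≤ a) (_ : letI := piecePreorder V e; d ≤ b),
        (q a).left x ∈ Set.range (q d).left

include he in
theorem exists_gluing : ∃ W : Over S, Nonempty (Gluing V e W) := by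
  let := piecePreorder V e
  let F₀ : Piece V ⥤ Over S := pieceFunctor he
  let F : Piece V ⥤ Scheme.{u} := F₀ ⋙ Over.forget S
  have : ∀ {a b : Piece V} (h : a ⟶ b), IsOpenImmersion (F.map h) := fun h =>
    isOpenImmersion_pieceMap he (leOfHom h)
  have : (F ⋙ Scheme.forget).IsLocallyDirected := isLocallyDirected_pieceFunctor he
  let c : Cocone F :=
    { pt := S
      ι := { app := fun a => (openSub (V a.i) a.O).hom, naturality := fun a b f =>
              (Over.w (F₀.map f)).trans (Category.comp_id _).symm } }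
  let W : Over S := Over.mk (colimit.desc F c)
  let q : ∀ a : Piece V, openSub (V a.i) a.O ⟶ W := fun a => Over.homMk (colimit.ι F a) (colimit.ι_desc c a)
  refine ⟨W, ⟨⟨q, fun a => inferInstanceAs (IsOpenImmersion (colimit.ι F a)), fun t => ?_, fun h => ?_,
    fun a b x y hxy => ?_⟩⟩⟩
  · obtain ⟨a, x, hx⟩ := Scheme.IsLocallyDirected.ι_jointly_surjective F t
    exact ⟨a, x, hx⟩
  · ext : 1; exact colimit.w F (homOfLE h)
  · obtain ⟨d, fa, fb, z, hza, -⟩ := (Scheme.IsLocallyDirected.ι_eq_ι_iff F).1 hxy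
    refine ⟨d, leOfHom fa, leOfHom fb, z, ?_⟩
    change colimit.ι F d z = colimit.ι F a x
    rw [← hza, ← Scheme.Hom.comp_apply, colimit.w]

variable {W : Over S} (Γ : Gluing V e W)

theorem Gluing.mono_q (a : Piece V) : Mono (Γ.q a) :=
  haveI := Γ.isOpenImmersion a
  (Over.forget S).mono_of_mono_map (inferInstanceAs (Mono (Γ.q a).left))

/-- The piece of all of a member. -/
noncomputable abbrev topPiece (i : ι) : Piece V := ⟨i, ⊤⟩

theorem exists_le_topPiece (a : Piece V) : letI := piecePreorder V e; a ≤ topPiece a.i := by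
  obtain ⟨k, hk⟩ := exists_openSub_lift (T := V a.i) ⊤ (openSubι _ a.O) (fun _ => trivial)
  exact ⟨k, by change _ ≫ (yon S).map _ ≫ e a.i = _; rw [← Functor.map_comp_assoc, hk]; rfl⟩

theorem exists_glue_hom : ∃ n : (yon S).obj W ⟶ X, ∀ a, (yon S).map (Γ.q a) ≫ n = a.hom V e := by
  refine (existsUnique_glue (fun a : Piece V => openSub (V a.i) a.O) Γ.q Γ.isOpenImmersion Γ.surj
    (fun a => a.hom V e) fun a b Z s t w => ?_).exists
  have loc : ∀ z : Z.left, ∃ (d : Piece V) (_ : letI := piecePreorder V e; d ≤ a)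
      (_ : letI := piecePreorder V e; d ≤ b), (Γ.q a).left (s.left z) ∈ Set.range (Γ.q d).left :=
    fun z => Γ.common a b _ _ congr($(congrArg CommaMorphism.left w) z)
  choose d hda hdb hz using loc
  have hoi := fun z => Γ.isOpenImmersion (d z)
  let O : ↥Z.left → Z.left.Opens := fun z => (s ≫ Γ.q a).left ⁻¹ᵁ (Γ.q (d z)).left.opensRange
  refine hom_ext_of_openCover (fun z => openSub Z (O z)) (fun z => openSubι Z (O z)) (fun z => inferInstance)
    (fun z => ⟨z, (range_openSubι Z (O z)).ge (hz z)⟩) fun z => ?_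
  obtain ⟨l, hl⟩ : ∃ l, l ≫ Γ.q (d z) = openSubι Z (O z) ≫ s ≫ Γ.q a := by
    have hr : Set.range (openSubι Z (O z) ≫ s ≫ Γ.q a).left ⊆ Set.range (Γ.q (d z)).left := by
      rintro _ ⟨y, rfl⟩
      exact (range_openSubι Z (O z)).le ⟨y, rfl⟩
    refine ⟨Over.homMk (IsOpenImmersion.lift (Γ.q (d z)).left _ hr) ?_, ?_⟩
    · conv_lhs => rw [← Over.w (Γ.q (d z))]
      exact (IsOpenImmersion.lift_fac_assoc _ _ _ _).trans (Over.w _)
    · ext; exact IsOpenImmersion.lift_fac _ _ _
  have e1 : openSubι Z (O z) ≫ s = l ≫ pieceMap V e (hda z) := by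
    have := Γ.mono_q a
    rw [← cancel_mono (Γ.q a), Category.assoc, Category.assoc, Γ.nat, hl]
  have e2 : openSubι Z (O z) ≫ t = l ≫ pieceMap V e (hdb z) := by
    have := Γ.mono_q b
    rw [← cancel_mono (Γ.q b), Category.assoc, Category.assoc, Γ.nat, hl, w]
  rw [← Functor.map_comp_assoc, ← Functor.map_comp_assoc, e1, e2, Functor.map_comp_assoc,
    Functor.map_comp_assoc, pieceMap_spec, pieceMap_spec]

theorem exists_local_factor {T : Over S} (x : T ⟶ W) (t : ↥T.left) :
    ∃ (i : ι) (O : T.left.Opens) (l : openSub T O ⟶ V i), t ∈ O ∧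
      ∃ r : openSub T O ⟶ openSub (V i) ⊤, r ≫ openSubι _ _ = l ∧
        r ≫ Γ.q (topPiece i) = openSubι T O ≫ x := by
  obtain ⟨a, ha⟩ := Γ.surj (x.left t)
  have := Γ.isOpenImmersion a
  have hle := exists_le_topPiece (e := e) a
  let O := x.left ⁻¹ᵁ (Γ.q a).left.opensRange
  have hr : Set.range (openSubι T O ≫ x).left ⊆ Set.range (Γ.q a).left := by
    rintro _ ⟨y, rfl⟩
    exact (range_openSubι T O).le ⟨y, rfl⟩
  obtain ⟨r₀, hr₀⟩ : ∃ r₀, r₀ ≫ Γ.q a = openSubι T O ≫ x := by
    refine ⟨Over.homMk (IsOpenImmersion.lift (Γ.q a).left _ hr) ?_, ?_⟩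
    · conv_lhs => rw [← Over.w (Γ.q a)]
      exact (IsOpenImmersion.lift_fac_assoc _ _ _ _).trans (Over.w _)
    · ext; exact IsOpenImmersion.lift_fac _ _ _
  exact ⟨a.i, O, (r₀ ≫ pieceMap V e hle) ≫ openSubι (V a.i) ⊤, ha, r₀ ≫ pieceMap V e hle, rfl,
    by rw [Category.assoc, Γ.nat, hr₀]⟩

include he in
/-- Two lifts to members with the same image in `X` have the same image in the gluing. -/
theorem q_eq_of_comp_eq {Z : Over S} (i j : ι) (r : Z ⟶ openSub (V i) ⊤) (r' : Z ⟶ openSub (V j) ⊤)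
    (w : (yon S).map r ≫ (topPiece i).hom V e = (yon S).map r' ≫ (topPiece j).hom V e) :
    r ≫ Γ.q (topPiece i) = r' ≫ Γ.q (topPiece j) := by
  let := piecePreorder V e
  have w' : (yon S).map (r ≫ openSubι (V i) ⊤) ≫ e i = (yon S).map (r' ≫ openSubι (V j) ⊤) ≫ e j := by
    simp only [Functor.map_comp, Category.assoc]
    exact w
  obtain ⟨O, h, hO, hh⟩ := exists_meet he i j _ _ w'
  obtain ⟨k₁, hk₁⟩ := exists_openSub_lift (T := V i) ⊤ (openSubι _ O) (fun _ => trivial)
  obtain ⟨k₂, hk₂⟩ := exists_openSub_lift (T := V j) ⊤ h (fun _ => trivial)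
  obtain ⟨m, hm⟩ := exists_openSub_lift (T := V i) O _ hO
  let d : Piece V := ⟨i, O⟩
  have hd₁ : (yon S).map k₁ ≫ (topPiece i).hom V e = d.hom V e := by
    change _ ≫ (yon S).map _ ≫ e i = (yon S).map (openSubι _ O) ≫ e i
    rw [← hk₁, Functor.map_comp, Category.assoc]
  have hd₂ : (yon S).map k₂ ≫ (topPiece j).hom V e = d.hom V e := by
    change _ ≫ (yon S).map _ ≫ e j = (yon S).map (openSubι _ O) ≫ e i
    rw [← hh, ← hk₂, Functor.map_comp, Category.assoc]
  have h₁ : d ≤ topPiece i := ⟨k₁, hd₁⟩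
  have h₂ : d ≤ topPiece j := ⟨k₂, hd₂⟩
  have hq₁ : k₁ ≫ Γ.q (topPiece i) = Γ.q d := by
    rw [← Γ.nat h₁, piece_hom_unique he (b := topPiece i) (k := k₁) (hd₁.trans (pieceMap_spec V e h₁).symm)]
  have hq₂ : k₂ ≫ Γ.q (topPiece j) = Γ.q d := by
    rw [← Γ.nat h₂, piece_hom_unique he (b := topPiece j) (k := k₂) (hd₂.trans (pieceMap_spec V e h₂).symm)]
  have hr : r = m ≫ k₁ := piece_hom_unique he (b := topPiece i) (by
    change _ ≫ (yon S).map _ ≫ e i = _ ≫ (yon S).map _ ≫ e i
    rw [← hk₁] at hm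
    simp only [← Functor.map_comp_assoc, Category.assoc, hm])
  have hmd : (yon S).map m ≫ d.hom V e = (yon S).map r ≫ (topPiece i).hom V e := by
    rw [← hd₁, hr, Functor.map_comp, Category.assoc]
  have hr' : r' = m ≫ k₂ := piece_hom_unique he (b := topPiece j) (by
    rw [← w, ← hmd, ← hd₂, Functor.map_comp, Category.assoc])
  rw [hr, hr', Category.assoc, Category.assoc, hq₁, hq₂]

include he in
theorem mono_glue (n : (yon S).obj W ⟶ X) (hn : ∀ a, (yon S).map (Γ.q a) ≫ n = a.hom V e) : Mono n :=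
  mono_of_cancel fun T x y hxy => by
    have hxy' : ∀ t : ↥T.left, ∃ O : T.left.Opens, t ∈ O ∧
        openSubι T O ≫ pre x = openSubι T O ≫ pre y := by
      intro t
      obtain ⟨i, O, l, ht, r, -, hx⟩ := exists_local_factor Γ (pre x) t
      obtain ⟨j, O', l', ht', r', -, hy⟩ := exists_local_factor Γ (pre y) t
      obtain ⟨g, hg⟩ := exists_openSub_lift O (openSubι T (O ⊓ O'))
        (fun z => ((range_openSubι T (O ⊓ O')).le ⟨z, rfl⟩).1)
      obtain ⟨g', hg'⟩ := exists_openSub_lift O' (openSubι T (O ⊓ O'))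
        (fun z => ((range_openSubι T (O ⊓ O')).le ⟨z, rfl⟩).2)
      refine ⟨O ⊓ O', ⟨ht, ht'⟩, ?_⟩
      have ex : (g ≫ r) ≫ Γ.q (topPiece i) = openSubι T (O ⊓ O') ≫ pre x := by
        rw [Category.assoc, hx, ← Category.assoc, hg]
      have ey : (g' ≫ r') ≫ Γ.q (topPiece j) = openSubι T (O ⊓ O') ≫ pre y := by
        rw [Category.assoc, hy, ← Category.assoc, hg']
      rw [← ex, ← ey]
      refine q_eq_of_comp_eq he Γ i j _ _ ?_
      rw [← hn, ← hn, ← Functor.map_comp_assoc, ex, ← Functor.map_comp_assoc, ey,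
        Functor.map_comp_assoc, Functor.map_comp_assoc, map_pre, map_pre, hxy]
    choose O hO hOeq using hxy'
    refine hom_ext_of_openCover (fun t => openSub T (O t)) (fun t => openSubι T (O t)) (fun _ => inferInstance)
      (fun t => ⟨t, (range_openSubι T (O t)).ge (hO t)⟩) fun t => ?_
    rw [← map_pre x, ← map_pre y, ← Functor.map_comp, ← Functor.map_comp, hOeq]

include he in
theorem exists_yon_iso_of_open_cover
    (hcov : ∀ x : Points X, ∃ i, x ∈ Set.range (Points.ofPt (e i))) :
    ∃ W : Over S, Nonempty ((yon S).obj W ≅ X) := by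
  let := piecePreorder V e
  obtain ⟨W, ⟨Γ⟩⟩ := exists_gluing he
  obtain ⟨n, hn⟩ := exists_glue_hom Γ
  have := mono_glue he Γ n hn
  have hlift : ∀ ⦃T : Over S⦄ (g : (yon S).obj T ⟶ X), ∃ a, a ≫ n = g := by
    intro T g
    have hsq : ∀ i, ∃ (U : Over S) (fst : (yon S).obj U ⟶ (yon S).obj (V i)) (snd : U ⟶ T),
        IsPullback fst ((yon S).map snd) (e i) g := fun i => exists_sq (he i).1 g
    choose U fst snd sq using hsq
    have hopen : ∀ i, IsOpenImmersion (snd i).left := fun i => (he i).2 _ _ _ (sq i)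
    have hsurj : ∀ t : ↥T.left, ∃ i, t ∈ Set.range (snd i).left := fun t => by
      obtain ⟨i, x, hx⟩ := hcov (Points.ofPt g t)
      obtain ⟨v, -, hv⟩ := exists_point_of_sq (sq i) (Points.ofScheme (V i) x) t
        (by rw [← Points.ofPt_eq_map_ofScheme, hx])
      exact ⟨i, v, hv⟩
    choose tl htl using fun i => exists_openSub_lift (T := V i) ⊤ (𝟙 (V i)) (fun _ => trivial)
    have htn : ∀ i, ((yon S).map (tl i ≫ Γ.q (topPiece i))) ≫ n = e i := fun i => by
      rw [Functor.map_comp_assoc, hn, Piece.hom, ← Functor.map_comp_assoc, htl, CategoryTheory.Functor.map_id]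
      exact Category.id_comp _
    obtain ⟨a, ha, -⟩ := existsUnique_glue U snd hopen hsurj
      (fun i => fst i ≫ (yon S).map (tl i ≫ Γ.q (topPiece i))) fun i j Z s t w => by
        rw [← cancel_mono n]
        simp only [Category.assoc, htn, (sq i).w, (sq j).w, ← Functor.map_comp_assoc, w]
    refine ⟨a, hom_ext_of_openCover U snd hopen hsurj fun i => ?_⟩
    rw [reassoc_of% ha i, htn, (sq i).w]
  have : IsIso n := isIso_of_mono_of_sq n fun T g => by
    obtain ⟨a, ha⟩ := hlift g
    exact ⟨T, 𝟙 T, a, inferInstanceAs (Flat (𝟙 T.left)), inferInstanceAs (Surjective (𝟙 T.left)),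
      inferInstanceAs (LocallyOfFinitePresentation (𝟙 T.left)), by simpa using ha⟩
  exact ⟨W, ⟨asIso n⟩⟩

end

end Groth.Agent.AlgSpLoc
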