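import Groth.Agent.AlgSpLoc.AffineDescent
import Groth.Agent.AlgSpLoc.Glue

/-!
Morphisms tested by base change to affine schemes: representability and fpqc descent.
-/

set_option autoImplicit false
set_option backward.isDefEq.respectTransparency false

universe u

open CategoryTheory CategoryTheory.Limits AlgebraicGeometry Opposite

namespace Groth.Agent.AlgSpLoc

open _root_.AlgSp Groth.Agent.AlgSpc

variable {S : Scheme.{u}}

/-- A sheaf over a scheme which is a scheme over each member of an open covering is a scheme. -/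
theorem exists_yon_iso_of_local {X : Sp S} {T : Over S} (f : X ⟶ (yon S).obj T) {κ : Type u}
    (U : κ → Over S) (u : ∀ k, U k ⟶ T) (hu : ∀ k, IsOpenImmersion (u k).left)
    (hs : ∀ t : ↥T.left, ∃ k, t ∈ Set.range (u k).left)
    (h : ∀ k, ∃ (V : Over S) (a : (yon S).obj V ⟶ X) (b : V ⟶ U k),
      IsPullback a ((yon S).map b) f ((yon S).map (u k))) :
    ∃ W : Over S, Nonempty ((yon S).obj W ≅ X) := by
  choose V a b sq using h
  refine exists_yon_iso_of_open_cover (V := V) (e := a)
    (fun k => repWith_of_isPullback (sq k).flip ((repWith_yon_map_iff _ (u k)).2 (hu k))) fun x => ?_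
  obtain ⟨t, ht⟩ := (Points.schemeHomeo T).surjective (Points.map f x)
  obtain ⟨k, s, hs'⟩ := hs t
  obtain ⟨z, hz, -⟩ := exists_point_of_isPullback (sq k) x (Points.ofScheme (U k) s) (by
    rw [← Points.ofPt_eq_map_ofScheme, ofPt_pre, pre_map, hs']; exact ht.symm)
  obtain ⟨v, rfl⟩ := (Points.schemeHomeo (V k)).surjective z
  exact ⟨k, v, (Points.ofPt_eq_map_ofScheme (a k) v).trans hz⟩

/-- A morphism whose base changes to affine schemes are schemes with `P` is representable with `P`. -/
theorem repWith_of_tested {P : MorphismProperty Scheme.{u}} [IsZariskiLocalAtTarget P] {X Y : Sp S}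
    (f : X ⟶ Y)
    (h : ∀ ⦃Z : Over S⦄, IsAffine Z.left → ∀ (g : (yon S).obj Z ⟶ Y),
      ∃ (V : Over S) (k : V ⟶ Z) (fst : (yon S).obj V ⟶ X),
        IsPullback fst ((yon S).map k) f g ∧ P k.left) :
    RepWith P f := by
  refine repWith_mk fun T g => ?_
  have sq := IsPullback.of_hasPullback f g
  let U : T.left.affineOpens → Over S := fun O => openSub T O.1
  let u : ∀ O, U O ⟶ T := fun O => openSubι T O.1
  have hs : ∀ t : ↥T.left, ∃ O, t ∈ Set.range (u O).left := fun t => by
    obtain ⟨O, hO, ht, -⟩ := exists_isAffineOpen_mem_and_subset (show t ∈ (⊤ : T.left.Opens) from trivial)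
    exact ⟨⟨O, hO⟩, (range_openSubι T O).ge ht⟩
  have hloc : ∀ O, ∃ (V : Over S) (a : (yon S).obj V ⟶ pullback f g) (b : V ⟶ U O),
      IsPullback a ((yon S).map b) (pullback.snd f g) ((yon S).map (u O)) ∧ P b.left := fun O => by
    obtain ⟨V, k, fst, sqk, hk⟩ := h (Z := U O) O.2 ((yon S).map (u O) ≫ g)
    have w : fst ≫ f = ((yon S).map k ≫ (yon S).map (u O)) ≫ g := by rw [Category.assoc]; exact sqk.w
    refine ⟨V, sq.lift fst ((yon S).map k ≫ (yon S).map (u O)) w, k, ?_, hk⟩
    refine IsPullback.of_right ?_ (sq.lift_snd _ _ _) sq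
    rw [sq.lift_fst]
    exact sqk
  choose V a b sqV hb using hloc
  obtain ⟨W, ⟨e⟩⟩ := exists_yon_iso_of_local (pullback.snd f g) U u (fun _ => inferInstance) hs
    fun O => ⟨V O, a O, b O, sqV O⟩
  let k : W ⟶ T := pre (e.hom ≫ pullback.snd f g)
  refine ⟨W, e.hom ≫ pullback.fst f g, k, sq.of_iso e.symm (Iso.refl _) (Iso.refl _) (Iso.refl _)
    (by simp) (by simp [k]) (by simp) (by simp), ?_⟩
  refine IsZariskiLocalAtTarget.of_iSup_eq_top (P := P) (fun O : T.left.affineOpens => (O : T.left.Opens))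
    (iSup_affineOpens_eq_top _) fun O => ?_
  have s1 : IsPullback ((yon S).map (pre (a O ≫ e.inv))) ((yon S).map (b O)) ((yon S).map k) ((yon S).map (u O)) :=
    (sqV O).of_iso (Iso.refl _) e.symm (Iso.refl _) (Iso.refl _) (by simp) (by simp) (by simp [k]) (by simp)
  have s2 : IsPullback (pre (a O ≫ e.inv)).left (b O).left k.left (u O).left :=
    (IsPullback.of_map (yon S) ((yon S).map_injective (by simpa only [Functor.map_comp] using s1.w)) s1).map
      (Over.forget S)
  have s3 := (isPullback_morphismRestrict k.left (O : T.left.Opens)).flip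
  have e1 : (s3.isoIsPullback _ _ s2).hom ≫ (b O).left = k.left ∣_ O := s3.isoIsPullback_hom_snd _ _ s2
  rw [← e1, P.cancel_left_of_respectsIso]
  exact hb O

theorem isFpqcCover_affine_family {Z : Over S} [IsAffine Z.left] {κ : Type u} [Finite κ] (W : κ → Over S)
    (c : ∀ j, W j ⟶ Z) [∀ j, IsAffine (W j).left] [∀ j, Flat (c j).left]
    (hs : ∀ z : ↥Z.left, ∃ j, z ∈ Set.range (c j).left) :
    IsFpqcCover (fun j => (yon S).obj (W j)) (fun j => (yon S).map (c j)) := by
  refine ⟨fun j => locP_of_repWith (fun e f he (hf : Flat f) => ?_) ((repWith_yon_map_iff _ (c j)).2 inferInstance),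
    fun Z' hZ' h => ?_⟩
  · have : Etale e := he
    exact inferInstanceAs (Flat (e ≫ f))
  obtain ⟨m, ⟨φ⟩⟩ := Finite.exists_equiv_fin κ
  have := hZ'
  have sq : ∀ j, IsPullback (pullback.fst (pre h) (c j)).left (pullback.snd (pre h) (c j)).left
      (pre h).left (c j).left := fun j => (IsPullback.of_hasPullback (pre h) (c j)).map (Over.forget S)
  refine ⟨m, fun i => pullback (pre h) (c (φ.symm i)), fun i => pullback.fst _ _,
    fun i => IsAffine.of_isPullback (sq _),
    fun i => MorphismProperty.of_isPullback (sq _).flip (inferInstance : Flat (c (φ.symm i)).left),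
    fun z => ?_, fun i => ⟨φ.symm i, (yon S).map (pullback.snd _ _), ?_⟩⟩
  · obtain ⟨j, w, hw⟩ := hs ((pre h).left z)
    obtain ⟨i, rfl⟩ := φ.symm.surjective j
    obtain ⟨x, hx, -⟩ := Scheme.exists_preimage_of_isPullback (sq (φ.symm i)) z w hw.symm
    exact ⟨i, x, hx⟩
  · rw [← Functor.map_comp, ← pullback.condition, Functor.map_comp, map_pre]

/-- fpqc descent for properties tested on affine schemes whose members are quasi-affine. -/
theorem tested_of_cover {G : MorphismProperty Scheme.{u}}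
    (hqa : ∀ ⦃A B : Scheme.{u}⦄ (k : A ⟶ B), IsAffine B → G k → A.IsQuasiAffine)
    {ι : Type u} {X Y : Sp S} (hX : IsAlgSpace X) (hY : IsAlgSpace Y) {Yi Xi : ι → Sp S}
    {g : ∀ i, Yi i ⟶ Y} (hcov : IsFpqcCover Yi g) {f : X ⟶ Y} {p : ∀ i, Xi i ⟶ Yi i} {q : ∀ i, Xi i ⟶ X}
    (hsq : ∀ i, IsPullback (q i) (p i) f (g i))
    (h : ∀ i ⦃Z : Over S⦄, IsAffine Z.left → ∀ (l : (yon S).obj Z ⟶ Yi i),
      ∃ (V : Over S) (k : V ⟶ Z) (fst : (yon S).obj V ⟶ Xi i),
        IsPullback fst ((yon S).map k) (p i) l ∧ G k.left)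
    {Z : Over S} (hZ : IsAffine Z.left) (z : (yon S).obj Z ⟶ Y) :
    ∃ (V : Over S) (k : V ⟶ Z) (fst : (yon S).obj V ⟶ X),
      IsPullback fst ((yon S).map k) f z ∧ V.left.IsQuasiAffine ∧
      ((∀ ⦃A B : Scheme.{u}⦄ (k : A ⟶ B), IsAffine B → G k → IsAffine A) → IsAffine V.left) ∧
      ∀ (P : MorphismProperty Scheme.{u}) [IsZariskiLocalAtTarget P]
        [P.DescendsAlong (@Surjective ⊓ @Flat ⊓ @QuasiCompact : MorphismProperty Scheme.{u})],
        G ≤ P → P k.left := by
  have := hZ
  obtain ⟨m, W₀, c₀, hW, hc, hs, hl⟩ := hcov.2 Z hZ z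
  choose i l hl using hl
  let W : ULift.{u} (Fin m) → Over S := fun j => W₀ j.down
  let c : ∀ j, W j ⟶ Z := fun j => c₀ j.down
  have : ∀ j, IsAffine (W j).left := fun j => hW j.down
  have : ∀ j, Flat (c j).left := fun j => hc j.down
  have hs' : ∀ z : ↥Z.left, ∃ j, z ∈ Set.range (c j).left := fun z => ⟨⟨(hs z).choose⟩, (hs z).choose_spec⟩
  have hcovZ := isFpqcCover_affine_family W c hs'
  have sqZ := IsPullback.of_hasPullback f z
  have hXZ : IsAlgSpace (pullback f z) := isAlgSpace_of_isPullback hX hY (IsAlgSpace.yon_obj Z) sqZ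
  have hloc : ∀ j, ∃ (V : Over S) (qW : (yon S).obj V ⟶ pullback f z) (fW : V ⟶ W j),
      IsPullback qW ((yon S).map fW) (pullback.snd f z) ((yon S).map (c j)) ∧ G fW.left := fun j => by
    obtain ⟨V, k, fst, sq, hG⟩ := h (i j.down) (hW j.down) (l j.down)
    have s1 : IsPullback (fst ≫ q (i j.down)) ((yon S).map k) f ((yon S).map (c j) ≫ z) := by
      rw [← hl j.down]; exact sq.paste_horiz (hsq _)
    have w : (fst ≫ q (i j.down)) ≫ f = ((yon S).map k ≫ (yon S).map (c j)) ≫ z := by
      rw [Category.assoc ((yon S).map k)]; exact s1.w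
    refine ⟨V, sqZ.lift _ _ w, k, IsPullback.of_right ?_ (sqZ.lift_snd _ _ _) sqZ, hG⟩
    rw [sqZ.lift_fst]; exact s1
  choose V qW fW sqW hG using hloc
  have : ∀ j, (V j).left.IsQuasiAffine := fun j => hqa _ (hW j.down) (hG j)
  obtain ⟨B, b, V', j, e, hB, hj, hc', hef, hiso⟩ :=
    exists_open_in_affine hXZ c hcovZ (pullback.snd f z) qW fW sqW
  have sqV : IsPullback (e.hom ≫ pullback.fst f z) ((yon S).map (j ≫ b)) f z :=
    sqZ.of_iso e.symm (Iso.refl _) (Iso.refl _) (Iso.refl _) (by simp) (by simp [← hef]) (by simp) (by simp)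
  refine ⟨V', j ≫ b, _, sqV, ?_, fun haff => ?_, fun P _ _ hGP => ?_⟩
  · exact Scheme.IsQuasiAffine.of_isImmersion j.left
  · have := hiso fun j => haff _ (hW j.down) (hG j)
    have : IsIso j.left := inferInstanceAs (IsIso ((Over.forget S).map j))
    exact .of_isIso j.left
  · -- descend along the disjoint union of the covering
    let σ : (∐ fun j => (W j).left) ⟶ Z.left := Sigma.desc fun j => (c j).left
    have h1 : Surjective σ := ⟨fun x => by
      obtain ⟨j, w, rfl⟩ := hs' x
      exact ⟨Sigma.ι (fun j => (W j).left) j w, by simp [σ, ← Scheme.Hom.comp_apply]⟩⟩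
    have h2 : Flat σ := IsZariskiLocalAtSource.sigmaDesc fun j => (inferInstance : Flat (c j).left)
    have h3 : QuasiCompact σ := (quasiCompact_iff_compactSpace σ).2 inferInstance
    refine MorphismProperty.of_isPullback_of_descendsAlong
      (Q := @Surjective ⊓ @Flat ⊓ @QuasiCompact) (P := P)
      (IsPullback.of_hasPullback σ (j ≫ b).left) ⟨⟨h1, h2⟩, h3⟩ ?_
    refine IsZariskiLocalAtTarget.of_openCover (P := P) (sigmaOpenCover fun j => (W j).left) fun j' => ?_
    have s1 : IsPullback ((yon S).map (pre (qW j' ≫ e.inv))) ((yon S).map (fW j'))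
        ((yon S).map (j ≫ b)) ((yon S).map (c j')) :=
      (sqW j').of_iso (Iso.refl _) e.symm (Iso.refl _) (Iso.refl _) (by simp) (by simp) (by simp [← hef]) (by simp)
    have s2 : IsPullback (pre (qW j' ≫ e.inv)).left (fW j').left (j ≫ b).left (c j').left :=
      (IsPullback.of_map (yon S) ((yon S).map_injective (by simpa only [Functor.map_comp] using s1.w)) s1).map
        (Over.forget S)
    let ιj := Sigma.ι (fun j => (W j).left) j'
    change P (pullback.snd (pullback.fst σ (j ≫ b).left) ιj)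
    have hs : IsPullback (pullback.fst (pullback.fst σ (j ≫ b).left) ιj ≫ pullback.snd σ (j ≫ b).left)
        (pullback.snd (pullback.fst σ (j ≫ b).left) ιj) (j ≫ b).left (c j').left := by
      simpa [σ, ιj] using (IsPullback.of_hasPullback (pullback.fst σ (j ≫ b).left) ιj).paste_horiz
        (IsPullback.of_hasPullback σ (j ≫ b).left).flip
    rw [← hs.isoIsPullback_hom_snd _ _ s2, P.cancel_left_of_respectsIso]
    exact hGP _ (hG j')

end Groth.Agent.AlgSpLoc
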