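import Groth.Agent.AlgSpc.More
import Groth.Agent.AlgSpc.FibreProd
import Groth.Prelude.Def_AlgSpCov
import Mathlib.AlgebraicGeometry.Limits
import Mathlib.AlgebraicGeometry.Morphisms.Flat

/-!
Topological properties of morphisms of algebraic spaces are fpqc local on the base.
-/

set_option autoImplicit false
set_option backward.isDefEq.respectTransparency false

universe u

open CategoryTheory CategoryTheory.Limits AlgebraicGeometry Opposite

namespace Groth.Agent.AlgSpLoc

open _root_.AlgSp Groth.Agent.AlgSpc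

variable {S : Scheme.{u}}

/-- An fpqc covering yields, over every algebraic space mapping to its target, schemes lifting to the members
whose points detect openness. -/
theorem exists_detecting {ι : Type u} {Y : Sp S} {Yi : ι → Sp S} {g : ∀ i, Yi i ⟶ Y}
    (hcov : IsFpqcCover Yi g) {Z : Sp S} (hZ : IsAlgSpace Z) (h : Z ⟶ Y) :
    ∃ (κ : Type u) (W : κ → Over S) (w : ∀ k, (yon S).obj (W k) ⟶ Z) (i : κ → ι)
      (l : ∀ k, (yon S).obj (W k) ⟶ Yi (i k)),
      (∀ k, l k ≫ g (i k) = w k ≫ h) ∧ (∀ z : Points Z, ∃ k, z ∈ Set.range (Points.ofPt (w k))) ∧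
      ∀ s : Set (Points Z), (∀ k, IsOpen (Points.ofPt (w k) ⁻¹' s)) → IsOpen s := by
  obtain ⟨U, a, ha, has⟩ := hZ.atlas
  let A := U.left.affineOpens
  let ι' : ∀ V : A, (Over.mk ((V : U.left.Opens).ι ≫ U.hom) : Over S) ⟶ U := fun V =>
    Over.homMk (V : U.left.Opens).ι rfl
  choose m W c hWa hc hsurj hl using fun V : A =>
    hcov.2 (Over.mk ((V : U.left.Opens).ι ≫ U.hom)) V.2 ((yon S).map (ι' V) ≫ a ≫ h)
  choose i l hl using hl
  refine ⟨Σ V : A, ULift.{u} (Fin (m V)), fun k => W k.1 k.2.down,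
    fun k => (yon S).map (c k.1 k.2.down ≫ ι' k.1) ≫ a, fun k => i k.1 k.2.down, fun k => l k.1 k.2.down,
    fun k => ?_, fun z => ?_, fun s hs => ?_⟩
  · simp only [hl k.1 k.2.down, Functor.map_comp, Category.assoc]
  · obtain ⟨u, rfl⟩ := surjective_ofPt has z
    obtain ⟨_, ⟨V, hV, rfl⟩, hu, -⟩ := U.left.isBasis_affineOpens.exists_subset_of_mem_open
      (Set.mem_univ u) isOpen_univ
    obtain ⟨j, w, hw⟩ := hsurj ⟨V, hV⟩ ⟨u, hu⟩
    refine ⟨⟨⟨V, hV⟩, ⟨j⟩⟩, w, (ofPt_comp _ a w).trans ?_⟩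
    congr 1
    exact congrArg Subtype.val hw
  · rw [← (isQuotientMap_ofPt ha has).isOpen_preimage]
    have hcover : ∀ V : A, IsOpen (((V : U.left.Opens).ι) ⁻¹' (Points.ofPt a ⁻¹' s)) := by
      intro V
      have := hWa V
      have : IsAffine (V : U.left.Opens).toScheme := V.2
      let σ : (∐ fun j => (W V j).left) ⟶ (V : U.left.Opens).toScheme := Sigma.desc fun j => (c V j).left
      have : Surjective σ := ⟨fun z => by
        obtain ⟨j, w, rfl⟩ := hsurj V z
        exact ⟨Sigma.ι (fun j => (W V j).left) j w, by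
          rw [← Scheme.Hom.comp_apply]; simp [σ]⟩⟩
      have : Flat σ := IsZariskiLocalAtSource.sigmaDesc (hc V)
      have : QuasiCompact σ := (quasiCompact_iff_compactSpace σ).2 inferInstance
      rw [← (Flat.isQuotientMap_of_surjective σ).isOpen_preimage,
        (sigmaOpenCover fun j => (W V j).left).isOpenCover_opensRange.isOpen_iff_inter]
      intro j
      rw [Scheme.Hom.coe_opensRange, ← Set.image_preimage_eq_inter_range]
      refine ((sigmaOpenCover fun j => (W V j).left).f j).isOpenEmbedding.isOpenMap _ ?_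
      have hj : IsOpen (Points.ofPt ((yon S).map (c V j ≫ ι' V) ≫ a) ⁻¹' s) := hs ⟨V, ⟨j⟩⟩
      have e : (Points.ofPt ((yon S).map (c V j ≫ ι' V) ≫ a) ⁻¹' s : Set (W V j).left) =
          (Sigma.ι (fun j => (W V j).left) j) ⁻¹' (σ ⁻¹' ((V : U.left.Opens).ι ⁻¹' (Points.ofPt a ⁻¹' s))) := by
        ext x
        simp only [Set.mem_preimage]
        rw [← Scheme.Hom.comp_apply (Sigma.ι (fun j => (W V j).left) j) σ,
          show Sigma.ι (fun j => (W V j).left) j ≫ σ = (c V j).left from Sigma.ι_desc (fun j => (c V j).left) j,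
          ofPt_comp]
        rfl
      rw [e] at hj
      exact hj
    have hcov' : TopologicalSpace.IsOpenCover (fun V : A => (V : U.left.Opens)) := iSup_affineOpens_eq_top _
    refine (hcov'.isOpen_iff_inter).2 fun V => ?_
    have := (V : U.left.Opens).ι.isOpenEmbedding.isOpenMap _ (hcover V)
    rwa [Set.image_preimage_eq_inter_range, Scheme.Opens.range_ι] at this

/-- Forward direction: the "universal" notions pass to base changes. -/
theorem univSp_of_isPullback {Q : MorphismProperty (Sp S)} {X Y X' Y' : Sp S} {f : X ⟶ Y} {g : Y' ⟶ Y}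
    {f' : X' ⟶ Y'} {g' : X' ⟶ X} (sq : IsPullback g' f' f g) (hf : UnivSp Q f) : UnivSp Q f' :=
  fun _ _ hZ h _ snd sq' => hf hZ (h ≫ g) _ snd (sq'.paste_horiz sq)

section

variable {ι : Type u} {Y : Sp S} {Yi : ι → Sp S} {g : ∀ i, Yi i ⟶ Y}
  {X : Sp S} {f : X ⟶ Y} {Xi : ι → Sp S} {p : ∀ i, Xi i ⟶ Yi i} {q : ∀ i, Xi i ⟶ X}

/-- The base change of `snd` to a scheme lifting to a member of the covering. -/
theorem exists_bc {Q : MorphismProperty (Sp S)} (hsq : ∀ i, IsPullback (q i) (p i) f (g i))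
    (hp : ∀ i, UnivSp Q (p i)) {Z Z' : Sp S} {h : Z ⟶ Y}
    {fst : Z' ⟶ X} {snd : Z' ⟶ Z} (sq : IsPullback fst snd f h) {W : Over S} (w : (yon S).obj W ⟶ Z)
    {i : ι} (l : (yon S).obj W ⟶ Yi i) (hl : l ≫ g i = w ≫ h) :
    ∃ (W' : Sp S) (a : W' ⟶ Z') (b : W' ⟶ (yon S).obj W), IsPullback a b snd w ∧ Q b := by
  refine ⟨_, _, _, IsPullback.of_hasPullback snd w, ?_⟩
  have sA : IsPullback (pullback.fst snd w ≫ fst) (pullback.snd snd w) f (l ≫ g i) := by
    rw [hl]; exact (IsPullback.of_hasPullback snd w).paste_horiz sq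
  exact hp i (IsAlgSpace.yon_obj W) l _ _ (sA.of_right' (hsq i))

variable (hcov : IsFpqcCover Yi g) (hsq : ∀ i, IsPullback (q i) (p i) f (g i))

theorem ofPt_preimage_image {Z' Z W' : Sp S} {snd : Z' ⟶ Z} {W : Over S} {w : (yon S).obj W ⟶ Z}
    {a : W' ⟶ Z'} {b : W' ⟶ (yon S).obj W} (sq : IsPullback a b snd w) (C : Set (Points Z')) :
    Points.ofPt w ⁻¹' (Points.map snd '' C) =
      Points.ofScheme W ⁻¹' (Points.map b '' (Points.map a ⁻¹' C)) := by
  ext t
  simp only [Set.mem_preimage, Set.mem_image]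
  constructor
  · rintro ⟨x, hx, he⟩
    obtain ⟨z, rfl, hz⟩ := exists_point_of_isPullback sq x (Points.ofScheme W t)
      (by rw [he, Points.ofPt_eq_map_ofScheme])
    exact ⟨z, hx, hz⟩
  · rintro ⟨z, hz, he⟩
    exact ⟨_, hz, by rw [← Points.map_comp, sq.w, Points.map_comp, he, ← Points.ofPt_eq_map_ofScheme]⟩

include hcov hsq

theorem univOpen_of_cover (hp : ∀ i, IsUnivOpenMor (p i)) : IsUnivOpenMor f := by
  intro Z Z' hZ h fst snd sq C hC
  obtain ⟨κ, W, w, i, l, hl, -, hdet⟩ := exists_detecting hcov hZ h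
  refine hdet _ fun k => ?_
  obtain ⟨W', a, b, sW, hb⟩ := exists_bc hsq hp sq (w k) (l k) (hl k)
  rw [ofPt_preimage_image sW]
  exact (hb _ (hC.preimage (Points.continuous_map a))).preimage (Points.continuous_ofPt _)

theorem univClosed_of_cover (hp : ∀ i, IsUnivClosedMor (p i)) : IsUnivClosedMor f := by
  intro Z Z' hZ h fst snd sq C hC
  obtain ⟨κ, W, w, i, l, hl, -, hdet⟩ := exists_detecting hcov hZ h
  refine ⟨hdet _ fun k => ?_⟩
  obtain ⟨W', a, b, sW, hb⟩ := exists_bc hsq hp sq (w k) (l k) (hl k)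
  rw [Set.preimage_compl, isOpen_compl_iff, ofPt_preimage_image sW]
  exact (hb _ (hC.preimage (Points.continuous_map a))).preimage (Points.continuous_ofPt _)

theorem injective_of_cover (hp : ∀ i, IsUnivInjectiveMor (p i)) : IsUnivInjectiveMor f := by
  intro Z Z' hZ h fst snd sq x y hxy
  obtain ⟨κ, W, w, i, l, hl, hs, -⟩ := exists_detecting hcov hZ h
  obtain ⟨k, t, ht⟩ := hs (Points.map snd x)
  obtain ⟨W', a, b, sW, hb⟩ := exists_bc hsq hp sq (w k) (l k) (hl k)
  have e : Points.map (w k) (Points.ofScheme (W k) t) = Points.map snd x :=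
    (Points.ofPt_eq_map_ofScheme _ _).symm.trans ht
  obtain ⟨x', rfl, hx⟩ := exists_point_of_isPullback sW x _ e.symm
  obtain ⟨y', rfl, hy⟩ := exists_point_of_isPullback sW y _ (hxy.symm.trans e.symm)
  rw [hb (hx.trans hy.symm)]

theorem surjective_of_cover {Q : MorphismProperty (Sp S)}
    (hQ : ∀ ⦃A B : Sp S⦄ (b : A ⟶ B), Q b → Function.Surjective (Points.map b))
    (hp : ∀ i, UnivSp Q (p i)) {Z Z' : Sp S} (hZ : IsAlgSpace Z) {h : Z ⟶ Y} {fst : Z' ⟶ X}
    {snd : Z' ⟶ Z} (sq : IsPullback fst snd f h) : Function.Surjective (Points.map snd) := by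
  intro z
  obtain ⟨κ, W, w, i, l, hl, hs, -⟩ := exists_detecting hcov hZ h
  obtain ⟨k, t, rfl⟩ := hs z
  obtain ⟨W', a, b, sW, hb⟩ := exists_bc hsq hp sq (w k) (l k) (hl k)
  obtain ⟨z', hz'⟩ := hQ b hb (Points.ofScheme (W k) t)
  exact ⟨Points.map a z', by
    rw [← Points.map_comp, sW.w, Points.map_comp, hz', ← Points.ofPt_eq_map_ofScheme]⟩

theorem univSubmersive_of_cover (hp : ∀ i, IsUnivSubmersiveMor (p i)) : IsUnivSubmersiveMor f := by
  intro Z Z' hZ h fst snd sq
  obtain ⟨κ, W, w, i, l, hl, -, hdet⟩ := exists_detecting hcov hZ h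
  refine (Topology.isQuotientMap_iff _).2
    ⟨Topology.isCoinducing_iff.2 fun C => ⟨fun hC => hdet _ fun k => ?_,
      fun hC => hC.preimage (Points.continuous_map snd)⟩,
      surjective_of_cover hcov hsq (fun _ _ b hb => hb.surjective) hp hZ sq⟩
  obtain ⟨W', a, b, sW, hb⟩ := exists_bc hsq hp sq (w k) (l k) (hl k)
  have e : Points.map b ⁻¹' (Points.map (w k) ⁻¹' C) = Points.map a ⁻¹' (Points.map snd ⁻¹' C) := by
    ext z
    simp only [Set.mem_preimage, ← Points.map_comp, sW.w]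
  have h2 : IsOpen (Points.map (w k) ⁻¹' C) := by
    rw [← hb.isOpen_preimage, e]
    exact hC.preimage (Points.continuous_map a)
  convert h2.preimage (Points.continuous_ofPt (𝟙 ((yon S).obj (W k)))) using 1
  ext t
  simp only [Set.mem_preimage]
  exact (congrArg (· ∈ C) (Points.ofPt_eq_map_ofScheme (w k) t)) ▸ Iff.rfl

theorem univHomeo_of_cover (hp : ∀ i, IsUnivHomeoMor (p i)) : IsUnivHomeoMor f := by
  intro Z Z' hZ h fst snd sq
  refine ⟨Points.continuous_map snd, ?_, ?_, ?_⟩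
  · exact univOpen_of_cover hcov hsq (fun i _ _ hZ g fst snd sq => (hp i hZ g fst snd sq).isOpenMap)
      hZ h fst snd sq
  · exact injective_of_cover hcov hsq (fun i _ _ hZ g fst snd sq => (hp i hZ g fst snd sq).injective)
      hZ h fst snd sq
  · exact surjective_of_cover hcov hsq (fun _ _ b hb => hb.surjective) hp hZ sq

theorem quasiCompact_of_cover (hX : IsAlgSpace X) (hY : IsAlgSpace Y) (hp : ∀ i, IsQuasiCompactMor (p i)) :
    IsQuasiCompactMor f := by
  intro Z Z' hZ hZc h fst snd sq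
  have hZ' : IsAlgSpace Z' := isAlgSpace_of_isPullback hX hY hZ sq
  obtain ⟨U, a, hU, -, has⟩ := (isQuasiCompactSp_iff_affine hZ).1 hZc
  obtain ⟨m, W, c, hW, -, hsurj, hl⟩ := hcov.2 U hU (a ≫ h)
  choose i l hl using hl
  rw [isQuasiCompactSp_iff hZ']
  refine ⟨?_⟩
  let w : ∀ j, (yon S).obj (W j) ⟶ Z := fun j => (yon S).map (c j) ≫ a
  have sW : ∀ j, IsPullback (pullback.fst snd (w j)) (pullback.snd snd (w j)) snd (w j) :=
    fun j => IsPullback.of_hasPullback _ _
  have hc : ∀ j, IsCompact (Set.range (Points.map (pullback.fst snd (w j)))) := by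
    intro j
    have := hW j
    have sA : IsPullback (pullback.fst snd (w j) ≫ fst) (pullback.snd snd (w j)) f (l j ≫ g (i j)) := by
      rw [hl j, ← Category.assoc]; exact (sW j).paste_horiz sq
    have := compactSpace_points (hp (i j) (IsAlgSpace.yon_obj (W j)) isQuasiCompactSp_yon (l j) _ _
      (sA.of_right' (hsq (i j))))
    exact isCompact_range (Points.continuous_map _)
  convert isCompact_iUnion hc
  refine (Set.eq_univ_of_forall fun x => ?_).symm
  obtain ⟨u, hu⟩ := surjective_ofPt has (Points.map snd x)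
  obtain ⟨j, t, rfl⟩ := hsurj u
  obtain ⟨z, hz, -⟩ := exists_point_of_isPullback (sW j) x (Points.ofScheme (W j) t)
    (by rw [← Points.ofPt_eq_map_ofScheme, ofPt_comp]; exact hu.symm)
  exact Set.mem_iUnion.2 ⟨j, z, hz⟩

end

/-- Quasi-compactness passes to base changes. -/
theorem quasiCompact_of_isPullback {X Y X' Y' : Sp S} {f : X ⟶ Y} {g : Y' ⟶ Y}
    {f' : X' ⟶ Y'} {g' : X' ⟶ X} (sq : IsPullback g' f' f g) (hf : IsQuasiCompactMor f) :
    IsQuasiCompactMor f' :=
  fun _ _ hZ hc h _ snd sq' => hf hZ hc (h ≫ g) _ snd (sq'.paste_horiz sq)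

end Groth.Agent.AlgSpLoc
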