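import Groth.Agent.AlgSpLoc.Glue
import Groth.Agent.AlgSpLoc.LocSurj
import Groth.Agent.AlgSpLoc.OpenImm
import Mathlib.CategoryTheory.Sites.Subsheaf

/-!
Open subspaces of algebraic spaces.
-/

set_option autoImplicit false
set_option backward.isDefEq.respectTransparency false

universe u

open CategoryTheory CategoryTheory.Limits AlgebraicGeometry Opposite

namespace Groth.Agent.AlgSpLoc

open _root_.AlgSp Groth.Agent.AlgSpc

variable {S : Scheme.{u}}

/-- The sections landing in a subset of the points. -/
noncomputable def subFun (X : Sp S) (W : Set (Points X)) : Subfunctor X.obj where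
  obj T := {s | ∀ t, Points.ofPt ((J S).uliftYonedaEquiv.symm s : (yon S).obj T.unop ⟶ X) t ∈ W}
  map := fun {T T'} c s hs t => by
    rw [show (J S).uliftYonedaEquiv.symm (X.obj.map c s) =
      (yon S).map c.unop ≫ (J S).uliftYonedaEquiv.symm s from
      (GrothendieckTopology.uliftYonedaEquiv_symm_naturality_left _ c.unop X s).symm, ofPt_comp]
    exact hs _

/-- The subsheaf of sections landing in a subset of the points. -/
noncomputable def subSp (X : Sp S) (W : Set (Points X)) : Sp S :=
  ⟨(subFun X W).toFunctor, (isSheaf_iff_isSheaf_of_type _ _).2 ((Subfunctor.isSheaf_iff (J := J S) (G := subFun X W)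
    ((isSheaf_iff_isSheaf_of_type _ _).1 X.property)).2 fun T s hs t => by
      obtain ⟨κ, U, v, hv, -, -, hsurj⟩ := exists_fppf_of_mem_J hs
      obtain ⟨k, y, rfl⟩ := hsurj t
      have := hv k y
      rwa [show (J S).uliftYonedaEquiv.symm (X.obj.map (v k).op s) =
        (yon S).map (v k) ≫ (J S).uliftYonedaEquiv.symm s from
        (GrothendieckTopology.uliftYonedaEquiv_symm_naturality_left _ (v k) X s).symm, ofPt_comp] at this)⟩

/-- The inclusion. -/
noncomputable def subι (X : Sp S) (W : Set (Points X)) : subSp X W ⟶ X := ⟨(subFun X W).ι⟩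

instance mono_subι (X : Sp S) (W : Set (Points X)) : Mono (subι X W) := by
  refine mono_of_cancel fun T a b h => ?_
  apply (J S).uliftYonedaEquiv.injective
  apply Subtype.ext
  have h1 : ∀ c : (yon S).obj T ⟶ subSp X W, ((J S).uliftYonedaEquiv c).1 =
      (J S).uliftYonedaEquiv (c ≫ subι X W) := fun c => by
    rw [GrothendieckTopology.uliftYonedaEquiv_comp]; rfl
  rw [h1, h1, h]

theorem exists_subι_lift (X : Sp S) (W : Set (Points X)) {T : Over S} (g : (yon S).obj T ⟶ X)
    (h : ∀ t, Points.ofPt g t ∈ W) : ∃ l, l ≫ subι X W = g := by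
  refine ⟨(J S).uliftYonedaEquiv.symm ⟨(J S).uliftYonedaEquiv g, fun t => ?_⟩, ?_⟩
  · rw [Equiv.symm_apply_apply]; exact h t
  · apply (J S).uliftYonedaEquiv.injective
    rw [GrothendieckTopology.uliftYonedaEquiv_comp, Equiv.apply_symm_apply]
    rfl

theorem ofPt_subι_mem (X : Sp S) (W : Set (Points X)) {T : Over S} (l : (yon S).obj T ⟶ subSp X W)
    (t : ↥T.left) : Points.ofPt (l ≫ subι X W) t ∈ W := by
  have := ((J S).uliftYonedaEquiv l).2 t
  rw [← Equiv.symm_apply_apply (J S).uliftYonedaEquiv (l ≫ subι X W), GrothendieckTopology.uliftYonedaEquiv_comp]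
  exact this

theorem range_subι (X : Sp S) (W : Set (Points X)) : Set.range (Points.map (subι X W)) = W := by
  refine Set.Subset.antisymm ?_ fun x hx => ?_
  · rintro _ ⟨y, rfl⟩
    obtain ⟨T, a, t, rfl⟩ := exists_ofPt y
    rw [Points.map_ofPt]
    exact ofPt_subι_mem X W a t
  · induction x using Points.ind with
    | h p =>
      obtain ⟨l, hl⟩ := exists_subι_lift X W p.toHom fun t => by rwa [Points.ofPt_toHom]
      exact ⟨Points.ofPt l (IsLocalRing.closedPoint p.K), by rw [Points.map_ofPt, hl, Points.ofPt_toHom]⟩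

theorem exists_sq_subι (X : Sp S) {W : Set (Points X)} (hW : IsOpen W) {T : Over S} (g : (yon S).obj T ⟶ X) :
    ∃ (fst : (yon S).obj (openSub T ⟨Points.ofPt g ⁻¹' W, hW.preimage (Points.continuous_ofPt g)⟩) ⟶ subSp X W),
      IsPullback fst ((yon S).map (openSubι T _)) (subι X W) g := by
  let O : T.left.Opens := ⟨Points.ofPt g ⁻¹' W, hW.preimage (Points.continuous_ofPt g)⟩
  obtain ⟨fst, hfst⟩ := exists_subι_lift X W ((yon S).map (openSubι T O) ≫ g) fun t => by
    rw [ofPt_comp]
    exact ((range_openSubι T O).le ⟨t, rfl⟩ : _)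
  refine ⟨fst, ?_⟩
  have sP := IsPullback.of_hasPullback (subι X W) g
  let m := sP.lift fst ((yon S).map (openSubι T O)) hfst
  have : Mono ((yon S).map (openSubι T O)) :=
    mono_of_repWith (P := @IsOpenImmersion) (fun _ _ e (_ : IsOpenImmersion e) => inferInstance)
      ((repWith_yon_map_iff _ _).2 (inferInstanceAs (IsOpenImmersion (openSubι T O).left)))
  have : Mono (m ≫ pullback.snd (subι X W) g) := by rw [sP.lift_snd]; infer_instance
  have : Mono m := mono_of_mono m (pullback.snd (subι X W) g)
  have : IsIso m := isIso_of_mono_of_sq m fun Z z => by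
    obtain ⟨b, hb⟩ := exists_openSub_lift O (pre (z ≫ pullback.snd (subι X W) g)) fun t => by
      change Points.ofPt g _ ∈ W
      rw [← ofPt_comp, map_pre, Category.assoc, ← pullback.condition, ← Category.assoc]
      exact ofPt_subι_mem X W _ t
    refine ⟨Z, 𝟙 Z, (yon S).map b, (inferInstance : Flat (𝟙 Z.left)), (inferInstance : Surjective (𝟙 Z.left)),
      (inferInstance : LocallyOfFinitePresentation (𝟙 Z.left)), ?_⟩
    rw [CategoryTheory.Functor.map_id, Category.id_comp]
    have e : ((yon S).map b ≫ m) ≫ pullback.snd (subι X W) g = z ≫ pullback.snd (subι X W) g := by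
      rw [Category.assoc, sP.lift_snd, ← Functor.map_comp, hb, map_pre]
    refine sP.hom_ext ?_ e
    rw [← cancel_mono (subι X W)]
    have e' := congrArg (· ≫ g) e
    simp only [Category.assoc] at e'
    simp only [Category.assoc, pullback.condition]
    exact e'
  exact IsPullback.of_iso_pullback ⟨hfst⟩ (asIso m) (sP.lift_fst _ _ _) (sP.lift_snd _ _ _)

theorem repWith_subι (X : Sp S) {W : Set (Points X)} (hW : IsOpen W) :
    RepWith @IsOpenImmersion (subι X W) := by
  refine repWith_mk fun T g => ?_
  obtain ⟨fst, sq⟩ := exists_sq_subι X hW g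
  exact ⟨_, fst, _, sq, inferInstance⟩

theorem isAlgSpace_subSp {X : Sp S} (hX : IsAlgSpace X) {W : Set (Points X)} (hW : IsOpen W) :
    IsAlgSpace (subSp X W) where
  diag := Functor.relativelyRepresentable.diag_of_map_from_obj fun T g T' g' => by
    obtain ⟨V, p, q, sq⟩ := exists_sq (hX.representable_from_yon (g ≫ subι X W)) (g' ≫ subι X W)
    have w : p ≫ g = (yon S).map q ≫ g' := by
      rw [← cancel_mono (subι X W)]; simpa using sq.w
    exact ⟨V, q, p, ⟨⟨w⟩, ⟨PullbackCone.IsLimit.mk w
      (fun s => sq.lift s.fst s.snd (by simp [s.condition_assoc])) (fun s => sq.lift_fst _ _ _)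
      (fun s => sq.lift_snd _ _ _) (fun s l h1 h2 => sq.hom_ext (by simp [h1]) (by simp [h2]))⟩⟩⟩
  atlas := by
    obtain ⟨U, p, hp, hps⟩ := hX.atlas
    obtain ⟨fst, sq⟩ := exists_sq_subι X hW p
    exact ⟨_, fst, repWith_of_isPullback sq.flip hp, repWith_of_isPullback sq.flip hps⟩

/-- An open subset of the points is the set of points of an open subspace. -/
theorem exists_openSubspace (X : Space S) {W : Set (Points X.obj)} (hW : IsOpen W) :
    ∃ (X' : Space S) (j : X' ⟶ X), RepWith @IsOpenImmersion j.hom ∧ Set.range (Points.map j.hom) = W :=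
  ⟨⟨subSp X.obj W, isAlgSpace_subSp X.property hW⟩, ObjectProperty.homMk (subι X.obj W),
    repWith_subι X.obj hW, range_subι X.obj W⟩

/-- Morphisms factor through an open subspace iff their images do. -/
theorem exists_lift_openImm {X' X Y : Sp S} {j : X' ⟶ X}
    (hj : RepWith @IsOpenImmersion j) (f : Y ⟶ X)
    (h : Set.range (Points.map f) ⊆ Set.range (Points.map j)) : ∃ g : Y ⟶ X', g ≫ j = f := by
  have : Mono j := mono_of_repWith (fun _ _ e (_ : IsOpenImmersion e) => inferInstance) hj
  have : Mono (pullback.snd j f) := inferInstance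
  have : IsIso (pullback.snd j f) := by
    refine isIso_of_mono_of_sq _ fun T g => ?_
    obtain ⟨V, a, b, sq⟩ := exists_sq hj.1 (g ≫ f)
    have : IsOpenImmersion b.left := hj.2 _ _ _ sq
    have : Surjective b.left := ⟨fun t => by
      obtain ⟨y, hy⟩ := h ⟨Points.ofPt g t, Points.map_ofPt g f t⟩
      obtain ⟨v, -, hv⟩ := exists_point_of_sq sq y t hy
      exact ⟨v, hv⟩⟩
    exact ⟨V, b, pullback.lift a ((yon S).map b ≫ g) (by rw [sq.w, Category.assoc]),
      inferInstance, inferInstance, inferInstance, pullback.lift_snd _ _ _⟩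
  exact ⟨inv (pullback.snd j f) ≫ pullback.fst j f, by
    rw [Category.assoc, pullback.condition, IsIso.inv_hom_id_assoc]⟩

end Groth.Agent.AlgSpLoc
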