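import Groth.Agent.AlgSpLoc.Inst3
import Groth.Agent.AlgSpLoc.Covers
import Groth.Agent.AlgSpLoc.OpenSubspace

/-!
Immersions are fppf local on the base.
-/

set_option autoImplicit false
set_option backward.isDefEq.respectTransparency false

universe u

open CategoryTheory CategoryTheory.Limits AlgebraicGeometry Opposite

namespace Groth.Agent.AlgSpLoc

open _root_.AlgSp Groth.Agent.AlgSpc

variable {S : Scheme.{u}}

theorem isLocalOnBase_immersion_fppf :
    IsLocalOnBase (IsFppfCover (S := S)) (RepWith (S := S) @IsImmersion) := by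
  intro ι Y Yi g hY hYi hcov X f hX Xi p q hXi hsq
  refine ⟨fun hf i => repWith_of_isPullback (hsq i) hf, fun hp => repWith_mk fun T t => ?_⟩
  obtain ⟨U, c, hc, hc', hs, hl⟩ := exists_fppf_family hY hYi hcov t
  choose l hl using hl
  let Z : Set T.left := Points.ofPt t ⁻¹' Set.range (Points.map f)
  -- the base changes to the members of the covering
  have key : ∀ k, ∃ (V : Over S) (a : (yon S).obj V ⟶ X) (b : V ⟶ U k),
      IsPullback a ((yon S).map b) f ((yon S).map (c k) ≫ t) ∧ IsImmersion b.left ∧
        Set.range b.left = (c k).left ⁻¹' Z := fun k => by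
    obtain ⟨V, a, b, sq⟩ := exists_sq (hp k).1 (l k)
    have sq' : IsPullback (a ≫ q k) ((yon S).map b) f ((yon S).map (c k) ≫ t) := by
      rw [← hl k]; exact sq.paste_horiz (hsq k)
    refine ⟨V, _, b, sq', (hp k).2 _ _ _ sq, Set.ext fun u => ⟨?_, ?_⟩⟩
    · rintro ⟨v, rfl⟩
      refine ⟨Points.ofPt (a ≫ q k) v, ?_⟩
      rw [Points.map_ofPt, sq'.w, ofPt_comp, ofPt_comp]
    · rintro ⟨x, hx⟩
      obtain ⟨v, -, hv⟩ := exists_point_of_sq sq' x u (by rw [hx, ofPt_comp])
      exact ⟨v, hv⟩
  choose V a b sqb hb hbr using key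
  have hco : ∀ k, (c k).left ⁻¹' coborder Z = coborder (Set.range (b k).left) := fun k => by
    have := hc k; have := hc' k
    rw [hbr k, coborder_preimage (c k).left.isOpenMap (c k).left.continuous]
  have hopen : IsOpen (coborder Z) := by
    have : coborder Z = ⋃ k, (c k).left '' coborder (Set.range (b k).left) := by
      ext x
      simp only [← hco, Set.mem_iUnion, Set.mem_image, Set.mem_preimage]
      exact ⟨fun hx => by obtain ⟨k, y, rfl⟩ := hs x; exact ⟨k, y, hx, rfl⟩,
        fun ⟨k, y, hy, e⟩ => e ▸ hy⟩
    rw [this]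
    refine isOpen_iUnion fun k => ?_
    have := hc k; have := hc' k
    have := hb k
    exact (c k).left.isOpenMap _ (b k).left.isLocallyClosed_range.isOpen_coborder
  let O : T.left.Opens := ⟨coborder Z, hopen⟩
  let t' := (yon S).map (openSubι T O) ≫ t
  have sqO := IsPullback.of_hasPullback f t'
  have hP : IsAlgSpace (pullback f t') := isAlgSpace_of_isPullback hX hY (IsAlgSpace.yon_obj _) sqO
  choose c' hc'c using fun k => exists_openSub_lift O
    (openSubι (U k) ((c k).left ⁻¹ᵁ O) ≫ c k) fun u =>
      (range_openSubι (U k) ((c k).left ⁻¹ᵁ O)).le ⟨u, rfl⟩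
  have hflat : ∀ k, Flat (c' k).left ∧ LocallyOfFinitePresentation (c' k).left := fun k => by
    have := hc k; have := hc' k
    have e : (c' k).left ≫ (openSubι T O).left = (openSubι (U k) ((c k).left ⁻¹ᵁ O)).left ≫ (c k).left :=
      congrArg CommaMorphism.left (hc'c k)
    have e' : (c' k).left = (c k).left ∣_ O := by
      rw [← cancel_mono O.ι, morphismRestrict_ι]
      exact e
    rw [e']
    exact ⟨IsZariskiLocalAtTarget.restrict (P := @Flat) (hc k) O,
      IsZariskiLocalAtTarget.restrict (P := @LocallyOfFinitePresentation) (hc' k) O⟩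
  have hcovO : IsFppfCover (fun k => (yon S).obj (openSub (U k) ((c k).left ⁻¹ᵁ O)))
      (fun k => (yon S).map (c' k)) := by
    refine ⟨fun k => ⟨?_, ?_⟩, fun x => ?_⟩
    · exact locP_of_repWith (fun e f (_ : Etale e) (_ : Flat f) => inferInstanceAs (Flat (e ≫ f)))
        ((repWith_yon_map_iff _ _).2 (hflat k).1)
    · exact locP_of_repWith (fun e f (_ : Etale e) (_ : LocallyOfFinitePresentation f) =>
        inferInstanceAs (LocallyOfFinitePresentation (e ≫ f))) ((repWith_yon_map_iff _ _).2 (hflat k).2)
    · rw [← Points.ofScheme_toScheme _ x]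
      generalize Points.toScheme _ x = o
      obtain ⟨k, u, hu⟩ := hs ((openSubι T O).left o)
      obtain ⟨u', hu'⟩ := (range_openSubι (U k) ((c k).left ⁻¹ᵁ O)).ge
        (show u ∈ ((c k).left ⁻¹ᵁ O : Set (U k).left) by
          change (c k).left u ∈ O
          rw [hu]; exact (range_openSubι T O).le ⟨o, rfl⟩)
      refine ⟨k, Points.ofScheme _ u', ?_⟩
      rw [← Points.ofPt_eq_map_ofScheme, ofPt_pre, pre_map]
      congr 1
      apply (openSubι T O).left.isOpenEmbedding.injective
      rw [← hu, ← hu']
      exact congrArg (fun φ => φ.left u') (hc'c k)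
  -- closed immersion over `O`
  have hcl : RepWith @IsClosedImmersion (pullback.snd f t') := by
    refine (isLocalOnBase_closedImmersion (fun k => (yon S).obj (openSub (U k) ((c k).left ⁻¹ᵁ O))) _
      (IsAlgSpace.yon_obj _) (fun k => IsAlgSpace.yon_obj _)
      (isFpqcCover_of_isFppfCover (IsAlgSpace.yon_obj _) (fun k => IsAlgSpace.yon_obj _) hcovO)
      (pullback.snd f t') hP _ (fun k => pullback.snd (pullback.snd f t') ((yon S).map (c' k)))
      (fun k => pullback.fst _ _)
      (fun k => isAlgSpace_of_isPullback hP (IsAlgSpace.yon_obj _) (IsAlgSpace.yon_obj _)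
        (IsPullback.of_hasPullback _ _)) (fun k => IsPullback.of_hasPullback _ _)).2 fun k => ?_
    let O' := (c k).left ⁻¹ᵁ O
    obtain ⟨b', hb'⟩ := exists_openSub_lift O' (b k) fun v => by
      change (c k).left ((b k).left v) ∈ coborder Z
      exact subset_coborder ((hbr k).le ⟨v, rfl⟩)
    have := hb k
    have hb'imm : IsImmersion (b'.left ≫ (openSubι (U k) O').left) := by
      rw [show b'.left ≫ (openSubι (U k) O').left = (b k).left from congrArg CommaMorphism.left hb']
      exact hb k
    have hb'c : IsClosedImmersion b'.left := by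
      have : IsImmersion b'.left := IsImmersion.of_comp b'.left (openSubι (U k) O').left
      refine .of_isPreimmersion _ ?_
      have : Set.range b'.left = (openSubι (U k) O').left ⁻¹' Set.range (b k).left := by
        rw [show (b k).left = b'.left ≫ (openSubι (U k) O').left from (congrArg CommaMorphism.left hb').symm,
          Scheme.Hom.comp_base, TopCat.coe_comp, Set.range_comp]
        exact (Set.preimage_image_eq _ (openSubι (U k) O').left.isOpenEmbedding.injective).symm
      rw [this]
      have e : Set.range (b k).left = (c k).left ⁻¹' Z := hbr k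
      let e' : ↥(openSub (U k) O').left → ↥(coborder (Set.range (b k).left)) := fun z =>
        ⟨(openSubι (U k) O').left z, (hco k).le ((range_openSubι (U k) O').le ⟨z, rfl⟩)⟩
      exact isClosed_preimage_val_coborder.preimage
        (f := e') ((openSubι (U k) O').left.continuous.subtype_mk _)
    -- the square over `O'`
    have : Mono ((yon S).map (openSubι (U k) O')) := mono_of_repWith (P := @IsOpenImmersion) (fun _ _ e (_ : IsOpenImmersion e) => inferInstance)
      ((repWith_yon_map_iff _ _).2 (inferInstanceAs (IsOpenImmersion O'.ι)))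
    have sq1 : IsPullback (a k) ((yon S).map b') f ((yon S).map (openSubι (U k) O') ≫ (yon S).map (c k) ≫ t) := by
      have w : a k ≫ f = (yon S).map b' ≫ (yon S).map (openSubι (U k) O') ≫ (yon S).map (c k) ≫ t := by
        rw [(sqb k).w, ← Functor.map_comp_assoc (yon S) b', hb']
      refine ⟨⟨w⟩, ⟨PullbackCone.IsLimit.mk w (fun s => (sqb k).lift s.fst (s.snd ≫ (yon S).map (openSubι (U k) O'))
        (by rw [Category.assoc]; exact s.condition)) (fun s => (sqb k).lift_fst _ _ _)
        (fun s => by
          rw [← cancel_mono ((yon S).map (openSubι (U k) O')), Category.assoc, ← Functor.map_comp, hb',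
            (sqb k).lift_snd])
        (fun s m h1 h2 => (sqb k).hom_ext (by simp [h1])
          (by rw [(sqb k).lift_snd, ← h2, Category.assoc, ← Functor.map_comp, hb']))⟩⟩
    have e1 : (yon S).map (openSubι (U k) O') ≫ (yon S).map (c k) ≫ t = (yon S).map (c' k) ≫ t' := by
      simp only [t', ← Functor.map_comp_assoc, hc'c, O']
    rw [e1] at sq1
    have sq2 := (IsPullback.of_hasPullback (pullback.snd f t') ((yon S).map (c' k))).paste_horiz sqO
    rw [show pullback.snd (pullback.snd f t') ((yon S).map (c' k)) =
      (sq2.isoIsPullback _ _ sq1).hom ≫ (yon S).map b' from (sq2.isoIsPullback_hom_snd _ _ sq1).symm]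
    exact (MorphismProperty.cancel_left_of_respectsIso (RepWith @IsClosedImmersion) _ _).2
      ((repWith_yon_map_iff _ _).2 hb'c)
  obtain ⟨W, fst, k, sqk⟩ := exists_sq hcl.1 (𝟙 _)
  have hk : IsClosedImmersion k.left := hcl.2 _ _ _ sqk
  have sqW : IsPullback (fst ≫ pullback.fst f t') ((yon S).map k) f t' := by
    simpa using sqk.paste_horiz sqO
  have hι : RepWith @IsOpenImmersion ((yon S).map (openSubι T O)) :=
    (repWith_yon_map_iff _ _).2 (inferInstanceAs (IsOpenImmersion (openSubι T O).left))
  have hrange : Set.range (Points.map ((yon S).map (openSubι T O))) = Points.ofScheme T '' (O : Set T.left) := by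
    rw [← range_openSubι T O, ← Set.range_comp]
    ext x
    refine ⟨fun ⟨y, hy⟩ => ⟨Points.toScheme _ y, ?_⟩, fun ⟨o, ho⟩ => ⟨Points.ofScheme _ o, ?_⟩⟩
    · rw [← hy, ← Points.ofScheme_toScheme _ y, ← Points.ofPt_eq_map_ofScheme, ofPt_pre, pre_map,
        Points.ofScheme_toScheme]
      rfl
    · rw [← Points.ofPt_eq_map_ofScheme, ofPt_pre, pre_map]
      exact ho
  refine ⟨W, fst ≫ pullback.fst f t', k ≫ openSubι T O, ?_, ?_⟩
  · have w : (fst ≫ pullback.fst f t') ≫ f = (yon S).map (k ≫ openSubι T O) ≫ t := by
      rw [sqW.w, Functor.map_comp, Category.assoc]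
    have hfac : ∀ s : PullbackCone f t, ∃ r, r ≫ (yon S).map (openSubι T O) = s.snd := fun s =>
      exists_lift_openImm hι s.snd (by
        rintro _ ⟨z, rfl⟩
        rw [hrange]
        refine ⟨Points.toScheme T (Points.map s.snd z), subset_coborder ⟨Points.map s.fst z, ?_⟩,
          Points.ofScheme_toScheme _ _⟩
        rw [Points.ofPt_eq_map_ofScheme, Points.ofScheme_toScheme, ← Points.map_comp, ← Points.map_comp,
          s.condition])
    choose r hr using hfac
    refine ⟨⟨w⟩, ⟨PullbackCone.IsLimit.mk w (fun s => sqW.lift s.fst (r s) (by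
      rw [s.condition, ← hr s, Category.assoc])) (fun s => sqW.lift_fst _ _ _)
      (fun s => by rw [Functor.map_comp, sqW.lift_snd_assoc, hr])
      (fun s m h1 h2 => sqW.hom_ext (by rw [sqW.lift_fst]; exact h1) (by
        have : Mono ((yon S).map (openSubι T O)) := mono_of_repWith (P := @IsOpenImmersion) (fun _ _ e (_ : IsOpenImmersion e) => inferInstance)
          ((repWith_yon_map_iff _ _).2 (inferInstanceAs (IsOpenImmersion O.ι)))
        rw [sqW.lift_snd, ← cancel_mono ((yon S).map (openSubι T O)), hr, ← h2, Category.assoc, Functor.map_comp]))⟩⟩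
  · change IsImmersion (k.left ≫ (openSubι T O).left)
    infer_instance

end Groth.Agent.AlgSpLoc
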