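import Groth.Agent.AlgSpLoc.SourceOpen
import Groth.Agent.FpqcDescent.Flat
import Groth.Agent.FpqcDescent.Ideals
import Groth.Agent.SmoothReduced.Basic
import Groth.Agent.EtaleStalk.Basic
import Groth.Agent.S0565
import Groth.Prelude.Def_AlgSpSub

/-!
Descent of properties of algebraic spaces along flat surjective morphisms.
-/

set_option autoImplicit false
set_option backward.isDefEq.respectTransparency false

universe u

open CategoryTheory CategoryTheory.Limits AlgebraicGeometry Opposite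

namespace Groth.Agent.AlgSpLoc

open _root_.AlgSp Groth.Agent.AlgSpc

variable {S : Scheme.{u}}

/-- Charts of source and target with a surjective map between them. -/
theorem exists_surjective_chart {X Y : Sp S} (hY : IsAlgSpace Y) (f : X ⟶ Y)
    (hs : Function.Surjective (Points.map f)) {U₀ : Over S} {a₀ : (yon S).obj U₀ ⟶ X}
    (ha₀ : RepWith @Etale a₀) (ha₀s : RepWith @Surjective a₀) :
    ∃ (V U : Over S) (e : V ⟶ U₀) (h : V ⟶ U) (a : (yon S).obj V ⟶ X) (b : (yon S).obj U ⟶ Y),
      Etale e.left ∧ Surjective h.left ∧ RepWith @Etale a ∧ RepWith @Etale b ∧ RepWith @Surjective b ∧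
        a ≫ f = (yon S).map h ≫ b := by
  obtain ⟨U, b, hb, hbs⟩ := hY.atlas
  obtain ⟨V, fst, e, sq⟩ := exists_sq hb.1 (a₀ ≫ f)
  have he : RepWith @Etale ((yon S).map e) := repWith_of_isPullback sq hb
  refine ⟨V, U, e, pre fst, (yon S).map e ≫ a₀, b, (repWith_yon_map_iff _ _).1 he, ⟨fun u => ?_⟩,
    repWith_comp he ha₀, hb, hbs, by rw [map_pre, Category.assoc]; exact sq.w.symm⟩
  obtain ⟨x, hx⟩ := hs (Points.ofPt b u)
  obtain ⟨t, rfl⟩ := surjective_ofPt ha₀s x
  obtain ⟨v, hv, -⟩ := exists_point_of_sq sq (Points.ofScheme U u) t (by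
    rw [← Points.ofPt_eq_map_ofScheme, ← hx, Points.map_ofPt])
  rw [ofPt_pre] at hv
  exact ⟨v, by simpa using congrArg (Points.toScheme U) hv⟩

theorem isReducedSp_of_flat_surjective {X Y : Sp S} (hY : IsAlgSpace Y) {f : X ⟶ Y}
    (hfl : LocP @Flat f) (hs : Function.Surjective (Points.map f)) (hX : IsReducedSp X) : IsReducedSp Y := by
  obtain ⟨U₀, a₀, ha₀, ha₀s, hU₀⟩ := hX
  obtain ⟨V, U, e, h, a, b, he, hsurj, ha, hb, hbs, w⟩ := exists_surjective_chart hY f hs ha₀ ha₀s
  have := hfl a b h ha hb w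
  have := SmoothReduced.isReduced_of_smooth_scheme e.left
  exact ⟨U, b, hb, hbs, FpqcDescent.isReduced_of_flat_surjective h.left⟩

theorem isLocNoethSp_of_flat_surjective {X Y : Sp S} (hY : IsAlgSpace Y) {f : X ⟶ Y}
    (hfp : LocP @LocallyOfFinitePresentation f) (hfl : LocP @Flat f)
    (hs : Function.Surjective (Points.map f)) (hX : IsLocNoethSp X) : IsLocNoethSp Y := by
  obtain ⟨U₀, a₀, ha₀, ha₀s, hU₀⟩ := hX
  obtain ⟨V, U, e, h, a, b, he, hsurj, ha, hb, hbs, w⟩ := exists_surjective_chart hY f hs ha₀ ha₀s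
  have := hfl a b h ha hb w
  have := hfp a b h ha hb w
  have := LocallyOfFiniteType.isLocallyNoetherian e.left
  exact ⟨U, b, hb, hbs, FpqcDescent.isLocallyNoetherian_of_flat_surjective_universallyOpen h.left⟩

theorem isRegularSp_of_flat_surjective {X Y : Sp S} (hY : IsAlgSpace Y) {f : X ⟶ Y}
    (hfp : LocP @LocallyOfFinitePresentation f) (hfl : LocP @Flat f)
    (hs : Function.Surjective (Points.map f))
    (hX : EtaleLocally (fun U => IsLocallyNoetherian U ∧ ∀ u : ↥U, IsRegularLocalRing ↥(U.presheaf.stalk u)) X) :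
    EtaleLocally (fun U => IsLocallyNoetherian U ∧ ∀ u : ↥U, IsRegularLocalRing ↥(U.presheaf.stalk u)) Y := by
  obtain ⟨U₀, a₀, ha₀, ha₀s, hU₀, hreg⟩ := hX
  obtain ⟨V, U, e, h, a, b, he, hsurj, ha, hb, hbs, w⟩ := exists_surjective_chart hY f hs ha₀ ha₀s
  have := hfl a b h ha hb w
  have := hfp a b h ha hb w
  have := LocallyOfFiniteType.isLocallyNoetherian e.left
  have := FpqcDescent.isLocallyNoetherian_of_flat_surjective_universallyOpen h.left
  refine ⟨U, b, hb, hbs, this, fun u => ?_⟩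
  obtain ⟨v, rfl⟩ := h.left.surjective u
  have hv : IsRegularLocalRing (V.left.presheaf.stalk v) :=
    (EtaleStalk.isRegularLocalRing_iff e.left v).2 (hreg _)
  let := (h.left.stalkMap v).hom.toAlgebra
  have : Module.FaithfullyFlat (U.left.presheaf.stalk (h.left v)) (V.left.presheaf.stalk v) :=
    FpqcDescent.faithfullyFlat_stalkMap h.left v (Flat.stalkMap h.left v)
  have : IsLocalHom (algebraMap (U.left.presheaf.stalk (h.left v)) (V.left.presheaf.stalk v)) :=
    inferInstanceAs (IsLocalHom (h.left.stalkMap v).hom)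
  exact S0565.result (U.left.presheaf.stalk (h.left v)) (V.left.presheaf.stalk v)

end Groth.Agent.AlgSpLoc
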