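import Groth.Agent.AlgSpLoc.EtSmDescentSch
import Groth.Agent.AlgSpLoc.DescendPropSp
import Groth.Agent.FlatLocalDepth.FibreStalk
import Groth.Agent.S1386
import Groth.Agent.S0392
import Mathlib.RingTheory.TensorProduct.Quotient

/-!
Charts adapted to the fibrewise criterion of flatness for algebraic spaces, and the pointwise
criterion for locally Noetherian schemes.
-/

set_option autoImplicit false
set_option backward.isDefEq.respectTransparency false

universe u

open CategoryTheory CategoryTheory.Limits AlgebraicGeometry IsLocalRing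

namespace Groth.Agent.AlgSpLoc

open _root_.AlgSp Groth.Agent.AlgSpc TensorProduct

/-- A flat map of quotients gives flatness of the base changed module. -/
theorem flat_tensor_of_flat_quotient {S S' : Type u} [CommRing S] [CommRing S'] [Algebra S S'] (I : Ideal S)
    (h : Module.Flat (S ⧸ I) (S' ⧸ I.map (algebraMap S S'))) : Module.Flat (S ⧸ I) ((S ⧸ I) ⊗[S] S') := by
  let e : (S ⧸ I) ⊗[S] S' ≃ₗ[S] S' ⧸ I.map (algebraMap S S') :=
    TensorProduct.comm S (S ⧸ I) S' ≪≫ₗ
      ((Algebra.TensorProduct.quotIdealMapEquivTensorQuot S' I).symm.toLinearEquiv.restrictScalars S)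
  exact Module.Flat.of_linearEquiv (e.extendScalarsOfSurjective Ideal.Quotient.mk_surjective)

section Scheme

variable {X Y Z : Scheme.{u}}

theorem surjective_fiber_stalk (f : X ⟶ Y) (s : Y) (w : f.fiber s) :
    Function.Surjective ((f.fiberι s).stalkMap w) ∧ RingHom.ker ((f.fiberι s).stalkMap w).hom =
      (maximalIdeal (Y.presheaf.stalk (f (f.fiberι s w)))).map (f.stalkMap (f.fiberι s w)).hom :=
  ⟨(f.fiberι s).stalkMap_surjective w, le_antisymm (DivPts.ker_fiberι_stalkMap_le f s w)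
    (Ideal.map_le_iff_le_comap.2 fun a ha => DivPts.stalkMap_fiberι_eq_zero f s w ha)⟩

theorem fiber_stalk_congr (f : X ⟶ Y) (s : Y) (w : f.fiber s) (x : X) (hx : f.fiberι s w = x) :
    Function.Surjective ((X.presheaf.stalkCongr (.of_eq hx.symm)).hom ≫ (f.fiberι s).stalkMap w) ∧
      RingHom.ker ((X.presheaf.stalkCongr (.of_eq hx.symm)).hom ≫ (f.fiberι s).stalkMap w).hom =
      (maximalIdeal (Y.presheaf.stalk (f x))).map (f.stalkMap x).hom := by
  subst hx
  simpa using surjective_fiber_stalk f s w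

/-- The fibrewise criterion of flatness at a point, for locally Noetherian schemes. -/
theorem flat_of_flat_fiberMap_noetherian (f : X ⟶ Y) (g : Y ⟶ Z) [IsLocallyNoetherian X] [IsLocallyNoetherian Y]
    [IsLocallyNoetherian Z] (s : Z) (xs : (f ≫ g).fiber s)
    (hflat : ((f ≫ g).stalkMap ((f ≫ g).fiberι s xs)).hom.Flat)
    (hfib : ((MoreMor.fiberMap f g s).stalkMap xs).hom.Flat) :
    (g.stalkMap (f ((f ≫ g).fiberι s xs))).hom.Flat ∧ (f.stalkMap ((f ≫ g).fiberι s xs)).hom.Flat := by
  let x := (f ≫ g).fiberι s xs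
  let φ := MoreMor.fiberMap f g s
  have hcomm : φ ≫ g.fiberι s = (f ≫ g).fiberι s ≫ f := pullback.lift_fst _ _ _
  have hy : g.fiberι s (φ xs) = f x := congr($(hcomm) xs)
  let σ : Y.presheaf.stalk (f x) ⟶ (g.fiber s).presheaf.stalk (φ xs) :=
    (Y.presheaf.stalkCongr (.of_eq hy.symm)).hom ≫ (g.fiberι s).stalkMap (φ xs)
  have hsq : σ ≫ φ.stalkMap xs = f.stalkMap x ≫ ((f ≫ g).fiberι s).stalkMap xs := by
    have e := Scheme.Hom.stalkMap_congr_hom _ _ hcomm xs
    rw [Scheme.Hom.stalkMap_comp, Scheme.Hom.stalkMap_comp] at e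
    simp only [σ, Category.assoc, e, TopCat.Presheaf.stalkCongr_hom, TopCat.Presheaf.stalkSpecializes_comp_assoc,
      TopCat.Presheaf.stalkSpecializes_refl, x]
    exact Category.id_comp _
  obtain ⟨hσ, hσk⟩ := fiber_stalk_congr g s (φ xs) (f x) hy
  obtain ⟨hτ, hτk⟩ := surjective_fiber_stalk (f ≫ g) s xs
  let _ := (g.stalkMap (f x)).hom.toAlgebra
  let _ := (f.stalkMap x).hom.toAlgebra
  let _ : Algebra (Z.presheaf.stalk (g (f x))) (X.presheaf.stalk x) :=
    ((f.stalkMap x).hom.comp (g.stalkMap (f x)).hom).toAlgebra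
  have : IsScalarTower (Z.presheaf.stalk (g (f x))) (Y.presheaf.stalk (f x)) (X.presheaf.stalk x) :=
    IsScalarTower.of_algebraMap_eq fun _ => rfl
  have : IsLocalHom (algebraMap (Z.presheaf.stalk (g (f x))) (Y.presheaf.stalk (f x))) :=
    inferInstanceAs (IsLocalHom (g.stalkMap (f x)).hom)
  have : IsLocalHom (algebraMap (Y.presheaf.stalk (f x)) (X.presheaf.stalk x)) :=
    inferInstanceAs (IsLocalHom (f.stalkMap x).hom)
  have : Module.Flat (Z.presheaf.stalk (g (f x))) (X.presheaf.stalk x) := by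
    rw [Scheme.Hom.stalkMap_comp] at hflat
    exact hflat
  let I := (maximalIdeal (Z.presheaf.stalk (g (f x)))).map (g.stalkMap (f x)).hom
  let J := I.map (algebraMap (Y.presheaf.stalk (f x)) (X.presheaf.stalk x))
  have hJ : RingHom.ker (((f ≫ g).fiberι s).stalkMap xs).hom = J := by
    rw [hτk, Scheme.Hom.stalkMap_comp]
    exact (Ideal.map_map _ _).symm
  have hq : Module.Flat (Y.presheaf.stalk (f x) ⧸ I) (X.presheaf.stalk x ⧸ J) := by
    let e₁ := (Ideal.quotEquivOfEq hσk.symm).trans (RingHom.quotientKerEquivOfSurjective hσ)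
    let e₂ := (Ideal.quotEquivOfEq hJ.symm).trans (RingHom.quotientKerEquivOfSurjective hτ)
    have e : algebraMap (Y.presheaf.stalk (f x) ⧸ I) (X.presheaf.stalk x ⧸ J) =
        e₂.symm.toRingHom.comp ((φ.stalkMap xs).hom.comp e₁.toRingHom) := by
      refine Ideal.Quotient.ringHom_ext (RingHom.ext fun y => e₂.injective ?_)
      simp only [RingHom.comp_apply, RingEquiv.toRingHom_eq_coe, RingEquiv.coe_toRingHom, e₂.apply_symm_apply]
      exact congr($(hsq.symm) y)
    have h : (algebraMap (Y.presheaf.stalk (f x) ⧸ I) (X.presheaf.stalk x ⧸ J)).Flat := by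
      rw [e]
      exact ((RingHom.Flat.of_bijective e₁.bijective).comp hfib).comp (RingHom.Flat.of_bijective e₂.symm.bijective)
    exact RingHom.flat_algebraMap_iff.1 h
  exact S0392.result (R := Z.presheaf.stalk (g (f x))) (S := Y.presheaf.stalk (f x)) (S' := X.presheaf.stalk x)
    (M := X.presheaf.stalk x) (flat_tensor_of_flat_quotient I hq)

end Scheme

section Space

variable {S : Scheme.{u}}

theorem isLocallyNoetherian_chart {F : Sp S} (hN : IsLocNoethSp F) {U : Over S} {a : (yon S).obj U ⟶ F}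
    (ha : RepWith @Etale a) : IsLocallyNoetherian U.left := by
  obtain ⟨U₀, a₀, ha₀, ha₀s, hU₀⟩ := hN
  obtain ⟨W, fst, snd, sq⟩ := exists_sq ha₀.1 a
  have : Etale snd.left := ha₀.2 _ _ _ sq
  have : Surjective snd.left := ha₀s.2 _ _ _ sq
  have : Etale (pre fst).left := sq_etale sq ha
  have : IsLocallyNoetherian W.left := LocallyOfFiniteType.isLocallyNoetherian (pre fst).left
  exact FpqcDescent.isLocallyNoetherian_of_flat_surjective_universallyOpen snd.left

theorem isPullback_yon {A B C D : Over S} {a : A ⟶ B} {b : A ⟶ C} {c : B ⟶ D} {d : C ⟶ D}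
    (h : IsPullback a.left b.left c.left d.left) :
    IsPullback ((yon S).map a) ((yon S).map b) ((yon S).map c) ((yon S).map d) :=
  (isPullback_over h).map (yon S)

/-- Etale surjective charts of a composite on whose scheme fibres the map is flat. -/
theorem exists_charts_flat_fibres {X Y Z : Space S} (f : X ⟶ Y) (h : Y ⟶ Z)
    (hfib : ∀ (K : Type u) [Field K] (sK : Spec (CommRingCat.of K) ⟶ S)
      (z : (yon S).obj (Over.mk sK) ⟶ Z.obj) (Xz Yz : Sp S)
      (pX : Xz ⟶ X.obj) (qX : Xz ⟶ (yon S).obj (Over.mk sK))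
      (pY : Yz ⟶ Y.obj) (qY : Yz ⟶ (yon S).obj (Over.mk sK)) (fz : Xz ⟶ Yz),
      IsPullback pX qX (f ≫ h).hom z → IsPullback pY qY h.hom z → fz ≫ pY = pX ≫ f.hom → fz ≫ qY = qX →
      LocP @Flat fz) :
    ∃ (U V W : Over S) (a : (yon S).obj U ⟶ X.obj) (b : (yon S).obj V ⟶ Y.obj) (c : (yon S).obj W ⟶ Z.obj)
      (f' : U ⟶ V) (h' : V ⟶ W), RepWith @Etale a ∧ RepWith @Surjective a ∧ RepWith @Etale b ∧
      RepWith @Surjective b ∧ RepWith @Etale c ∧ RepWith @Surjective c ∧ a ≫ f.hom = (yon S).map f' ≫ b ∧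
      b ≫ h.hom = (yon S).map h' ≫ c ∧ (IsSurjectiveMor f.hom → Surjective f'.left) ∧
      ∀ s : W.left, Flat (MoreMor.fiberMap f'.left h'.left s) := by
  obtain ⟨W, c, hc, hcs⟩ := Z.property.atlas
  have sX := IsPullback.of_hasPullback (f ≫ h).hom c
  have sY := IsPullback.of_hasPullback h.hom c
  have hX₁ := isAlgSpace_of_isPullback X.property Z.property (IsAlgSpace.yon_obj W) sX
  have hY₁ := isAlgSpace_of_isPullback Y.property Z.property (IsAlgSpace.yon_obj W) sY
  let f₁ := sY.lift (pullback.fst (f ≫ h).hom c ≫ f.hom) (pullback.snd (f ≫ h).hom c)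
    (by rw [Category.assoc]; exact sX.w)
  have sf₁ : IsPullback (pullback.fst (f ≫ h).hom c) f₁ f.hom (pullback.fst h.hom c) :=
    IsPullback.of_bot (by rw [sY.lift_snd]; exact sX) (sY.lift_fst _ _ _).symm sY
  obtain ⟨V, b₀, hb₀, hb₀s⟩ := hY₁.atlas
  have s₂ := IsPullback.of_hasPullback f₁ b₀
  have hX₂ := isAlgSpace_of_isPullback hX₁ hY₁ (IsAlgSpace.yon_obj V) s₂
  obtain ⟨U, a₀, ha₀, ha₀s⟩ := hX₂.atlas
  let a₁ := a₀ ≫ pullback.fst f₁ b₀
  let f' : U ⟶ V := pre (a₀ ≫ pullback.snd f₁ b₀)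
  let h' : V ⟶ W := pre (b₀ ≫ pullback.snd h.hom c)
  have ha₁ : RepWith @Etale a₁ := repWith_comp ha₀ (repWith_of_isPullback s₂.flip hb₀)
  have ha₁s : RepWith @Surjective a₁ := repWith_comp ha₀s (repWith_of_isPullback s₂.flip hb₀s)
  have e₁ : a₁ ≫ f₁ = (yon S).map f' ≫ b₀ := by
    rw [map_pre, Category.assoc, Category.assoc, s₂.w]
  have e₂ : a₁ ≫ pullback.snd (f ≫ h).hom c = (yon S).map (f' ≫ h') := by
    rw [Functor.map_comp, map_pre (b₀ ≫ _), ← Category.assoc _ b₀, ← e₁, Category.assoc a₁ f₁, sY.lift_snd]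
  have e₃ : b₀ ≫ pullback.snd h.hom c = (yon S).map h' := (map_pre _).symm
  refine ⟨U, V, W, a₁ ≫ pullback.fst (f ≫ h).hom c, b₀ ≫ pullback.fst h.hom c, c, f', h',
    repWith_comp ha₁ (repWith_of_isPullback sX.flip hc), repWith_comp ha₁s (repWith_of_isPullback sX.flip hcs),
    repWith_comp hb₀ (repWith_of_isPullback sY.flip hc), repWith_comp hb₀s (repWith_of_isPullback sY.flip hcs),
    hc, hcs, ?_, ?_, fun hf => ?_, fun s => ?_⟩
  · rw [← Category.assoc ((yon S).map f'), ← e₁, Category.assoc a₁ f₁, sY.lift_fst, Category.assoc]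
  · rw [Category.assoc, sY.w, ← Category.assoc, e₃]
  · refine ⟨fun v => ?_⟩
    obtain ⟨x, hx⟩ := hf (Points.map (pullback.fst h.hom c) (Points.ofPt b₀ v))
    obtain ⟨z, -, hz⟩ := exists_point_of_isPullback sf₁ x (Points.ofPt b₀ v) hx
    obtain ⟨w, -, hw⟩ := exists_point_of_isPullback s₂ z (Points.ofScheme V v)
      (by rw [hz, Points.ofPt_eq_map_ofScheme])
    obtain ⟨u, hu⟩ := surjective_ofPt ha₀s w
    refine ⟨u, ?_⟩
    rw [← hu, Points.map_ofPt, ofPt_pre] at hw
    exact (Points.schemeEquiv V).injective hw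
  · let sK := W.left.fromSpecResidueField s ≫ W.hom
    let ι : Over.mk sK ⟶ W := Over.homMk (W.left.fromSpecResidueField s) rfl
    let fs := MoreMor.fiberMap f'.left h'.left s
    let Us : Over S := Over.mk ((f' ≫ h').left.fiberToSpecResidueField s ≫ sK)
    let tU : Us ⟶ Over.mk sK := Over.homMk ((f' ≫ h').left.fiberToSpecResidueField s) rfl
    have wU : (f' ≫ h').left.fiberι s ≫ U.hom = Us.hom := by
      change _ = (f' ≫ h').left.fiberToSpecResidueField s ≫ W.left.fromSpecResidueField s ≫ W.hom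
      rw [← Over.w (f' ≫ h'), ← Category.assoc, (f' ≫ h').left.fiber_fac s, Category.assoc]
    let iU : Us ⟶ U := Over.homMk ((f' ≫ h').left.fiberι s) wU
    let Vs : Over S := Over.mk (h'.left.fiberToSpecResidueField s ≫ sK)
    let tV : Vs ⟶ Over.mk sK := Over.homMk (h'.left.fiberToSpecResidueField s) rfl
    have wV : h'.left.fiberι s ≫ V.hom = Vs.hom := by
      change _ = h'.left.fiberToSpecResidueField s ≫ W.left.fromSpecResidueField s ≫ W.hom
      rw [← Over.w h', ← Category.assoc, h'.left.fiber_fac s, Category.assoc]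
    let iV : Vs ⟶ V := Over.homMk (h'.left.fiberι s) wV
    have hfs₁ : fs ≫ h'.left.fiberι s = (f' ≫ h').left.fiberι s ≫ f'.left := pullback.lift_fst _ _ _
    have hfs₂ : fs ≫ h'.left.fiberToSpecResidueField s = (f' ≫ h').left.fiberToSpecResidueField s :=
      pullback.lift_snd _ _ _
    let F : Us ⟶ Vs := Over.homMk fs (by
      change fs ≫ h'.left.fiberToSpecResidueField s ≫ sK = (f' ≫ h').left.fiberToSpecResidueField s ≫ sK
      rw [← Category.assoc, hfs₂])
    have qU : IsPullback ((yon S).map iU) ((yon S).map tU) ((yon S).map (f' ≫ h')) ((yon S).map ι) :=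
      isPullback_yon (IsPullback.of_hasPullback _ _)
    have qV : IsPullback ((yon S).map iV) ((yon S).map tV) ((yon S).map h') ((yon S).map ι) :=
      isPullback_yon (IsPullback.of_hasPullback _ _)
    have sXz := IsPullback.of_hasPullback (f ≫ h).hom ((yon S).map ι ≫ c)
    have sYz := IsPullback.of_hasPullback h.hom ((yon S).map ι ≫ c)
    let fz := sYz.lift (pullback.fst (f ≫ h).hom ((yon S).map ι ≫ c) ≫ f.hom)
      (pullback.snd (f ≫ h).hom ((yon S).map ι ≫ c)) (by rw [Category.assoc]; exact sXz.w)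
    have hfl : LocP @Flat fz := hfib _ sK ((yon S).map ι ≫ c) _ _ _ _ _ _ fz sXz sYz (sYz.lift_fst _ _ _)
      (sYz.lift_snd _ _ _)
    let kX := sX.lift (pullback.fst (f ≫ h).hom ((yon S).map ι ≫ c))
      (pullback.snd (f ≫ h).hom ((yon S).map ι ≫ c) ≫ (yon S).map ι) (by rw [Category.assoc]; exact sXz.w)
    let kY := sY.lift (pullback.fst h.hom ((yon S).map ι ≫ c))
      (pullback.snd h.hom ((yon S).map ι ≫ c) ≫ (yon S).map ι) (by rw [Category.assoc]; exact sYz.w)
    have skX : IsPullback kX (pullback.snd (f ≫ h).hom ((yon S).map ι ≫ c)) (pullback.snd (f ≫ h).hom c)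
        ((yon S).map ι) := IsPullback.of_right (by rw [sX.lift_fst]; exact sXz) (sX.lift_snd _ _ _) sX
    have skY : IsPullback kY (pullback.snd h.hom ((yon S).map ι ≫ c)) (pullback.snd h.hom c) ((yon S).map ι) :=
      IsPullback.of_right (by rw [sY.lift_fst]; exact sYz) (sY.lift_snd _ _ _) sY
    let aU := skX.lift ((yon S).map iU ≫ a₁) ((yon S).map tU) (by rw [Category.assoc, e₂]; exact qU.w)
    let bV := skY.lift ((yon S).map iV ≫ b₀) ((yon S).map tV) (by rw [Category.assoc, e₃]; exact qV.w)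
    have sa : IsPullback ((yon S).map iU) aU a₁ kX :=
      IsPullback.of_bot (by rw [skX.lift_snd, e₂]; exact qU) (skX.lift_fst _ _ _).symm skX
    have sb : IsPullback ((yon S).map iV) bV b₀ kY :=
      IsPullback.of_bot (by rw [skY.lift_snd, e₃]; exact qV) (skY.lift_fst _ _ _).symm skY
    refine hfl aU bV F (repWith_of_isPullback sa ha₁) (repWith_of_isPullback sb hb₀) ?_
    have hi : F ≫ iV = iU ≫ f' := Over.OverMorphism.ext hfs₁
    have ht : F ≫ tV = tU := Over.OverMorphism.ext hfs₂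
    refine skY.hom_ext ?_ ?_
    · rw [Category.assoc, Category.assoc, skY.lift_fst, ← Functor.map_comp_assoc, hi, Functor.map_comp,
        Category.assoc, ← e₁, ← Category.assoc ((yon S).map iU), show ((yon S).map iU ≫ a₁) = aU ≫ kX from (skX.lift_fst _ _ _).symm,
        Category.assoc]
      congr 1
      refine sY.hom_ext ?_ ?_
      · simp only [Category.assoc, kX, kY, f₁, fz, IsPullback.lift_fst, IsPullback.lift_fst_assoc]
      · simp only [Category.assoc, kX, kY, f₁, fz, IsPullback.lift_snd, IsPullback.lift_snd_assoc]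
    · rw [Category.assoc, Category.assoc, sYz.lift_snd, skX.lift_snd, skY.lift_snd, ← Functor.map_comp, ht]

end Space

end Groth.Agent.AlgSpLoc
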