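import Groth.Agent.AlgSpc.LocP
import Groth.Agent.AlgSpc.FibreProd
import Groth.Prelude.Def_AlgSp3
import Groth.Prelude.Def_AlgSp4
import Mathlib.AlgebraicGeometry.Morphisms.LocalFlatDescent
import Mathlib.AlgebraicGeometry.Morphisms.Etale

/-!
`AlgSp.LocP P` for properties `P` of morphisms of schemes that are etale local on source and target.
-/

set_option autoImplicit false
set_option backward.isDefEq.respectTransparency false

universe u

open CategoryTheory CategoryTheory.Limits AlgebraicGeometry Opposite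

namespace Groth.Agent.AlgSpLoc

open _root_.AlgSp Groth.Agent.AlgSpc

variable {S : Scheme.{u}}

/-- What is used about a property of morphisms of schemes: stable under base change and under precomposition
with etale morphisms, etale local on the target and on the source. -/
structure EtLocal (P : MorphismProperty Scheme.{u}) : Prop where
  bc : P.IsStableUnderBaseChange
  pre : ∀ ⦃X Y Z : Scheme.{u}⦄ (g : X ⟶ Y) (f : Y ⟶ Z), Etale g → P f → P (g ≫ f)
  tgt : ∀ ⦃X Y X' Y' : Scheme.{u}⦄ ⦃fst : X' ⟶ X⦄ ⦃snd : X' ⟶ Y'⦄ ⦃f : X ⟶ Y⦄ ⦃g : Y' ⟶ Y⦄,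
    IsPullback fst snd f g → Etale g → Surjective g → P snd → P f
  src : ∀ ⦃X Y Z : Scheme.{u}⦄ (g : X ⟶ Y) (f : Y ⟶ Z), Etale g → Surjective g → P (g ≫ f) → P f

theorem EtLocal.respectsIso {P : MorphismProperty Scheme.{u}} (hP : EtLocal P) : P.RespectsIso :=
  have := hP.bc
  MorphismProperty.IsStableUnderBaseChange.respectsIso

/-- Pullback squares of representable sheaves as pullback squares of schemes. -/
theorem isPullback_left {A B C D : Over S} {a : A ⟶ B} {b : A ⟶ C} {c : B ⟶ D} {d : C ⟶ D}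
    (h : IsPullback ((yon S).map a) ((yon S).map b) ((yon S).map c) ((yon S).map d)) :
    IsPullback a.left b.left c.left d.left :=
  (IsPullback.of_map (yon S) ((yon S).map_injective (by simpa using h.w)) h).map (Over.forget S)

theorem etale_of_sq {F G : Sp S} {f : F ⟶ G} (hf : RepWith @Etale f) {T V : Over S}
    {g : (yon S).obj T ⟶ G} {fst : (yon S).obj V ⟶ F} {snd : V ⟶ T}
    (sq : IsPullback fst ((yon S).map snd) f g) : Etale snd.left := hf.2 g fst snd sq

/-- `P (g)` follows from `P (g ≫ e)` for `e` representable etale from a scheme. -/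
theorem prop_left_of_comp {P : MorphismProperty Scheme.{u}} (hP : EtLocal P) {A B : Over S} {C : Sp S}
    (g : A ⟶ B) {e : (yon S).obj B ⟶ C} (he : RepWith @Etale e)
    (h : RepWith P ((yon S).map g ≫ e)) : P g.left := by
  obtain ⟨W, fst, snd, sq⟩ := exists_sq h.1 e
  have hsnd : P snd.left := h.2 e fst snd sq
  obtain ⟨p, rfl⟩ := (yon S).map_surjective fst
  have hp : Etale p.left := etale_of_sq he sq.flip
  have w : 𝟙 ((yon S).obj A) ≫ ((yon S).map g ≫ e) = (yon S).map g ≫ e := Category.id_comp _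
  let σ := pre (sq.lift _ _ w)
  have h1 : σ ≫ p = 𝟙 A := (yon S).map_injective (by simp [σ])
  have h2 : σ ≫ snd = g := (yon S).map_injective (by simp [σ])
  have e1 : σ.left ≫ p.left = 𝟙 _ := congrArg CommaMorphism.left h1
  have : Etale (σ.left ≫ p.left) := e1 ▸ inferInstance
  have hσ : Etale σ.left := Etale.of_comp σ.left p.left
  rw [← h2]
  exact hP.pre σ.left snd.left hσ hsnd

/-- Morphisms with `LocP P`, precomposed with an etale chart, are representable with `P`. -/
theorem repWith_chart_comp {P : MorphismProperty Scheme.{u}} (hP : EtLocal P) {X Y : Sp S} (hY : IsAlgSpace Y)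
    {f : X ⟶ Y} (hf : LocP P f) {U : Over S} {φ : (yon S).obj U ⟶ X} (hφ : RepWith @Etale φ) :
    RepWith P (φ ≫ f) := by
  have := hP.respectsIso
  refine repWith_mk fun T g => ?_
  obtain ⟨V, fst, snd, sq⟩ := exists_sq (hY.representable_from_yon (φ ≫ f)) g
  refine ⟨V, fst, snd, sq, ?_⟩
  obtain ⟨Y0, c, hc, hcs⟩ := hY.atlas
  obtain ⟨T', q, p, sqT⟩ := exists_sq hc.1 g
  obtain ⟨q, rfl⟩ := (yon S).map_surjective q
  obtain ⟨U0, e, r, sqU⟩ := exists_sq (hY.representable_from_yon (φ ≫ f)) c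
  obtain ⟨e, rfl⟩ := (yon S).map_surjective e
  have hee : RepWith @Etale ((yon S).map e) := repWith_of_isPullback sqU.flip hc
  have hr : P r.left := by
    refine hf (((yon S).map e) ≫ φ) c r (repWith_comp hee hφ) hc ?_
    rw [Category.assoc, sqU.w]
  obtain ⟨W, k, l, sqW⟩ := exists_sq (hY.representable_from_yon (φ ≫ f)) ((yon S).map p ≫ g)
  -- `W` over the chart `U0`
  have w1 : k ≫ (φ ≫ f) = ((yon S).map l ≫ (yon S).map q) ≫ c := by
    rw [sqW.w, ← sqT.w, Category.assoc]
  let m := sqU.lift _ _ w1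
  have sA : IsPullback (m ≫ (yon S).map e) ((yon S).map l) (φ ≫ f) ((yon S).map q ≫ c) := by
    rw [sqT.w]; simpa [m] using sqW
  have sB := IsPullback.of_right sA (sqU.lift_snd _ _ w1) sqU
  rw [← map_pre m] at sB
  have hl : P l.left := MorphismProperty.of_isPullback (P := P) (self := hP.bc) (isPullback_left sB) hr
  -- `W` over `V`
  have w2 : k ≫ (φ ≫ f) = ((yon S).map l ≫ (yon S).map p) ≫ g := by rw [sqW.w, Category.assoc]
  let n := sq.lift _ _ w2
  have sC : IsPullback (n ≫ fst) ((yon S).map l) (φ ≫ f) ((yon S).map p ≫ g) := by simpa [n] using sqW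
  have sD := IsPullback.of_right sC (sq.lift_snd _ _ w2) sq
  rw [← map_pre n] at sD
  exact hP.tgt (isPullback_left sD) (etale_of_sq hc sqT) (hcs.2 _ _ _ sqT) hl

/-- The converse of `repWith_chart_comp`. -/
theorem locP_of_forall_chart {P : MorphismProperty Scheme.{u}} (hP : EtLocal P) {X Y : Sp S}
    {f : X ⟶ Y} (h : ∀ ⦃U : Over S⦄ (φ : (yon S).obj U ⟶ X), RepWith @Etale φ → RepWith P (φ ≫ f)) :
    LocP P f := by
  intro U V a b k ha hb w
  exact prop_left_of_comp hP k hb (w ▸ h a ha)

theorem locP_iff_forall_chart {P : MorphismProperty Scheme.{u}} (hP : EtLocal P) {X Y : Sp S}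
    (hY : IsAlgSpace Y) {f : X ⟶ Y} :
    LocP P f ↔ ∀ ⦃U : Over S⦄ (φ : (yon S).obj U ⟶ X), RepWith @Etale φ → RepWith P (φ ≫ f) :=
  ⟨fun hf _ _ hφ => repWith_chart_comp hP hY hf hφ, locP_of_forall_chart hP⟩

theorem EtLocal.of_etLoc (P : MorphismProperty Scheme.{u}) [EtLoc P] [P.IsStableUnderBaseChange]
    [P.DescendsAlong (@Surjective ⊓ @Flat ⊓ @LocallyOfFinitePresentation : MorphismProperty Scheme.{u})] :
    EtLocal P where
  bc := inferInstance
  pre _ _ _ g f hg hf := EtLoc.precomp g f hg hf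
  tgt := fun _ _ _ _ _ _ _ g h hg hgs hsnd =>
    MorphismProperty.of_isPullback_of_descendsAlong
      (Q := @Surjective ⊓ @Flat ⊓ @LocallyOfFinitePresentation) h.flip ⟨⟨hgs, inferInstance⟩, inferInstance⟩ hsnd
  src _ _ _ g f hg hgs hf := EtLoc.descend g f hg hgs hf

end Groth.Agent.AlgSpLoc
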