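import Groth.Agent.AlgSpLoc.EtaleLift
import Mathlib.RingTheory.Etale.Kaehler
import Mathlib.RingTheory.RingHom.Etale
import Mathlib.RingTheory.TensorProduct.Quotient

/-!
`H1Cotangent` commutes with etale extensions.
-/

universe u

open TensorProduct

namespace Groth.Agent.AlgSpLoc

/-- `Q ⊗ ker P → ker Q` is bijective if the latter kernel is extended and `Q` is flat. -/
theorem bijective_liftBaseChange_mapKer {R S T : Type u} [CommRing R] [CommRing S] [CommRing T]
    [Algebra R S] [Algebra R T] [Algebra S T] {P : Algebra.Extension R S} {Q : Algebra.Extension R T}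
    [Algebra P.Ring Q.Ring] [Module.Flat P.Ring Q.Ring] (f : P.Hom Q)
    (halg : algebraMap P.Ring Q.Ring = f.toRingHom)
    (hker : Q.ker = P.ker.map (algebraMap P.Ring Q.Ring)) :
    Function.Bijective ((f.mapKer halg).liftBaseChange Q.Ring) := by
  constructor
  · have h : Subtype.val ∘ ((f.mapKer halg).liftBaseChange Q.Ring) =
        TensorProduct.rid P.Ring Q.Ring ∘ LinearMap.lTensor Q.Ring P.ker.subtype := by
      funext z
      induction z with
      | zero => simp
      | add x y hx hy => simp only [Function.comp_apply] at hx hy ⊢; simp [hx, hy]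
      | tmul a b =>
        simp [Algebra.smul_def, mul_comm a, halg]
    refine Function.Injective.of_comp (f := Subtype.val) ?_
    rw [h]
    exact (TensorProduct.rid P.Ring Q.Ring).injective.comp
      (Module.Flat.lTensor_preserves_injective_linearMap _ Subtype.val_injective)
  · rw [← LinearMap.range_eq_top, eq_top_iff]
    rintro ⟨x, hx⟩ -
    rw [LinearMap.range_liftBaseChange]
    have hx' : x ∈ P.ker.map (algebraMap P.Ring Q.Ring) := hker ▸ hx
    obtain ⟨c, hc⟩ : ∃ c : P.ker →₀ Q.Ring, (c.sum fun i a => a * f.toRingHom i.1) = x := by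
      have hrw : algebraMap P.Ring Q.Ring '' P.ker = Set.range fun i : P.ker => f.toRingHom i.1 := by
        ext z; simp [halg]
      rw [Ideal.map, hrw] at hx'
      exact Finsupp.mem_span_range_iff_exists_finsupp.1 hx'
    have : (⟨x, hx⟩ : Q.ker) = ∑ i ∈ c.support, c i • f.mapKer halg i := by
      apply Subtype.ext
      simp only [Submodule.coe_sum, SetLike.val_smul, smul_eq_mul]
      exact hc.symm
    rw [this]
    exact Submodule.sum_mem _ fun i _ => Submodule.smul_mem _ _ (Submodule.subset_span ⟨i, rfl⟩)

/-- `H¹` of the cotangent complex commutes with étale extensions. -/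
theorem nonempty_tensor_h1Cotangent_equiv (R S T : Type u) [CommRing R] [CommRing S] [CommRing T]
    [Algebra R S] [Algebra R T] [Algebra S T] [IsScalarTower R S T] [Algebra.Etale S T] :
    Nonempty (T ⊗[S] Algebra.H1Cotangent R S ≃ₗ[T] Algebra.H1Cotangent R T) := by
  let P := (Algebra.Generators.self R S).toExtension
  let I : Ideal P.Ring := RingHom.ker (algebraMap P.Ring S)
  let eq : P.Ring ⧸ I ≃+* S := RingHom.quotientKerEquivOfSurjective P.algebraMap_surjective
  let g : P.Ring ⧸ I →+* T := (algebraMap S T).comp eq.toRingHom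
  let _ : Algebra (P.Ring ⧸ I) T := g.toAlgebra
  have : Algebra.Etale (P.Ring ⧸ I) T := RingHom.etale_algebraMap.1
    (RingHom.Etale.respectsIso.2 (algebraMap S T) eq (RingHom.etale_algebraMap.2 inferInstance))
  obtain ⟨E, iE, iA, hE, ⟨e⟩⟩ := exists_etale_lift P.Ring I T
  let e' := (Algebra.TensorProduct.quotIdealMapEquivQuotTensor E I).trans e
  let J : Ideal E := I.map (algebraMap P.Ring E)
  let _ : Algebra R E := ((algebraMap P.Ring E).comp (algebraMap R P.Ring)).toAlgebra
  have : IsScalarTower R P.Ring E := IsScalarTower.of_algebraMap_eq fun _ => rfl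
  have hcomp : ∀ x : P.Ring, e' (Ideal.Quotient.mk J (algebraMap P.Ring E x)) =
      algebraMap S T (algebraMap P.Ring S x) := fun x => e'.commutes (Ideal.Quotient.mk I x)
  let π : E →ₐ[R] T :=
    { toRingHom := e'.toRingHom.comp (Ideal.Quotient.mk J)
      commutes' := fun r => (hcomp (algebraMap R P.Ring r)).trans (by
        rw [← IsScalarTower.algebraMap_apply R P.Ring S, ← IsScalarTower.algebraMap_apply R S T]) }
  have hπ : Function.Surjective π := e'.surjective.comp Ideal.Quotient.mk_surjective
  let Q : Algebra.Extension R T := Algebra.Extension.ofSurjective π hπ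
  let f : P.Hom Q :=
    { toRingHom := algebraMap P.Ring E
      toRingHom_algebraMap := fun r => (IsScalarTower.algebraMap_apply R P.Ring E r).symm
      algebraMap_toRingHom := hcomp }
  let _ : Algebra P.Ring Q.Ring := iA
  have hker : Q.ker = J := by
    ext x
    change e' (Ideal.Quotient.mk J x) = 0 ↔ _
    rw [map_eq_zero_iff e' e'.injective, Ideal.Quotient.eq_zero_iff_mem]
    exact Iff.rfl
  have : Module.Flat P.Ring Q.Ring := (inferInstance : Module.Flat P.Ring E)
  have H₂ : Function.Bijective ((f.mapKer rfl).liftBaseChange Q.Ring) :=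
    bijective_liftBaseChange_mapKer f rfl hker
  have : Module.Flat S T := inferInstance
  have hfe : f.toRingHom.FormallyEtale :=
    RingHom.formallyEtale_algebraMap.2 (inferInstance : Algebra.FormallyEtale P.Ring E)
  have : Algebra.FormallySmooth R P.Ring :=
    inferInstanceAs (Algebra.FormallySmooth R (MvPolynomial S R))
  have : Algebra.FormallySmooth R Q.Ring := Algebra.FormallySmooth.comp R P.Ring E
  exact ⟨(Algebra.Extension.tensorH1CotangentOfFormallyEtale f rfl hfe H₂).trans
    (Algebra.Extension.equivH1CotangentOfFormallySmooth Q)⟩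

end Groth.Agent.AlgSpLoc
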