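import Groth.Agent.AlgSpc.EtLocInst
import Groth.Agent.AlgSpLoc.EtaleCotangent
import Mathlib.AlgebraicGeometry.Morphisms.Etale
import Mathlib.AlgebraicGeometry.Morphisms.Smooth
import Mathlib.RingTheory.Etale.QuasiFinite
import Mathlib.RingTheory.Unramified.LocalStructure
import Mathlib.AlgebraicGeometry.Morphisms.QuasiFinite
import Mathlib.RingTheory.Etale.Descent
import Mathlib.RingTheory.Flat.EquationalCriterion

/-!
`EtLoc` instances for smooth and locally quasi-finite morphisms.
-/

universe u

open CategoryTheory CategoryTheory.Limits AlgebraicGeometry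
open TensorProduct

set_option backward.isDefEq.respectTransparency false

namespace Groth.Agent.AlgSpLoc

open Groth.Agent.AlgSpc

/-- Smoothness descends along etale faithfully flat maps of the source. -/
theorem smooth_of_etale_faithfullyFlat (A B C : Type u) [CommRing A] [CommRing B] [CommRing C]
    [Algebra A B] [Algebra A C] [Algebra B C] [IsScalarTower A B C] [Algebra.Etale B C]
    [Module.FaithfullyFlat B C] [Algebra.Smooth A C] : Algebra.Smooth A B := by
  have hFP : Algebra.FinitePresentation A B := finitePresentation_of_etale_faithfullyFlat A B C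
  refine ⟨?_, hFP⟩
  rw [Algebra.formallySmooth_iff]
  constructor
  · have : Module.Flat C (C ⊗[B] Ω[B⁄A]) :=
      .of_linearEquiv (KaehlerDifferential.tensorKaehlerEquivOfFormallyEtale A B C)
    have : Module.Flat B Ω[B⁄A] := Module.Flat.of_flat_tensorProduct _ _ C
    exact Module.Flat.projective_of_finitePresentation
  · have : Subsingleton (C ⊗[B] Algebra.H1Cotangent A B) :=
      (nonempty_tensor_h1Cotangent_equiv A B C).some.subsingleton
    exact Module.FaithfullyFlat.lTensor_reflects_triviality B C _

instance isMultiplicative_smooth :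
    MorphismProperty.IsMultiplicative (@Smooth : MorphismProperty Scheme.{u}) where
  id_mem _ := inferInstance

instance etLoc_smooth : EtLoc (@Smooth : MorphismProperty Scheme.{u}) :=
  .mk' (fun e he => by infer_instance) <| descend_of_ring fun A B C _ _ _ φ ψ hψ hff h => by
    algebraize [φ, ψ, ψ.comp φ]
    exact smooth_of_etale_faithfullyFlat A B C

theorem locallyQuasiFinite_of_etale {X Y : Scheme.{u}} (e : X ⟶ Y) [Etale e] : LocallyQuasiFinite e := by
  refine HasRingHomProperty.iff_appLE.2 fun U V h => ?_
  have := HasRingHomProperty.appLE (P := @Etale) e ‹_› U V h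
  algebraize [(e.appLE U.1 V.1 h).hom]
  change Algebra.QuasiFinite _ _
  infer_instance

theorem isDiscrete_of_preimage {X Y : Type*} [TopologicalSpace X] [TopologicalSpace Y] {e : X → Y}
    (he : IsOpenMap e) (hs : Function.Surjective e) {T : Set Y} (h : IsDiscrete (e ⁻¹' T)) :
    IsDiscrete T := by
  rw [isDiscrete_iff_discreteTopology] at h ⊢
  rw [discreteTopology_iff_forall_isOpen]
  intro V
  have hopen : IsOpenMap (T.restrictPreimage e) := he.restrictPreimage T
  have hsurj : Function.Surjective (T.restrictPreimage e) := fun ⟨y, hy⟩ => by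
    obtain ⟨x, rfl⟩ := hs y; exact ⟨⟨x, hy⟩, rfl⟩
  rw [← Set.image_preimage_eq V hsurj]
  exact hopen _ (isOpen_discrete _)

instance etLoc_lqf : EtLoc (@LocallyQuasiFinite ⊓ @LocallyOfFiniteType : MorphismProperty Scheme.{u}) :=
  .mk' (fun e he => ⟨locallyQuasiFinite_of_etale e, inferInstance⟩) fun e f he hs h => by
    have h₁ : LocallyOfFiniteType f := EtLoc.descend e f he hs h.2
    have : LocallyQuasiFinite (e ≫ f) := h.1
    refine ⟨locallyQuasiFinite_iff_isDiscrete_preimage_singleton.2 fun y => ?_, h₁⟩
    refine isDiscrete_of_preimage e.isOpenMap hs.surj ?_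
    exact (e ≫ f).isDiscrete_preimage_singleton y

end Groth.Agent.AlgSpLoc
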