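import Groth.Agent.AlgSpLoc.Base
import Groth.Agent.AlgSpc.EtLocInst
import Groth.Agent.FpqcDescent.Topological

set_option autoImplicit false
set_option backward.isDefEq.respectTransparency false

universe u

open CategoryTheory CategoryTheory.Limits AlgebraicGeometry Opposite

namespace Groth.Agent.AlgSpLoc

open _root_.AlgSp Groth.Agent.AlgSpc

instance descendsAlong_flat_fpqc :
    MorphismProperty.DescendsAlong (@Flat : MorphismProperty Scheme.{u})
      (@Surjective ⊓ @Flat ⊓ @QuasiCompact : MorphismProperty Scheme.{u}) := by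
  refine ⟨fun {A X Y Z fst snd f g} sq hf hfst => ?_⟩
  have hf₁ : Flat f := hf.1.2
  have hf₂ : Surjective f := hf.1.1
  have h1 : Flat snd := MorphismProperty.of_isPullback sq hf₁
  have h2 : Surjective snd := MorphismProperty.of_isPullback sq hf₂
  have h3 : Flat fst := hfst
  have h4 : Flat (snd ≫ g) := sq.w ▸ inferInstanceAs (Flat (fst ≫ f))
  exact FpqcDescent.flat_of_flat_comp snd g

instance descendsAlong_inf_unramified :
    MorphismProperty.DescendsAlong (@LocallyOfFiniteType ⊓ @FormallyUnramified : MorphismProperty Scheme.{u})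
      (@Surjective ⊓ @Flat ⊓ @QuasiCompact : MorphismProperty Scheme.{u}) :=
  ⟨fun {A X Y Z fst snd f g} sq hf h => ⟨MorphismProperty.of_isPullback_of_descendsAlong sq hf h.1,
    MorphismProperty.of_isPullback_of_descendsAlong sq hf h.2⟩⟩

variable {S : Scheme.{u}}

theorem isLocalOnBase_flat : IsLocalOnBase (IsFpqcCover (S := S)) (LocP @Flat) := isLocalOnBase_locP

theorem isLocalOnBase_lft : IsLocalOnBase (IsFpqcCover (S := S)) (LocP @LocallyOfFiniteType) :=
  isLocalOnBase_locP

theorem isLocalOnBase_lfp : IsLocalOnBase (IsFpqcCover (S := S)) (LocP @LocallyOfFinitePresentation) :=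
  isLocalOnBase_locP

theorem isLocalOnBase_unramified :
    IsLocalOnBase (IsFpqcCover (S := S)) (LocP (@LocallyOfFiniteType ⊓ @FormallyUnramified)) :=
  isLocalOnBase_locP

theorem isLocalOnBase_etale : IsLocalOnBase (IsFpqcCover (S := S)) (IsEtaleMor (S := S)) := by
  intro ι Y Yi g hY hYi hcov X f hX Xi p q hXi hsq
  rw [isEtaleMor_iff_locP hX hY]
  simp only [fun i => isEtaleMor_iff_locP (f := p i) (hXi i) (hYi i)]
  exact isLocalOnBase_locP Yi g hY hYi hcov f hX Xi p q hXi hsq

end Groth.Agent.AlgSpLoc
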