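import Groth.Agent.S10580
import Groth.Agent.AlgSpLoc.EtLocMore
import Groth.Agent.AlgSpc.EtLocInst
import Groth.Agent.FpqcDescent.Flat

/-!
Instances of locality on the source for schemes, and their consequences for algebraic spaces.
-/

set_option autoImplicit false
set_option backward.isDefEq.respectTransparency false

universe u

open CategoryTheory CategoryTheory.Limits AlgebraicGeometry

namespace Groth.Agent.AlgSpLoc

open _root_.AlgSp Groth.Agent.AlgSpc

/-- Zariski locality and descent along surjective `W`-morphisms give locality for `W`-coverings. -/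
theorem isLocalAtSource_of_descend {P W : MorphismProperty Scheme.{u}} [IsZariskiLocalAtSource P]
    [IsZariskiLocalAtSource W]
    (hpre : ∀ {A B C : Scheme.{u}} (e : A ⟶ B) (f : B ⟶ C), W e → P f → P (e ≫ f))
    (hd : ∀ {A B C : Scheme.{u}} (e : A ⟶ B) (f : B ⟶ C), W e → Surjective e → P (e ≫ f) → P f)
    {K : Precoverage Scheme.{u}} (hK : K ≤ Scheme.precoverage W) : P.IsLocalAtSource K := by
  refine .mk_of_iff fun {X Y} f R hR => ?_
  have hR' := hK X hR
  rw [Precoverage.mem_iff_exists_zeroHypercover] at hR'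
  obtain ⟨𝒰, rfl⟩ := hR'
  obtain ⟨h1, h2⟩ := (Scheme.ofArrows_mem_precoverage_iff _).mp 𝒰.mem₀
  refine ⟨fun hf U g hg => ?_, fun h => ?_⟩
  · cases hg with | mk i => exact hpre _ _ (h2 i) hf
  · choose i hi using h1
    let g : X → Scheme.{u} := fun x ↦ 𝒰.X (i x)
    let p : (∐ g) ⟶ X := Sigma.desc fun x ↦ 𝒰.f (i x)
    have hp : W p := IsZariskiLocalAtSource.of_openCover (P := W) (sigmaOpenCover g) fun x ↦ by
      change W (Sigma.ι g x ≫ p)
      rw [Sigma.ι_desc]
      exact h2 (i x)
    have hs : Surjective p := ⟨fun x ↦ by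
      obtain ⟨y, hy⟩ := hi x
      refine ⟨Sigma.ι g x y, ?_⟩
      rw [← Scheme.Hom.comp_apply, Sigma.ι_desc]
      exact hy⟩
    refine hd p f hp hs (IsZariskiLocalAtSource.of_openCover (P := P) (sigmaOpenCover g) fun x ↦ ?_)
    change P (Sigma.ι g x ≫ p ≫ f)
    rw [Sigma.ι_desc_assoc]
    exact h ⟨i x⟩

instance isLocalAtSource_flat_fpqc :
    MorphismProperty.IsLocalAtSource (@Flat : MorphismProperty Scheme.{u}) Scheme.fpqcPrecoverage :=
  isLocalAtSource_of_descend (W := @Flat) (fun e f he hf => by have : Flat e := he; have : Flat f := hf; infer_instance)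
    (fun e f he hs h => by
      have : Flat e := he
      have : Flat (e ≫ f) := h
      exact FpqcDescent.flat_of_flat_comp e f) (fun _ _ h => h.2)

theorem isLocalAtSource_etale_of_etLoc {P : MorphismProperty Scheme.{u}} [IsZariskiLocalAtSource P] [EtLoc P] :
    MorphismProperty.IsLocalAtSource P Scheme.etalePrecoverage :=
  isLocalAtSource_of_descend (W := @Etale) (fun e f he hf => EtLoc.precomp e f he hf)
    (fun e f he hs h => EtLoc.descend e f he hs h) le_rfl

variable {S : Scheme.{u}}

theorem isLocalOnSource_flat : IsLocalOnSource (IsFpqcCover (S := S)) (LocP @Flat) :=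
  (Groth.Agent.S10580.result S @Flat).1 inferInstance

theorem isLocalOnSource_etale_of_etLoc {P : MorphismProperty Scheme.{u}} [IsZariskiLocalAtSource P]
    [EtLoc P] : IsLocalOnSource (IsEtCover (S := S)) (LocP P) :=
  (Groth.Agent.S10580.result S P).2.2.2 isLocalAtSource_etale_of_etLoc

theorem isLocalOnSource_etale_unramified :
    IsLocalOnSource (IsEtCover (S := S)) (LocP (@LocallyOfFiniteType ⊓ @FormallyUnramified)) :=
  isLocalOnSource_etale_of_etLoc

theorem isLocalOnSource_etale_lqf :
    IsLocalOnSource (IsEtCover (S := S)) (LocP (@LocallyQuasiFinite ⊓ @LocallyOfFiniteType)) :=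
  isLocalOnSource_etale_of_etLoc

theorem isLocalOnSource_etale_etale : IsLocalOnSource (IsEtCover (S := S)) (IsEtaleMor (S := S)) := by
  intro ι X Xi g hX hXi hcov Y f hY
  rw [isEtaleMor_iff_locP hX hY]
  simp only [fun i => isEtaleMor_iff_locP (f := g i ≫ f) (hXi i) hY]
  exact isLocalOnSource_etale_of_etLoc (P := @Etale) Xi g hX hXi hcov f hY

end Groth.Agent.AlgSpLoc
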