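import Groth.Agent.AlgSpLoc.SourceInst
import Groth.Agent.GenFlat.FppfSource

/-!
LFT and LFP are fppf local on the source for algebraic spaces.
-/

set_option autoImplicit false

universe u

open CategoryTheory AlgebraicGeometry

namespace Groth.Agent.AlgSpLoc

open _root_.AlgSp

variable {S : Scheme.{u}}

theorem isLocalOnSource_lft : IsLocalOnSource (IsFppfCover (S := S)) (LocP @LocallyOfFiniteType) :=
  (Groth.Agent.S10580.result S @LocallyOfFiniteType).2.1 GenFlat.isLocalAtSource_lft_fppf

theorem isLocalOnSource_lfp :
    IsLocalOnSource (IsFppfCover (S := S)) (LocP @LocallyOfFinitePresentation) :=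
  (Groth.Agent.S10580.result S @LocallyOfFinitePresentation).2.1 GenFlat.isLocalAtSource_lfp_fppf

end Groth.Agent.AlgSpLoc
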