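import Mathlib.Algebra.Category.Ring.Constructions
import Mathlib.RingTheory.Flat.Equalizer
import Mathlib.RingTheory.RingHom.Flat
import Mathlib.AlgebraicGeometry.Morphisms.Affine
import Mathlib.AlgebraicGeometry.Morphisms.Flat

/-!
Coequalizers of pairs of maps of affine schemes, stable under flat base change.
-/

set_option autoImplicit false

universe u

open CategoryTheory CategoryTheory.Limits TensorProduct

namespace Groth.Agent.AlgSpLoc

/-- The equalizer of two maps of algebras stays an equalizer after a flat base change. -/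
theorem exists_stable_equalizer {R C D : CommRingCat.{u}} (sC : R ⟶ C) (φ ψ : C ⟶ D) (h : sC ≫ φ = sC ≫ ψ) :
    ∃ (A : CommRingCat.{u}) (sA : R ⟶ A) (ι : A ⟶ C), sA ≫ ι = sC ∧ ι ≫ φ = ι ≫ ψ ∧
      ∀ {R' A' C' D' : CommRingCat.{u}} (c : R ⟶ R'), c.hom.Flat →
      ∀ (iA : R' ⟶ A') (jA : A ⟶ A'), IsPushout c sA iA jA →
      ∀ (iC : R' ⟶ C') (jC : C ⟶ C'), IsPushout c sC iC jC →
      ∀ (iD : R' ⟶ D') (jD : D ⟶ D'), IsPushout c (sC ≫ φ) iD jD →
      ∀ (ι' : A' ⟶ C') (φ' ψ' : C' ⟶ D'), iA ≫ ι' = iC → jA ≫ ι' = ι ≫ jC →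
        iC ≫ φ' = iD → jC ≫ φ' = φ ≫ jD → iC ≫ ψ' = iD → jC ≫ ψ' = ψ ≫ jD →
        ∀ {Q : CommRingCat.{u}} (k : Q ⟶ C'), k ≫ φ' = k ≫ ψ' → ∃! l : Q ⟶ A', l ≫ ι' = k := by
  let _ : Algebra R C := sC.hom.toAlgebra
  let _ : Algebra R D := (sC ≫ φ).hom.toAlgebra
  let f : C →ₐ[R] D := { φ.hom with commutes' := fun _ => rfl }
  let g : C →ₐ[R] D :=
    { ψ.hom with commutes' := fun r => (congr($(h).hom r) : (sC ≫ φ).hom r = _).symm }
  let E := AlgHom.equalizer f g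
  refine ⟨CommRingCat.of E, CommRingCat.ofHom (algebraMap R E), CommRingCat.ofHom E.val.toRingHom,
    ?_, ?_, ?_⟩
  · ext r; rfl
  · ext x; exact x.2
  intro R' A' C' D' c hc iA jA hA iC jC hC iD jD hD ι' φ' ψ' h1 h2 h3 h4 h5 h6 Q k hk
  let _ : Algebra R R' := c.hom.toAlgebra
  have : Module.Flat R R' := hc
  let eA := IsPushout.isoIsPushout _ _ (CommRingCat.isPushout_tensorProduct R R' E) hA
  let eC := IsPushout.isoIsPushout _ _ (CommRingCat.isPushout_tensorProduct R R' C) hC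
  let eD := IsPushout.isoIsPushout _ _ (CommRingCat.isPushout_tensorProduct R R' D) hD
  let mι := CommRingCat.ofHom (Algebra.TensorProduct.map (AlgHom.id R R') E.val).toRingHom
  let mφ := CommRingCat.ofHom (Algebra.TensorProduct.map (AlgHom.id R R') f).toRingHom
  let mψ := CommRingCat.ofHom (Algebra.TensorProduct.map (AlgHom.id R R') g).toRingHom
  have e1 : eA.hom ≫ ι' = mι ≫ eC.hom := by
    apply (CommRingCat.isPushout_tensorProduct R R' E).hom_ext
    · simp only [eA, IsPushout.inl_isoIsPushout_hom_assoc, h1]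
      trans CommRingCat.ofHom Algebra.TensorProduct.includeLeftRingHom ≫ eC.hom
      · exact (IsPushout.inl_isoIsPushout_hom _ _ _ hC).symm
      · rw [← Category.assoc]; congr 1
    · simp only [eA, IsPushout.inr_isoIsPushout_hom_assoc, h2]
      trans CommRingCat.ofHom E.val.toRingHom ≫
        CommRingCat.ofHom Algebra.TensorProduct.includeRight.toRingHom ≫ eC.hom
      · simp [eC]
      · rw [← Category.assoc, ← Category.assoc]; congr 1
  have key : ∀ (θ : C →ₐ[R] D) (θ' : C' ⟶ D'), iC ≫ θ' = iD →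
      jC ≫ θ' = CommRingCat.ofHom θ.toRingHom ≫ jD →
      eC.hom ≫ θ' = CommRingCat.ofHom (Algebra.TensorProduct.map (AlgHom.id R R') θ).toRingHom ≫ eD.hom := by
    intro θ θ' u1 u2
    apply (CommRingCat.isPushout_tensorProduct R R' C).hom_ext
    · simp only [eC, IsPushout.inl_isoIsPushout_hom_assoc, u1]
      trans CommRingCat.ofHom Algebra.TensorProduct.includeLeftRingHom ≫ eD.hom
      · exact (IsPushout.inl_isoIsPushout_hom _ _ _ hD).symm
      · rw [← Category.assoc]; congr 1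
        ext x; simp
    · simp only [eC, IsPushout.inr_isoIsPushout_hom_assoc, u2]
      trans CommRingCat.ofHom θ.toRingHom ≫
        CommRingCat.ofHom Algebra.TensorProduct.includeRight.toRingHom ≫ eD.hom
      · simp [eD]
      · rw [← Category.assoc, ← Category.assoc]; congr 1
  have e2 : eC.hom ≫ φ' = mφ ≫ eD.hom := key f φ' h3 h4
  have e3 : eC.hom ≫ ψ' = mψ ≫ eD.hom := key g ψ' h5 h6
  let kT := k ≫ eC.inv
  have hkT : kT ≫ mφ = kT ≫ mψ := by
    simp only [← cancel_mono eD.hom, Category.assoc, ← e2, ← e3]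
    simpa [kT] using hk
  have hmem : ∀ q, kT.hom q ∈ AlgHom.equalizer (Algebra.TensorProduct.map (AlgHom.id R R') f)
      (Algebra.TensorProduct.map (AlgHom.id R R') g) := fun q => congr($(hkT).hom q)
  have hinj : Function.Injective (Algebra.TensorProduct.map (AlgHom.id R R') E.val) :=
    Module.Flat.lTensor_preserves_injective_linearMap E.val.toLinearMap Subtype.val_injective
  let l₀ : Q ⟶ CommRingCat.of (R' ⊗[R] E) := CommRingCat.ofHom
    ((AlgHom.tensorEqualizerEquiv R R' f g).symm.toRingHom.comp (RingHom.codRestrict kT.hom _ hmem))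
  have hl₀ : l₀ ≫ mι = kT := by
    ext q
    have hq := AlgHom.coe_tensorEqualizer R R' f g
      ((AlgHom.tensorEqualizerEquiv R R' f g).symm ⟨kT.hom q, hmem q⟩)
    rw [← AlgHom.tensorEqualizerEquiv_apply, AlgEquiv.apply_symm_apply] at hq
    exact hq.symm
  have hmono : ∀ {Q : CommRingCat.{u}} (a b : Q ⟶ CommRingCat.of (R' ⊗[R] E)), a ≫ mι = b ≫ mι → a = b := by
    intro Q a b w
    ext q
    exact hinj congr($(w).hom q)
  refine ⟨l₀ ≫ eA.hom, ?_, fun l hl => ?_⟩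
  · simp only [Category.assoc, e1, reassoc_of% hl₀]
    simp [kT]
  · rw [← Iso.comp_inv_eq]
    apply hmono
    rw [hl₀, ← cancel_mono eC.hom, Category.assoc, Category.assoc, ← e1]
    simpa [kT] using hl

end Groth.Agent.AlgSpLoc

namespace Groth.Agent.AlgSpLoc

open AlgebraicGeometry

theorem exists_hom_appTop_eq {X Y : Scheme.{u}} [IsAffine Y] (l : Γ(Y, ⊤) ⟶ Γ(X, ⊤)) :
    ∃ f : X ⟶ Y, f.appTop = l := by
  refine ⟨X.toSpecΓ ≫ Spec.map l ≫ Y.isoSpec.inv, ?_⟩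
  have h : ∀ {Z : Scheme.{u}} [IsAffine Z], Z.isoSpec.inv.appTop = (Scheme.ΓSpecIso Γ(Z, ⊤)).inv := by
    intro Z _
    rw [← cancel_mono (Scheme.ΓSpecIso Γ(Z, ⊤)).hom, Iso.inv_hom_id, ← Scheme.toSpecΓ_appTop Z,
      ← Scheme.Hom.comp_appTop]
    change (Z.isoSpec.hom ≫ Z.isoSpec.inv).appTop = _
    rw [Iso.hom_inv_id, Scheme.Hom.id_appTop]
  rw [Scheme.Hom.comp_appTop, Scheme.Hom.comp_appTop, h, Scheme.toSpecΓ_appTop,
    Category.assoc, Scheme.ΓSpecIso_naturality, Iso.inv_hom_id_assoc]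

/-- Coequalizers of pairs of maps of affine schemes exist and are stable under flat affine base change. -/
theorem exists_stable_coequalizer {T U R : Scheme.{u}} [IsAffine T] [IsAffine U] [IsAffine R]
    (u : U ⟶ T) (r₁ r₂ : R ⟶ U) (w : r₁ ≫ u = r₂ ≫ u) :
    ∃ (B : Scheme.{u}) (_ : IsAffine B) (b : B ⟶ T) (π : U ⟶ B), π ≫ b = u ∧ r₁ ≫ π = r₂ ≫ π ∧
      ∀ {T' B' U' R' : Scheme.{u}} [IsAffine T'] (c : T' ⟶ T), Flat c →
      ∀ (iB : B' ⟶ T') (jB : B' ⟶ B), IsPullback iB jB c b →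
      ∀ (iU : U' ⟶ T') (jU : U' ⟶ U), IsPullback iU jU c u →
      ∀ (iR : R' ⟶ T') (jR : R' ⟶ R), IsPullback iR jR c (r₁ ≫ u) →
      ∀ (π' : U' ⟶ B') (r₁' r₂' : R' ⟶ U'), π' ≫ iB = iU → π' ≫ jB = jU ≫ π →
        r₁' ≫ iU = iR → r₁' ≫ jU = jR ≫ r₁ → r₂' ≫ iU = iR → r₂' ≫ jU = jR ≫ r₂ →
        ∀ {Q : Scheme.{u}} [IsAffine Q] (h : U' ⟶ Q), r₁' ≫ h = r₂' ≫ h → ∃! k : B' ⟶ Q, π' ≫ k = h := by
  obtain ⟨A, sA, ι, hι, hιeq, hA⟩ := exists_stable_equalizer u.appTop r₁.appTop r₂.appTop (by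
    rw [← Scheme.Hom.comp_appTop, w, Scheme.Hom.comp_appTop])
  obtain ⟨π₀, hπ₀⟩ := exists_hom_appTop_eq (X := U) (Y := Spec A) ((Scheme.ΓSpecIso A).hom ≫ ι)
  obtain ⟨b, hb⟩ := exists_hom_appTop_eq (X := Spec A) (Y := T) (sA ≫ (Scheme.ΓSpecIso A).inv)
  refine ⟨Spec A, inferInstance, b, π₀, ext_of_isAffine ?_, ext_of_isAffine ?_, ?_⟩
  · simp [hπ₀, hb, hι]
  · simp only [Scheme.Hom.comp_appTop, hπ₀, Category.assoc, hιeq]
  intro T' B' U' R' _ c hc iB jB sB iU jU sU iR jR sR π' r₁' r₂' e1 e2 e3 e4 e5 e6 Q _ h hh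
  have : IsAffine B' := .of_isPullback sB
  have : IsAffine U' := .of_isPullback sU
  have : IsAffine R' := .of_isPullback sR
  have hc' : c.appTop.hom.Flat :=
    (HasRingHomProperty.iff_of_isAffine (P := @Flat)).1 hc
  have hA' : IsPushout c.appTop sA iB.appTop ((Scheme.ΓSpecIso A).inv ≫ jB.appTop) := by
    refine (isPushout_appTop_of_isPullback sB).of_iso (Iso.refl _) (Iso.refl _) (Scheme.ΓSpecIso A)
      (Iso.refl _) (by simp) ?_ (by simp) (by simp)
    simp [hb]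
  obtain ⟨l, hl, huniq⟩ := hA c.appTop hc' iB.appTop _ hA' iU.appTop jU.appTop
    (isPushout_appTop_of_isPullback sU) iR.appTop jR.appTop
    (by simpa using isPushout_appTop_of_isPullback sR) π'.appTop r₁'.appTop r₂'.appTop
    (by rw [← Scheme.Hom.comp_appTop, e1])
    (by rw [Category.assoc, ← Scheme.Hom.comp_appTop, e2, Scheme.Hom.comp_appTop, hπ₀,
      Category.assoc, Iso.inv_hom_id_assoc])
    (by rw [← Scheme.Hom.comp_appTop, e3]) (by rw [← Scheme.Hom.comp_appTop, e4, Scheme.Hom.comp_appTop])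
    (by rw [← Scheme.Hom.comp_appTop, e5]) (by rw [← Scheme.Hom.comp_appTop, e6, Scheme.Hom.comp_appTop])
    h.appTop (by rw [← Scheme.Hom.comp_appTop, hh, Scheme.Hom.comp_appTop])
  obtain ⟨k, hk⟩ := exists_hom_appTop_eq (X := B') (Y := Q) l
  refine ⟨k, ext_of_isAffine (by rw [Scheme.Hom.comp_appTop, hk, hl]), fun k' hk' => ext_of_isAffine ?_⟩
  rw [hk]
  exact huniq _ (by simp only; rw [← Scheme.Hom.comp_appTop, hk'])

end Groth.Agent.AlgSpLoc
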