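import Groth.Agent.AlgSpLoc.EtSmDescentSch
import Groth.Agent.AlgSpc.EtLocInst
import Groth.Agent.GrpSch.FlatPoint
import Groth.Agent.S1386
import Groth.Agent.S0386
import Groth.Prelude.Def_AlgSpMor5

/-!
The flat locus of a morphism of algebraic spaces: it may be read on any chart, it is open and, under the
hypotheses of the fibrewise criterion, it commutes with base change.
-/

set_option autoImplicit false
set_option backward.isDefEq.respectTransparency false

universe u

open CategoryTheory CategoryTheory.Limits AlgebraicGeometry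

namespace Groth.Agent.AlgSpLoc

open _root_.AlgSp Groth.Agent.AlgSpc

section Scheme

theorem flat_stalk_comp {A B C : Scheme.{u}} (f : A ⟶ B) (g : B ⟶ C) (a : A)
    (hf : (f.stalkMap a).hom.Flat) (hg : (g.stalkMap (f a)).hom.Flat) : ((f ≫ g).stalkMap a).hom.Flat := by
  rw [Scheme.Hom.stalkMap_comp]
  exact hg.comp hf

theorem flat_stalk_congr {A B : Scheme.{u}} {f g : A ⟶ B} (e : f = g) {a : A} (h : (f.stalkMap a).hom.Flat) :
    (g.stalkMap a).hom.Flat := e ▸ h

/-- Flatness at a point cancels etale morphisms. -/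
theorem flat_cancel_etale {W V' V : Scheme.{u}} (k : W ⟶ V') (e : V' ⟶ V) [Etale e] (w : W)
    (h : ((k ≫ e).stalkMap w).hom.Flat) : (k.stalkMap w).hom.Flat := by
  let Γ : W ⟶ pullback (k ≫ e) e := pullback.lift (𝟙 W) k (Category.id_comp _)
  have hΓ₁ : Γ ≫ pullback.fst (k ≫ e) e = 𝟙 W := pullback.lift_fst _ _ _
  have : Etale (Γ ≫ pullback.fst (k ≫ e) e) := by rw [hΓ₁]; infer_instance
  have : Etale Γ := Etale.of_comp Γ (pullback.fst (k ≫ e) e)
  refine flat_stalk_congr (pullback.lift_snd (𝟙 W) k (Category.id_comp _))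
    (flat_stalk_comp Γ (pullback.snd (k ≫ e) e) w (Flat.stalkMap Γ w) ?_)
  refine GrpSch.flat_stalkMap_of_isPullback (IsPullback.of_hasPullback (k ≫ e) e) _ ?_
  rwa [show pullback.fst (k ≫ e) e (Γ w) = w from congr($(hΓ₁) w)]

/-- Flatness of a relative morphism descends along a base change, fibre by fibre. -/
theorem flat_of_flat_baseChange {X Y Z X' Y' Z' : Scheme.{u}} {f : X ⟶ Y} {h : Y ⟶ Z} {f' : X' ⟶ Y'}
    {h' : Y' ⟶ Z'} {pX : X' ⟶ X} {pY : Y' ⟶ Y} {g : Z' ⟶ Z} [LocallyOfFinitePresentation (f ≫ h)]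
    [LocallyOfFiniteType h] (sY : IsPullback pY h' h g) (sX : IsPullback pX f' f pY) (x : X')
    (hfl : ((f ≫ h).stalkMap (pX x)).hom.Flat) (hx : (f'.stalkMap x).hom.Flat) :
    (f.stalkMap (pX x)).hom.Flat := by
  refine (((S1386.result f h).1 (pX x)).1 ⟨hfl, ?_⟩).2
  have hYg : pY ≫ h = h' ≫ g := sY.w
  have hs : g (h' (f' x)) = h (f (pX x)) := by
    rw [← show pY (f' x) = f (pX x) from (congr($(sX.w) x)).symm]
    exact (congr($(hYg) (f' x))).symm
  let s' := h' (f' x)
  let s := g s'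
  let ρ : Spec (Z'.residueField s') ⟶ Spec (Z.residueField s) := Spec.map (g.residueFieldMap s')
  have : Flat ρ := (HasRingHomProperty.Spec_iff (P := @Flat)).2 (by
    algebraize [(g.residueFieldMap s').hom]
    exact RingHom.flat_algebraMap_iff.2 inferInstance)
  have hρ : ρ ≫ Z.fromSpecResidueField s = Z'.fromSpecResidueField s' ≫ g :=
    g.SpecMap_residueFieldMap_fromSpecResidueField s'
  have sXg : IsPullback pX (f' ≫ h') (f ≫ h) g := sX.paste_vert sY
  let μX : (f' ≫ h').fiber s' ⟶ (f ≫ h).fiber s := pullback.lift ((f' ≫ h').fiberι s' ≫ pX)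
    ((f' ≫ h').fiberToSpecResidueField s' ≫ ρ) (by
      rw [Category.assoc, Category.assoc, hρ, sXg.w, ← Category.assoc _ (f' ≫ h'), (f' ≫ h').fiber_fac s', Category.assoc])
  let μY : h'.fiber s' ⟶ h.fiber s := pullback.lift (h'.fiberι s' ≫ pY)
    (h'.fiberToSpecResidueField s' ≫ ρ) (by
      rw [Category.assoc, Category.assoc, hρ, hYg, ← Category.assoc, ← Category.assoc, h'.fiber_fac s'])
  have qX : IsPullback μX ((f' ≫ h').fiberToSpecResidueField s') ((f ≫ h).fiberToSpecResidueField s) ρ := by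
    refine IsPullback.of_right ?_ (pullback.lift_snd _ _ _) (IsPullback.of_hasPullback (f ≫ h) _)
    rw [pullback.lift_fst, hρ]
    exact (IsPullback.of_hasPullback (f' ≫ h') _).paste_horiz sXg
  have qY : IsPullback μY (h'.fiberToSpecResidueField s') (h.fiberToSpecResidueField s) ρ := by
    refine IsPullback.of_right ?_ (pullback.lift_snd _ _ _) (IsPullback.of_hasPullback h _)
    rw [pullback.lift_fst, hρ]
    exact (IsPullback.of_hasPullback h' _).paste_horiz sY
  have : Flat μX := MorphismProperty.of_isPullback qX.flip ‹_›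
  have : Flat μY := MorphismProperty.of_isPullback qY.flip ‹_›
  have e₁ : MoreMor.fiberMap f' h' s' ≫ h'.fiberι s' = (f' ≫ h').fiberι s' ≫ f' := pullback.lift_fst _ _ _
  have e₂ : MoreMor.fiberMap f' h' s' ≫ h'.fiberToSpecResidueField s' = (f' ≫ h').fiberToSpecResidueField s' :=
    pullback.lift_snd _ _ _
  have e₃ : MoreMor.fiberMap f h s ≫ h.fiberι s = (f ≫ h).fiberι s ≫ f := pullback.lift_fst _ _ _
  have e₄ : MoreMor.fiberMap f h s ≫ h.fiberToSpecResidueField s = (f ≫ h).fiberToSpecResidueField s :=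
    pullback.lift_snd _ _ _
  have comm : μX ≫ MoreMor.fiberMap f h s = MoreMor.fiberMap f' h' s' ≫ μY := by
    refine pullback.hom_ext ?_ ?_
    · change (μX ≫ _) ≫ h.fiberι s = (_ ≫ μY) ≫ h.fiberι s
      rw [Category.assoc, e₃, ← Category.assoc, show μX ≫ (f ≫ h).fiberι s = _ from pullback.lift_fst _ _ _,
        Category.assoc, sX.w, Category.assoc, show μY ≫ h.fiberι s = _ from pullback.lift_fst _ _ _,
        ← Category.assoc _ f', ← e₁, Category.assoc]
    · change (μX ≫ _) ≫ h.fiberToSpecResidueField s = (_ ≫ μY) ≫ h.fiberToSpecResidueField s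
      rw [Category.assoc, e₄, show μX ≫ (f ≫ h).fiberToSpecResidueField s = _ from pullback.lift_snd _ _ _,
        Category.assoc, show μY ≫ h.fiberToSpecResidueField s = _ from pullback.lift_snd _ _ _,
        ← Category.assoc, e₂]
  let z := (f' ≫ h').asFiber x
  have hz : ((MoreMor.fiberMap f' h' s').stalkMap z).hom.Flat :=
    FlatLocus.flat_fiberMap_of_flat f' h' x hx
  have hflat : ((MoreMor.fiberMap f h s).stalkMap (μX z)).hom.Flat :=
    GrpSch.flat_stalkMap_of_comp μX _ z (Flat.stalkMap μX z)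
      (flat_stalk_congr comm.symm (flat_stalk_comp _ μY z hz (Flat.stalkMap μY _)))
  have hμ : (f ≫ h).fiberι s (μX z) = pX x := by
    rw [← Scheme.Hom.comp_apply, show μX ≫ (f ≫ h).fiberι s = _ from pullback.lift_fst _ _ _,
      Scheme.Hom.comp_apply]
    exact congrArg pX ((f' ≫ h').fiberι_asFiber x)
  have key : ∀ (t : Z) (_ : t = h (f (pX x))) (v : (f ≫ h).fiber t), (f ≫ h).fiberι t v = pX x →
      ((MoreMor.fiberMap f h t).stalkMap v).hom.Flat →
      ((MoreMor.fiberMap f h (h (f (pX x)))).stalkMap ((f ≫ h).asFiber (pX x))).hom.Flat := by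
    rintro t rfl v hv hv'
    rwa [show (f ≫ h).asFiber (pX x) = v from
      ((f ≫ h).fiberι _).isEmbedding.injective (((f ≫ h).fiberι_asFiber (pX x)).trans hv.symm)]
  exact key s hs _ hμ hflat

end Scheme

section Space

variable {S : Scheme.{u}}

theorem isFlatAtMor_iff {F G : Sp S} {f : F ⟶ G} {U V : Over S} {a : (yon S).obj U ⟶ F}
    {b : (yon S).obj V ⟶ G} {h : U ⟶ V} (ha : RepWith @Etale a) (hb : RepWith @Etale b)
    (w : a ≫ f = (yon S).map h ≫ b) (u : U.left) :
    IsFlatAtMor f (Points.ofPt a u) ↔ (h.left.stalkMap u).hom.Flat := by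
  refine ⟨fun H => H a b h u ha hb w rfl, fun H U' V' a' b' h' u' ha' hb' w' hu => ?_⟩
  obtain ⟨W, p, q, sW⟩ := exists_sq ha.1 a'
  obtain ⟨VV, r, t, sV⟩ := exists_sq hb.1 b'
  have hp : Etale (pre p).left := sq_etale sW ha'
  have hq : Etale q.left := ha.2 a' p q sW
  have hr : Etale (pre r).left := sq_etale sV hb'
  have ht : Etale t.left := hb.2 b' r t sV
  obtain ⟨ω, hω, hω'⟩ := exists_point_of_sq sW (Points.ofScheme U u) u' (by
    rw [← Points.ofPt_eq_map_ofScheme, hu])
  have hω₁ : (pre p).left ω = u := by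
    rw [ofPt_pre] at hω
    exact (Points.schemeEquiv U).injective hω
  have hcond : ((yon S).map (pre p ≫ h)) ≫ b = ((yon S).map (q ≫ h')) ≫ b' := by
    rw [Functor.map_comp, map_pre, Category.assoc, ← w, ← Category.assoc, sW.w, Category.assoc, w',
      Functor.map_comp, Category.assoc]
  let k : W ⟶ VV := pre (sV.lift _ _ hcond)
  have k₁ : k ≫ pre r = pre p ≫ h := (yon S).map_injective (by
    rw [Functor.map_comp, map_pre, map_pre, sV.lift_fst])
  have k₂ : k ≫ t = q ≫ h' := (yon S).map_injective (by rw [Functor.map_comp, map_pre, sV.lift_snd])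
  have f₁ : ((k.left ≫ (pre r).left).stalkMap ω).hom.Flat :=
    flat_stalk_congr (congrArg CommaMorphism.left k₁).symm
      (flat_stalk_comp (pre p).left h.left ω (Flat.stalkMap _ ω) (by rw [hω₁]; exact H))
  have f₂ : ((q.left ≫ h'.left).stalkMap ω).hom.Flat :=
    flat_stalk_congr (congrArg CommaMorphism.left k₂)
      (flat_stalk_comp k.left t.left ω (flat_cancel_etale _ _ ω f₁) (Flat.stalkMap _ _))
  have := GrpSch.flat_stalkMap_of_comp q.left h'.left ω (Flat.stalkMap _ ω) f₂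
  rwa [hω'] at this

/-- Nested charts of a composite, each lying over the base change to the next chart. -/
theorem exists_charts_nested {X Y Z : Space S} (f : X ⟶ Y) (h : Y ⟶ Z) :
    ∃ (U V W : Over S) (c : (yon S).obj W ⟶ Z.obj) (b₀ : (yon S).obj V ⟶ pullback h.hom c)
      (a₁ : (yon S).obj U ⟶ pullback (f ≫ h).hom c) (f' : U ⟶ V) (h' : V ⟶ W),
      RepWith @Etale c ∧ RepWith @Surjective c ∧ RepWith @Etale b₀ ∧ RepWith @Surjective b₀ ∧
      RepWith @Etale a₁ ∧ RepWith @Surjective a₁ ∧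
      a₁ ≫ pullback.fst (f ≫ h).hom c ≫ f.hom = (yon S).map f' ≫ b₀ ≫ pullback.fst h.hom c ∧
      b₀ ≫ pullback.snd h.hom c = (yon S).map h' ∧
      a₁ ≫ pullback.snd (f ≫ h).hom c = (yon S).map (f' ≫ h') := by
  obtain ⟨W, c, hc, hcs⟩ := Z.property.atlas
  have sX := IsPullback.of_hasPullback (f ≫ h).hom c
  have sY := IsPullback.of_hasPullback h.hom c
  have hX₁ := isAlgSpace_of_isPullback X.property Z.property (IsAlgSpace.yon_obj W) sX
  have hY₁ := isAlgSpace_of_isPullback Y.property Z.property (IsAlgSpace.yon_obj W) sY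
  let f₁ := sY.lift (pullback.fst (f ≫ h).hom c ≫ f.hom) (pullback.snd (f ≫ h).hom c)
    (by rw [Category.assoc]; exact sX.w)
  obtain ⟨V, b₀, hb₀, hb₀s⟩ := hY₁.atlas
  have s₂ := IsPullback.of_hasPullback f₁ b₀
  have hX₂ := isAlgSpace_of_isPullback hX₁ hY₁ (IsAlgSpace.yon_obj V) s₂
  obtain ⟨U, a₀, ha₀, ha₀s⟩ := hX₂.atlas
  let a₁ := a₀ ≫ pullback.fst f₁ b₀
  let f' : U ⟶ V := pre (a₀ ≫ pullback.snd f₁ b₀)
  have e₁ : a₁ ≫ f₁ = (yon S).map f' ≫ b₀ := by
    rw [map_pre, Category.assoc, Category.assoc, s₂.w]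
  refine ⟨U, V, W, c, b₀, a₁, f', pre (b₀ ≫ pullback.snd h.hom c), hc, hcs, hb₀, hb₀s,
    repWith_comp ha₀ (repWith_of_isPullback s₂.flip hb₀), repWith_comp ha₀s (repWith_of_isPullback s₂.flip hb₀s),
    ?_, (map_pre _).symm, ?_⟩
  · rw [← Category.assoc ((yon S).map f'), ← e₁, Category.assoc a₁ f₁, sY.lift_fst]
  · rw [Functor.map_comp, map_pre (b₀ ≫ _), ← Category.assoc _ b₀, ← e₁, Category.assoc a₁ f₁, sY.lift_snd]

/-- A chart over a chart of the base gives one after base change. -/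
theorem exists_chart_baseChange {Y Z Y' Z' : Sp S} {h : Y ⟶ Z} {h' : Y' ⟶ Z'} {pY : Y' ⟶ Y} {g : Z' ⟶ Z}
    (sq : IsPullback pY h' h g) {W W' V V' : Over S} {c : (yon S).obj W ⟶ Z} {c' : (yon S).obj W' ⟶ Z'}
    {ω : W' ⟶ W} (wc : c' ≫ g = (yon S).map ω ≫ c) (hc' : RepWith @Etale c') (hc's : RepWith @Surjective c')
    {b₀ : (yon S).obj V ⟶ pullback h c} (hb₀ : RepWith @Etale b₀) (hb₀s : RepWith @Surjective b₀)
    {k : V ⟶ W} (hk : b₀ ≫ pullback.snd h c = (yon S).map k) {wV : V' ⟶ V} {k' : V' ⟶ W'}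
    (sV : IsPullback wV.left k'.left k.left ω.left) :
    ∃ b' : (yon S).obj V' ⟶ Y', RepWith @Etale b' ∧ RepWith @Surjective b' ∧
      b' ≫ h' = (yon S).map k' ≫ c' ∧ b' ≫ pY = (yon S).map wV ≫ b₀ ≫ pullback.fst h c := by
  have sY := IsPullback.of_hasPullback h c
  have sQ := IsPullback.of_hasPullback h' c'
  let q := sY.lift (pullback.fst h' c' ≫ pY) (pullback.snd h' c' ≫ (yon S).map ω)
    (by rw [Category.assoc, Category.assoc, sq.w, ← wc, ← Category.assoc, sQ.w, Category.assoc])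
  have sq' : IsPullback q (pullback.snd h' c') (pullback.snd h c) ((yon S).map ω) :=
    IsPullback.of_right (by rw [sY.lift_fst, ← wc]; exact sQ.paste_horiz sq) (sY.lift_snd _ _ _) sY
  have sV' := isPullback_over sV |>.map (yon S)
  let β := sq'.lift ((yon S).map wV ≫ b₀) ((yon S).map k') (by rw [Category.assoc, hk]; exact sV'.w)
  have sβ : IsPullback ((yon S).map wV) β b₀ q :=
    IsPullback.of_bot (by rw [sq'.lift_snd, hk]; exact sV') (sq'.lift_fst _ _ _).symm sq'
  refine ⟨β ≫ pullback.fst h' c', repWith_comp (repWith_of_isPullback sβ hb₀) (repWith_of_isPullback sQ.flip hc'),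
    repWith_comp (repWith_of_isPullback sβ hb₀s) (repWith_of_isPullback sQ.flip hc's), ?_, ?_⟩
  · rw [Category.assoc, sQ.w, ← Category.assoc, sq'.lift_snd]
  · rw [Category.assoc, ← sY.lift_fst (pullback.fst h' c' ≫ pY) (pullback.snd h' c' ≫ (yon S).map ω)
      (by rw [Category.assoc, Category.assoc, sq.w, ← wc, ← Category.assoc, sQ.w, Category.assoc]),
      ← Category.assoc β q, sq'.lift_fst, Category.assoc]

theorem flatLocus_open_and_baseChange {X Y Z : Space S} (f : X ⟶ Y) (h : Y ⟶ Z)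
    (hfp : LocP @LocallyOfFinitePresentation (f ≫ h).hom) (hfl : LocP @Flat (f ≫ h).hom)
    (hft : LocP @LocallyOfFiniteType h.hom) :
    IsOpen {x : Points X.obj | IsFlatAtMor f.hom x} ∧
    ∀ (X' Y' Z' : Space S) (g : Z' ⟶ Z) (f' : X' ⟶ Y') (h' : Y' ⟶ Z') (pX : X' ⟶ X) (pY : Y' ⟶ Y),
      IsPullback pY.hom h'.hom h.hom g.hom → IsPullback pX.hom f'.hom f.hom pY.hom →
      {x' : Points X'.obj | IsFlatAtMor f'.hom x'} =
        Points.map pX.hom ⁻¹' {x : Points X.obj | IsFlatAtMor f.hom x} := by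
  obtain ⟨U, V, W, c, b₀, a₁, φ, ψ, hc, hcs, hb₀, hb₀s, ha₁, ha₁s, w₁, w₂, w₃⟩ := exists_charts_nested f h
  let a := a₁ ≫ pullback.fst (f ≫ h).hom c
  let b := b₀ ≫ pullback.fst h.hom c
  have sX := IsPullback.of_hasPullback (f ≫ h).hom c
  have sY := IsPullback.of_hasPullback h.hom c
  have ha : RepWith @Etale a := repWith_comp ha₁ (repWith_of_isPullback sX.flip hc)
  have has : RepWith @Surjective a := repWith_comp ha₁s (repWith_of_isPullback sX.flip hcs)
  have hb : RepWith @Etale b := repWith_comp hb₀ (repWith_of_isPullback sY.flip hc)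
  have wab : a ≫ f.hom = (yon S).map φ ≫ b := by rw [Category.assoc, w₁]
  have wbc : b ≫ h.hom = (yon S).map ψ ≫ c := by rw [Category.assoc, sY.w, ← Category.assoc, w₂]
  have wac : a ≫ (f ≫ h).hom = (yon S).map (φ ≫ ψ) ≫ c := by rw [Category.assoc, sX.w, ← Category.assoc, w₃]
  have : LocallyOfFinitePresentation (φ.left ≫ ψ.left) := hfp a c (φ ≫ ψ) ha hc wac
  have : LocallyOfFiniteType ψ.left := hft b c ψ hb hc wbc
  have hcomp : Flat (φ.left ≫ ψ.left) := hfl a c (φ ≫ ψ) ha hc wac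
  have : LocallyOfFinitePresentation φ.left := FlatLocus.locallyOfFinitePresentation_of_comp φ.left ψ.left
  have hpre : Points.ofPt a ⁻¹' {x | IsFlatAtMor f.hom x} = {u : U.left | (φ.left.stalkMap u).hom.Flat} := by
    ext u
    exact isFlatAtMor_iff ha hb wab u
  refine ⟨?_, fun X' Y' Z' g f' h' pX pY sqY sqX => ?_⟩
  · rw [← (isQuotientMap_ofPt ha has).isOpen_preimage, hpre]
    exact S0386.result φ.left
  obtain ⟨W', ω₀, c', wq⟩ : ∃ (W' : Over S) (ω : W' ⟶ W) (c' : (yon S).obj W' ⟶ Z'.obj),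
      c' ≫ g.hom = (yon S).map ω ≫ c ∧ RepWith @Etale c' ∧ RepWith @Surjective c' := by
    have sZ := IsPullback.of_hasPullback g.hom c
    obtain ⟨W', d, hd, hds⟩ := (isAlgSpace_of_isPullback Z'.property Z.property (IsAlgSpace.yon_obj W) sZ).atlas
    exact ⟨W', pre (d ≫ pullback.snd g.hom c), d ≫ pullback.fst g.hom c,
      by rw [map_pre, Category.assoc, Category.assoc, sZ.w],
      repWith_comp hd (repWith_of_isPullback sZ.flip hc), repWith_comp hds (repWith_of_isPullback sZ.flip hcs)⟩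
  obtain ⟨wc, hc', hc's⟩ := wq
  let V' : Over S := Over.mk (pullback.snd ψ.left ω₀.left ≫ W'.hom)
  let k' : V' ⟶ W' := Over.homMk (pullback.snd ψ.left ω₀.left) rfl
  let wV : V' ⟶ V := Over.homMk (pullback.fst ψ.left ω₀.left) (by
    change _ = pullback.snd ψ.left ω₀.left ≫ W'.hom
    rw [← Over.w ψ, ← Over.w ω₀, ← Category.assoc, pullback.condition, Category.assoc])
  have sV : IsPullback wV.left k'.left ψ.left ω₀.left := IsPullback.of_hasPullback _ _
  let U' : Over S := Over.mk (pullback.snd φ.left wV.left ≫ V'.hom)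
  let φ' : U' ⟶ V' := Over.homMk (pullback.snd φ.left wV.left) rfl
  let wU : U' ⟶ U := Over.homMk (pullback.fst φ.left wV.left) (by
    change _ = pullback.snd φ.left wV.left ≫ V'.hom
    rw [← Over.w φ, ← Over.w wV, ← Category.assoc, pullback.condition, Category.assoc])
  have sU : IsPullback wU.left φ'.left φ.left wV.left := IsPullback.of_hasPullback _ _
  obtain ⟨b', hb', -, wb₁, wb₂⟩ := exists_chart_baseChange sqY wc hc' hc's hb₀ hb₀s w₂ sV
  obtain ⟨a', ha', ha's, wa₁, wa₂⟩ := exists_chart_baseChange (h := (f ≫ h).hom) (h' := (f' ≫ h').hom)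
    (sqX.paste_vert sqY) wc hc' hc's ha₁ ha₁s w₃ (k' := φ' ≫ k') (wV := wU) (sU.paste_vert sV)
  have w' : a' ≫ f'.hom = (yon S).map φ' ≫ b' := by
    refine sqY.hom_ext ?_ ?_
    · rw [Category.assoc, ← sqX.w, ← Category.assoc, wa₂, Category.assoc, Category.assoc, Category.assoc ((yon S).map φ'), wb₂,
        ← Category.assoc ((yon S).map φ'), ← Functor.map_comp,
        show φ' ≫ wV = wU ≫ φ from Over.OverMorphism.ext sU.w.symm, Functor.map_comp, Category.assoc, w₁]
    · rw [Category.assoc, Category.assoc, wb₁, ← Category.assoc ((yon S).map φ'), ← Functor.map_comp]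
      exact wa₁
  ext x'
  obtain ⟨u', rfl⟩ := surjective_ofPt ha's x'
  change IsFlatAtMor f'.hom _ ↔ IsFlatAtMor f.hom (Points.map pX.hom _)
  rw [Points.map_ofPt, wa₂, ofPt_comp, isFlatAtMor_iff ha hb wab, isFlatAtMor_iff ha' hb' w' u']
  exact ⟨fun hu => flat_of_flat_baseChange sV sU u' (Flat.stalkMap _ _) hu,
    fun hu => GrpSch.flat_stalkMap_of_isPullback sU u' hu⟩

end Space

end Groth.Agent.AlgSpLoc
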