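import Groth.Agent.AlgSpc.SpCoprod
import Groth.Agent.AlgSpc.FibreProd
import Mathlib.CategoryTheory.Sites.LeftExact

/-!
A criterion for a property of morphisms of algebraic spaces to be fpqc local on the base: it may be
tested on affine schemes over the target, it descends along faithfully flat morphisms of affine schemes,
and it is stable under finite coproducts.
-/

set_option autoImplicit false
set_option backward.isDefEq.respectTransparency false

universe u

open CategoryTheory CategoryTheory.Limits AlgebraicGeometry Opposite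

namespace Groth.Agent.AlgSpLoc

open _root_.AlgSp Groth.Agent.AlgSpc

variable {S : Scheme.{u}}

/-- The Yoneda embedding sends a disjoint union of schemes to a coproduct of sheaves. -/
theorem nonempty_isColimit_yon_sigma {κ : Type u} (W : κ → Over S) :
    Nonempty (IsColimit (Cofan.mk (P := (yon S).obj (Over.mk (Sigma.desc fun k => (W k).hom)))
      fun k => (yon S).map (Over.homMk (Sigma.ι (fun k => (W k).left) k) (Sigma.ι_desc _ _) :
        W k ⟶ Over.mk (Sigma.desc fun k => (W k).hom)))) := by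
  let WW : Over S := Over.mk (Sigma.desc fun k => (W k).hom)
  let j : ∀ k, W k ⟶ WW := fun k => Over.homMk (Sigma.ι (fun k => (W k).left) k) (Sigma.ι_desc _ _)
  have hj : ∀ k, IsOpenImmersion (j k).left := fun k =>
    (inferInstance : IsOpenImmersion (Sigma.ι (fun k => (W k).left) k))
  have hjs : ∀ z : ↥WW.left, ∃ k, z ∈ Set.range (j k).left := fun z => by
    obtain ⟨k, y, hy⟩ := (sigmaOpenCover fun k => (W k).left).exists_eq z
    exact ⟨k, y, hy⟩
  have hcompat : ∀ {F : Sp S} (x : ∀ k, (yon S).obj (W k) ⟶ F) (k k' : κ) ⦃Z : Over S⦄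
      (a : Z ⟶ W k) (b : Z ⟶ W k'), a ≫ j k = b ≫ j k' →
      (yon S).map a ≫ x k = (yon S).map b ≫ x k' := by
    intro F x k k' Z a b w
    by_cases h : k = k'
    · subst h
      haveI : Mono (j k) := (Over.forget S).mono_of_mono_map (haveI := hj k; inferInstanceAs (Mono (j k).left))
      rw [(cancel_mono (j k)).1 w]
    · haveI : IsEmpty ↥Z.left := ⟨fun z => by
        have hz := congrArg (fun (φ : Z ⟶ WW) => φ.left z) w
        simp only [Over.comp_left, Scheme.Hom.comp_apply] at hz
        have hd : Disjoint (Set.range (Sigma.ι (fun k => (W k).left) k : (W k).left ⟶ _))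
            (Set.range (Sigma.ι (fun k => (W k).left) k' : (W k').left ⟶ _)) := by
          have := disjoint_opensRange_sigmaι (fun k => (W k).left) k k' h
          rw [Set.disjoint_iff_inter_eq_empty]
          rw [disjoint_iff] at this
          simpa [TopologicalSpace.Opens.ext_iff] using this
        exact Set.disjoint_left.1 hd ⟨a.left z, rfl⟩ ⟨b.left z, hz.symm⟩⟩
      exact empty_hom_ext _ _
  choose y hy huniq using fun (s : Cofan fun k => (yon S).obj (W k)) =>
    existsUnique_glue W j hj hjs (fun k => s.inj k) (hcompat fun k => s.inj k)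
  exact ⟨mkCofanColimit _ y hy fun s m hm => huniq s m hm⟩

/-- A criterion for a property to be fpqc local on the base. -/
theorem isLocalOnBase_fpqc_of_criteria (P : MorphismProperty (AlgSp.Sp S))
    (h1 : ∀ ⦃ι : Type u⦄ [Finite ι] (Xi Yi : ι → AlgSp.Sp S) (fi : ∀ i, Xi i ⟶ Yi i)
      (cX : Cofan Xi) (cY : Cofan Yi) (_ : IsColimit cX) (_ : IsColimit cY) (m : cX.pt ⟶ cY.pt),
      (∀ i, AlgSp.IsAlgSpace (Xi i)) → (∀ i, AlgSp.IsAlgSpace (Yi i)) →
      AlgSp.IsAlgSpace cX.pt → AlgSp.IsAlgSpace cY.pt →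
      (∀ i, cX.inj i ≫ m = fi i ≫ cY.inj i) → (∀ i, P (fi i)) → P m)
    (h2 : ∀ ⦃X Y : AlgSp.Sp S⦄, AlgSp.IsAlgSpace X → AlgSp.IsAlgSpace Y → ∀ (f : X ⟶ Y),
      P f ↔ ∀ (Z : Over S), IsAffine Z.left → ∀ (g : (AlgSp.yon S).obj Z ⟶ Y) (W : AlgSp.Sp S)
        (fst : W ⟶ X) (snd : W ⟶ (AlgSp.yon S).obj Z), AlgSp.IsAlgSpace W → IsPullback fst snd f g → P snd)
    (h3 : ∀ ⦃Z Z' : Over S⦄ (c : Z' ⟶ Z), IsAffine Z.left → IsAffine Z'.left → Surjective c.left → Flat c.left →
      ∀ ⦃X X' : AlgSp.Sp S⦄ (f : X ⟶ (AlgSp.yon S).obj Z) (fst : X' ⟶ X) (f' : X' ⟶ (AlgSp.yon S).obj Z'),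
        AlgSp.IsAlgSpace X → AlgSp.IsAlgSpace X' → IsPullback fst f' f ((AlgSp.yon S).map c) → P f' → P f) :
    AlgSp.IsLocalOnBase (AlgSp.IsFpqcCover (S := S)) P := by
  intro ι Y Yi g hY hYi hcov X f hX Xi p q hXi sq
  refine ⟨fun hf i => (h2 (hXi i) (hYi i) (p i)).2 fun Z hZ g' W fst snd hW sqW =>
    (h2 hX hY f).1 hf Z hZ (g' ≫ g i) W (fst ≫ q i) snd hW (sqW.paste_horiz (sq i)), fun hp => ?_⟩
  refine (h2 hX hY f).2 fun Z hZ h W fst snd hW sqW => ?_
  obtain ⟨n, T, c, hT, hc, hsurj, hl⟩ := hcov.2 Z hZ h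
  choose i l hli using hl
  -- the base changes to the members of the refinement
  let T' : ULift.{u} (Fin n) → Over S := fun j => T j.down
  let e : ∀ j, T' j ⟶ Z := fun j => c j.down
  let W' : ULift.{u} (Fin n) → Sp S := fun j => pullback snd ((yon S).map (e j))
  have hW' : ∀ j, IsAlgSpace (W' j) := fun j =>
    isAlgSpace_of_isPullback hW (IsAlgSpace.yon_obj Z) (IsAlgSpace.yon_obj (T' j))
      (IsPullback.of_hasPullback _ _)
  have hP : ∀ j, P (pullback.snd snd ((yon S).map (e j))) := fun j => by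
    have sq1 : IsPullback (pullback.fst snd ((yon S).map (e j)) ≫ fst) (pullback.snd _ _) f
        ((yon S).map (e j) ≫ h) := (IsPullback.of_hasPullback _ _).paste_horiz sqW
    rw [← hli j.down] at sq1
    have w : (pullback.fst snd ((yon S).map (e j)) ≫ fst) ≫ f =
        (pullback.snd snd ((yon S).map (e j)) ≫ l j.down) ≫ g (i j.down) := by
      rw [sq1.w, Category.assoc]
    have sq2 : IsPullback ((sq (i j.down)).lift _ _ w) (pullback.snd _ _) (p (i j.down)) (l j.down) :=
      IsPullback.of_right (by rw [IsPullback.lift_fst]; exact sq1) (IsPullback.lift_snd _ _ _ _)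
        (sq (i j.down))
    exact (h2 (hXi _) (hYi _) _).1 (hp _) (T' j) (hT _) (l j.down) _ _ _ (hW' j) sq2
  -- their disjoint union
  let Z' : Over S := Over.mk (Sigma.desc fun j => (T' j).hom)
  let ιZ : ∀ j, T' j ⟶ Z' := fun j => Over.homMk (Sigma.ι (fun j => (T' j).left) j) (Sigma.ι_desc _ _)
  let σ : Z' ⟶ Z := Over.homMk (Sigma.desc fun j => (e j).left) (by
    apply Sigma.hom_ext; intro j; simp [Z', Over.w (e j)])
  have hσ : ∀ j, ιZ j ≫ σ = e j := fun j => Over.OverMorphism.ext (Sigma.ι_desc _ _)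
  haveI : ∀ j, IsAffine (T' j).left := fun j => hT _
  haveI hZ' : IsAffine Z'.left := inferInstanceAs (IsAffine (∐ fun j => (T' j).left))
  have hσf : Flat σ.left := IsZariskiLocalAtSource.sigmaDesc (P := @Flat) fun j => hc _
  have hσs : Surjective σ.left := Surjective.sigmaDesc_of_union_range_eq_univ (by
    refine Set.eq_univ_of_forall fun z => Set.mem_iUnion.2 ?_
    obtain ⟨j, hj⟩ := hsurj z
    exact ⟨⟨j⟩, hj⟩)
  obtain ⟨hcY⟩ := nonempty_isColimit_yon_sigma T'
  let W'' := pullback snd ((yon S).map σ)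
  have hW'' : IsAlgSpace W'' := isAlgSpace_of_isPullback hW (IsAlgSpace.yon_obj Z) (IsAlgSpace.yon_obj Z')
    (IsPullback.of_hasPullback _ _)
  let d : ∀ j, W' j ⟶ W'' := fun j => pullback.lift (pullback.fst _ _)
    (pullback.snd _ _ ≫ (yon S).map (ιZ j)) (by
      rw [Category.assoc, ← Functor.map_comp, hσ, pullback.condition])
  obtain ⟨hcX⟩ := IsUniversalColimit.nonempty_isColimit_of_isPullback_left
    (a := Cofan.mk ((yon S).obj Z') fun j => (yon S).map (ιZ j))
    (FinitaryPreExtensive.isUniversal_finiteCoproducts hcY)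
    (fun j => (yon S).map (e j)) ((yon S).map σ) snd
    (q₁ := fun j => pullback.fst snd ((yon S).map (e j)))
    (q₂ := fun j => pullback.snd snd ((yon S).map (e j)))
    (fun j => IsPullback.of_hasPullback snd ((yon S).map (e j)))
    (IsPullback.of_hasPullback snd ((yon S).map σ))
    (Cofan.mk W'' d) (Iso.refl _)
    (fun j => by simp [← Functor.map_comp, hσ])
    (fun j => by simp [d]) (fun j => by simp [d])
  refine h3 σ hZ hZ' hσs hσf snd (pullback.fst _ _) (pullback.snd _ _) hW hW''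
    (IsPullback.of_hasPullback _ _) ?_
  exact h1 W' (fun j => (yon S).obj (T' j)) (fun j => pullback.snd _ _) (Cofan.mk W'' d) _ hcX hcY
    (pullback.snd snd ((yon S).map σ)) hW' (fun j => IsAlgSpace.yon_obj _) hW'' (IsAlgSpace.yon_obj Z')
    (fun j => pullback.lift_snd _ _ _) hP

end Groth.Agent.AlgSpLoc
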