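import Groth.Agent.AlgSpLoc.Basic
import Groth.Prelude.Def_AlgSpCov
import Mathlib.AlgebraicGeometry.Limits
import Mathlib.AlgebraicGeometry.Morphisms.Flat
import Mathlib.AlgebraicGeometry.Morphisms.QuasiSeparated

/-!
`LocP P` is fpqc local on the base.
-/

set_option autoImplicit false
set_option backward.isDefEq.respectTransparency false

universe u

open CategoryTheory CategoryTheory.Limits AlgebraicGeometry Opposite

namespace Groth.Agent.AlgSpLoc

open _root_.AlgSp Groth.Agent.AlgSpc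

/-- A property local on the target that descends along quasi-compact flat surjections can be checked after
finitely many flat morphisms from affines covering each affine open. -/
theorem prop_of_affine_covers (P : MorphismProperty Scheme.{u}) [IsZariskiLocalAtTarget P]
    [P.DescendsAlong (@Surjective ⊓ @Flat ⊓ @QuasiCompact : MorphismProperty Scheme.{u})]
    {V T : Scheme.{u}} (snd : V ⟶ T)
    (h : ∀ Z : T.Opens, IsAffineOpen Z → ∃ (m : ℕ) (W : Fin m → Scheme.{u}) (c : ∀ j, W j ⟶ Z.toScheme),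
      (∀ j, IsAffine (W j)) ∧ (∀ j, Flat (c j)) ∧ (∀ z : Z.toScheme, ∃ j, z ∈ Set.range (c j)) ∧
      ∀ j, P (pullback.snd snd (c j ≫ Z.ι))) : P snd := by
  refine IsZariskiLocalAtTarget.of_iSup_eq_top (P := P) (fun Z : T.affineOpens => (Z : T.Opens))
    (iSup_affineOpens_eq_top T) fun ⟨Z, hZ⟩ => ?_
  obtain ⟨m, W, c, hW, hc, hsurj, hP⟩ := h Z hZ
  have : IsAffine Z.toScheme := hZ
  let σ : (∐ W) ⟶ Z.toScheme := Sigma.desc c
  have h1 : Surjective σ := ⟨fun z => by
    obtain ⟨j, w, rfl⟩ := hsurj z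
    exact ⟨Sigma.ι W j w, by simp [σ, ← Scheme.Hom.comp_apply]⟩⟩
  have h2 : Flat σ := IsZariskiLocalAtSource.sigmaDesc hc
  have h3 : QuasiCompact σ := (quasiCompact_iff_compactSpace σ).2 inferInstance
  refine MorphismProperty.of_isPullback_of_descendsAlong
    (Q := @Surjective ⊓ @Flat ⊓ @QuasiCompact) (P := P)
    (IsPullback.of_hasPullback σ (snd ∣_ Z)) ⟨⟨h1, h2⟩, h3⟩ ?_
  refine IsZariskiLocalAtTarget.of_openCover (P := P) (sigmaOpenCover W) fun j => ?_
  let a : pullback snd (c j ≫ Z.ι) ⟶ _ := pullback.snd snd (c j ≫ Z.ι)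
  have hs : IsPullback (pullback.fst (pullback.fst σ (snd ∣_ Z)) (Sigma.ι W j) ≫
      pullback.snd σ (snd ∣_ Z) ≫ (snd ⁻¹ᵁ Z).ι) (pullback.snd (pullback.fst σ (snd ∣_ Z)) (Sigma.ι W j))
      snd (c j ≫ Z.ι) := by
    have s1 := (isPullback_morphismRestrict snd Z).flip
    have s2 := (IsPullback.of_hasPullback σ (snd ∣_ Z)).flip.paste_horiz s1
    have s3 := (IsPullback.of_hasPullback (pullback.fst σ (snd ∣_ Z)) (Sigma.ι W j)).paste_horiz s2
    simpa [σ] using s3
  change P (pullback.snd (pullback.fst σ (snd ∣_ Z)) (Sigma.ι W j))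
  rw [← hs.isoPullback_hom_snd, P.cancel_left_of_respectsIso]
  exact hP j

variable {S : Scheme.{u}}

/-- If `LocP P` holds after base change along an fpqc covering, it holds. -/
theorem locP_of_cover {P : MorphismProperty Scheme.{u}} [EtLoc P] [P.IsStableUnderBaseChange] [IsZariskiLocalAtTarget P]
    [P.DescendsAlong (@Surjective ⊓ @Flat ⊓ @QuasiCompact : MorphismProperty Scheme.{u})]
    {ι : Type u} {X Y : Sp S} (hX : IsAlgSpace X) (hY : IsAlgSpace Y) (Yi : ι → Sp S) (g : ∀ i, Yi i ⟶ Y)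
    (hYi : ∀ i, IsAlgSpace (Yi i))
    (hcov : IsFpqcCover Yi g) (f : X ⟶ Y) (Xi : ι → Sp S) (p : ∀ i, Xi i ⟶ Yi i) (q : ∀ i, Xi i ⟶ X)
    (hsq : ∀ i, IsPullback (q i) (p i) f (g i)) (h : ∀ i, LocP P (p i)) : LocP P f := by
  have hP := EtLocal.of_etLoc P
  have := hP.respectsIso
  refine locP_of_forall_chart hP fun U φ hφ => repWith_mk fun T gT => ?_
  obtain ⟨V, fst, snd, sq⟩ := exists_sq (hY.representable_from_yon (φ ≫ f)) gT
  refine ⟨V, fst, snd, sq, prop_of_affine_covers P snd.left fun Z hZ => ?_⟩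
  let Z' : Over S := Over.mk (Z.ι ≫ T.hom)
  let ι' : Z' ⟶ T := Over.homMk Z.ι rfl
  obtain ⟨m, W, c, hW, hc, hsurj, hl⟩ := hcov.2 Z' hZ ((yon S).map ι' ≫ gT)
  refine ⟨m, fun j => (W j).left, fun j => (c j).left, hW, hc, hsurj, fun j => ?_⟩
  obtain ⟨i, l, hli⟩ := hl j
  let k : W j ⟶ T := c j ≫ ι'
  have hk : (yon S).map k ≫ gT = l ≫ g i := by rw [hli, Functor.map_comp, Category.assoc]
  -- the base change of `f` to `W j`
  have sA := IsPullback.of_hasPullback (p i) l
  have sB : IsPullback (pullback.fst (p i) l ≫ q i) (pullback.snd (p i) l) f ((yon S).map k ≫ gT) := by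
    rw [hk]; exact sA.paste_horiz (hsq i)
  have hXW : IsAlgSpace (pullback (p i) l) :=
    isAlgSpace_of_isPullback (isAlgSpace_of_isPullback hX hY (hYi i) (hsq i)) (hYi i)
      (IsAlgSpace.yon_obj _) sA
  have hqW : LocP P (pullback.snd (p i) l) :=
    locP_base_change (isAlgSpace_of_isPullback hX hY (hYi i) (hsq i)) (hYi i)
      (IsAlgSpace.yon_obj _) sA (h i)
  obtain ⟨VW, a, b, sW⟩ := exists_sq (hY.representable_from_yon (φ ≫ f)) ((yon S).map k ≫ gT)
  have w1 : (a ≫ φ) ≫ f = (yon S).map b ≫ ((yon S).map k ≫ gT) := by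
    rw [Category.assoc]; exact sW.w
  let e := sB.lift _ _ w1
  have se : IsPullback a e φ (pullback.fst (p i) l ≫ q i) := by
    refine IsPullback.of_bot ?_ ((sB.lift_fst _ _ w1).symm) sB
    simpa [e] using sW
  have hP' := repWith_chart_comp hP (IsAlgSpace.yon_obj _) hqW (repWith_of_isPullback se hφ)
  rw [show e ≫ pullback.snd (p i) l = (yon S).map b from sB.lift_snd _ _ w1,
    repWith_yon_map_iff] at hP'
  -- compare with the base change of `snd`
  have w2 : a ≫ (φ ≫ f) = ((yon S).map b ≫ (yon S).map k) ≫ gT := by rw [Category.assoc]; exact sW.w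
  let n := pre (sq.lift _ _ w2)
  obtain ⟨fst, rfl⟩ := (yon S).map_surjective fst
  have s3 : IsPullback ((yon S).map n) ((yon S).map b) ((yon S).map snd) ((yon S).map k) := by
    refine IsPullback.of_right (t := sq) ?_ (by simp [n])
    simpa [n] using sW
  have s4 := isPullback_left s3
  have hb : P (s4.isoPullback.hom ≫ pullback.snd snd.left k.left) := s4.isoPullback_hom_snd.symm ▸ hP'
  rw [P.cancel_left_of_respectsIso] at hb
  exact hb

/-- `LocP P` is fpqc local on the base. -/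
theorem isLocalOnBase_locP {P : MorphismProperty Scheme.{u}} [EtLoc P] [P.IsStableUnderBaseChange] [IsZariskiLocalAtTarget P]
    [P.DescendsAlong (@Surjective ⊓ @Flat ⊓ @QuasiCompact : MorphismProperty Scheme.{u})] :
    IsLocalOnBase (IsFpqcCover (S := S)) (LocP P) := by
  intro ι Y Yi g hY hYi hcov X f hX Xi p q _ hsq
  exact ⟨fun hf i => locP_base_change hX hY (hYi i) (hsq i) hf,
    fun h => locP_of_cover hX hY Yi g hYi hcov f Xi p q hsq h⟩

end Groth.Agent.AlgSpLoc
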