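import Groth.Agent.AlgSpc.LocP
import Groth.Agent.AlgSpc.EtLocInst
import Groth.Agent.AlgSpLoc.Covers
import Groth.Agent.SmoothDesc.Main
import Groth.Agent.S2807
import Groth.Agent.SmoothLift.Main

/-!
Properties of morphisms of algebraic spaces descend along surjections of the source.
-/

set_option autoImplicit false
set_option backward.isDefEq.respectTransparency false

universe u

open CategoryTheory CategoryTheory.Limits AlgebraicGeometry Opposite

namespace Groth.Agent.AlgSpLoc

open _root_.AlgSp Groth.Agent.AlgSpc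

variable {S : Scheme.{u}}

/-- A property of morphisms of schemes descending along `W`-surjections of the source gives the same for spaces. -/
theorem locP_of_surjective_comp {P W : MorphismProperty Scheme.{u}} [EtLoc P]
    (hd : ∀ {A B C : Scheme.{u}} (e : A ⟶ B) (g : B ⟶ C), W e → Surjective e → P (e ≫ g) → P g)
    {X Y B : Sp S} (hX : IsAlgSpace X) (hY : IsAlgSpace Y) (hB : IsAlgSpace B) {f : X ⟶ Y} {q : Y ⟶ B}
    (hs : Function.Surjective (Points.map f)) (hf : LocP W f) (hfq : LocP P (f ≫ q)) : LocP P q := by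
  obtain ⟨U, V, a, b, k, ha, has, hb, -, w⟩ := exists_chart hY hB q
  have sR := IsPullback.of_hasPullback f a
  have hR := isAlgSpace_of_isPullback hX hY (IsAlgSpace.yon_obj U) sR
  obtain ⟨W0, c, hc, hcs⟩ := hR.atlas
  let h := pre (c ≫ pullback.snd f a)
  have hm : RepWith @Etale (c ≫ pullback.fst f a) := repWith_comp hc (repWith_of_isPullback sR.flip ha)
  have e₁ : (c ≫ pullback.fst f a) ≫ f = (yon S).map h ≫ a := by simp [h, pullback.condition]
  have hW : W h.left := hf _ _ h hm ha e₁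
  have hsurj : Surjective h.left := ⟨fun u => by
    obtain ⟨x, hx⟩ := hs (Points.ofPt a u)
    obtain ⟨r, -, hr⟩ := exists_point_of_isPullback sR x (Points.ofScheme U u)
      (by rw [hx, Points.ofPt_eq_map_ofScheme])
    obtain ⟨v, rfl⟩ := surjective_ofPt hcs r
    refine ⟨v, ?_⟩
    rw [Points.map_ofPt, ofPt_pre] at hr
    simpa [h] using congrArg (Points.toScheme U) hr⟩
  have hP : P (h ≫ k).left := hfq _ b (h ≫ k) hm hb (by
    rw [← Category.assoc, e₁, Category.assoc, w, Functor.map_comp, Category.assoc])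
  exact locP_of_chart ha has hb w (hd h.left k.left hW hsurj hP)

theorem etale_of_fppf_comp {A B C : Scheme.{u}} (e : A ⟶ B) (g : B ⟶ C) [Surjective e] [Flat e]
    [LocallyOfFinitePresentation e] [Etale (e ≫ g)] : Etale g := by
  have : Smooth g := SmoothDesc.smooth_of_fppf_comp e g
  have hu : FormallyUnramified g := by
    have hloc : ∀ b : B, ∃ V : B.Opens, b ∈ V ∧ FormallyUnramified (V.ι ≫ g) := fun b => by
      obtain ⟨x, rfl⟩ := e.surjective b
      exact S2807.result g (e ≫ g) e rfl x (Flat.stalkMap e x) ⟨⊤, trivial, inferInstance⟩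
    choose V hV hVu using hloc
    exact (IsZariskiLocalAtSource.iff_of_openCover (P := @FormallyUnramified)
      (B.openCoverOfIsOpenCover V (TopologicalSpace.IsOpenCover.mk
        (top_le_iff.1 fun b _ => TopologicalSpace.Opens.mem_iSup.2 ⟨b, hV b⟩)))).2 hVu
  refine ⟨fun {U} hU {V} hV h => ?_⟩
  have h₁ := (RingHom.smooth_def.1 (g.smooth_appLE hU hV h))
  have h₂ := FormallyUnramified.formallyUnramified_appLE (f := g) hU hV h
  algebraize [(g.appLE U V h).hom]
  have : Algebra.FormallySmooth Γ(C, U) Γ(B, V) := h₁.1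
  have : Algebra.FinitePresentation Γ(C, U) Γ(B, V) := h₁.2
  have : Algebra.FormallyUnramified Γ(C, U) Γ(B, V) := h₂
  have : Algebra.FormallyEtale Γ(C, U) Γ(B, V) := Algebra.FormallyEtale.of_formallyUnramified_and_formallySmooth
  exact ⟨inferInstance, inferInstance⟩

theorem smooth_of_fppf_comp {X Y B : Sp S} (hX : IsAlgSpace X) (hY : IsAlgSpace Y) (hB : IsAlgSpace B)
    {f : X ⟶ Y} {q : Y ⟶ B} (hs : Function.Surjective (Points.map f))
    (hf : LocP (@Flat ⊓ @LocallyOfFinitePresentation) f) (hfq : LocP @Smooth (f ≫ q)) : LocP @Smooth q :=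
  locP_of_surjective_comp (W := @Flat ⊓ @LocallyOfFinitePresentation)
    (fun e g ⟨(_ : Flat e), (_ : LocallyOfFinitePresentation e)⟩ _ (_ : Smooth (e ≫ g)) =>
      SmoothDesc.smooth_of_fppf_comp e g) hX hY hB hs hf hfq

theorem isEtaleMor_of_fppf_comp {X Y B : Sp S} (hX : IsAlgSpace X) (hY : IsAlgSpace Y) (hB : IsAlgSpace B)
    {f : X ⟶ Y} {q : Y ⟶ B} (hs : Function.Surjective (Points.map f))
    (hf : LocP (@Flat ⊓ @LocallyOfFinitePresentation) f) (hfq : IsEtaleMor (f ≫ q)) : IsEtaleMor q :=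
  (isEtaleMor_iff_locP hY hB).2 <| locP_of_surjective_comp (W := @Flat ⊓ @LocallyOfFinitePresentation)
    (fun e g ⟨(_ : Flat e), (_ : LocallyOfFinitePresentation e)⟩ _ (_ : Etale (e ≫ g)) =>
      etale_of_fppf_comp e g) hX hY hB hs hf ((isEtaleMor_iff_locP hX hB).1 hfq)

theorem flat_lfp_of_smooth {X Y : Sp S} {f : X ⟶ Y} (hf : LocP @Smooth f) :
    LocP (@Flat ⊓ @LocallyOfFinitePresentation) f :=
  locP_mono (fun _ _ e (_ : Smooth e) => ⟨inferInstance, inferInstance⟩) hf

theorem flat_lfp_of_etale {X Y : Sp S} (hX : IsAlgSpace X) (hY : IsAlgSpace Y) {f : X ⟶ Y} (hf : IsEtaleMor f) :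
    LocP (@Flat ⊓ @LocallyOfFinitePresentation) f :=
  locP_mono (fun _ _ e (_ : Etale e) => ⟨inferInstance, inferInstance⟩) ((isEtaleMor_iff_locP hX hY).1 hf)

end Groth.Agent.AlgSpLoc
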