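import Groth.Agent.AlgSpLoc.LocalST

/-!
The locus where a morphism has a property that is etale local on the source, smooth local on the base and
stable under postcomposition with open immersions commutes with smooth base change.
-/

set_option autoImplicit false
set_option linter.unusedSectionVars false
set_option backward.isDefEq.respectTransparency false

universe u

open CategoryTheory CategoryTheory.Limits AlgebraicGeometry TopologicalSpace

namespace Groth.Agent.AlgSpLoc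

open _root_.AlgSp Groth.Agent.AlgSpc

variable {S : Scheme.{u}}

/-- The hypotheses on the property. -/
structure EtSmHyp (P : MorphismProperty (Sp S)) : Prop where
  src : IsLocalOnSource (IsEtCover (S := S)) P
  base : IsLocalOnBase (IsSmCover (S := S)) P
  post : ∀ {X Y Z : Sp S}, IsAlgSpace X → IsAlgSpace Y → IsAlgSpace Z → ∀ (f : X ⟶ Y) (j : Y ⟶ Z),
    P f → RepWith @IsOpenImmersion j → P (f ≫ j)

/-- The points of the source with an etale neighbourhood on which the morphism has `P`. -/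
def holdsLocus (P : MorphismProperty (Sp S)) {X Y : Sp S} (f : X ⟶ Y) : Set (Points X) :=
  {x | ∃ (A : Sp S) (a : A ⟶ X), IsAlgSpace A ∧ IsEtaleMor a ∧ P (a ≫ f) ∧ x ∈ Set.range (Points.map a)}

/-- The locus descends along every base change along `g`. -/
def LocusDescends (P : MorphismProperty (Sp S)) {Y' Y : Sp S} (g : Y' ⟶ Y) : Prop :=
  ∀ ⦃X X' : Sp S⦄ ⦃f : X ⟶ Y⦄ ⦃f' : X' ⟶ Y'⦄ ⦃g' : X' ⟶ X⦄, IsAlgSpace X → IsPullback g' f' f g →
    ∀ x ∈ holdsLocus P f', Points.map g' x ∈ holdsLocus P f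

variable {P : MorphismProperty (Sp S)}

theorem isOpen_holdsLocus {X Y : Sp S} (hX : IsAlgSpace X) (f : X ⟶ Y) : IsOpen (holdsLocus P f) := by
  refine isOpen_iff_forall_mem_open.2 fun x ⟨A, a, hA, ha, hP, hx⟩ => ?_
  exact ⟨_, fun z hz => ⟨A, a, hA, ha, hP, hz⟩, (isOpenMap_of_isEtaleMor hA ha).isOpen_range, hx⟩

theorem etale_of_openImm {A B : Sp S} (hA : IsAlgSpace A) (hB : IsAlgSpace B) {j : A ⟶ B}
    (hj : RepWith @IsOpenImmersion j) : IsEtaleMor j :=
  covClass_etale.openImm hA hB j hj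

variable (hP : EtSmHyp P)

include hP

theorem prop_iff_locus {X Y : Sp S} (hX : IsAlgSpace X) (hY : IsAlgSpace Y) (f : X ⟶ Y) :
    P f ↔ ∀ x, x ∈ holdsLocus P f := by
  refine ⟨fun h x => ⟨X, 𝟙 X, hX, etale_id hX, by rwa [Category.id_comp], x, Points.map_id _⟩, fun h => ?_⟩
  obtain ⟨U₀, a₀, -, ha₀s⟩ := hX.atlas
  choose A a hA ha hPa hx using fun t => h (Points.ofPt a₀ t)
  refine (hP.src A a hX hA ⟨ha, fun x => ?_⟩ f hY).2 hPa
  obtain ⟨t, rfl⟩ := surjective_ofPt ha₀s x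
  obtain ⟨v, hv⟩ := hx t
  exact ⟨t, v, hv⟩

theorem locus_bc {X Y X' Y' : Sp S} (hX : IsAlgSpace X) (hY : IsAlgSpace Y) (hY' : IsAlgSpace Y')
    {g' : X' ⟶ X} {f' : X' ⟶ Y'} {f : X ⟶ Y} {g : Y' ⟶ Y} (sq : IsPullback g' f' f g)
    (hg : LocP @Smooth g) {x : Points X'} (hx : Points.map g' x ∈ holdsLocus P f) :
    x ∈ holdsLocus P f' := by
  obtain ⟨A, a, hA, ha, hPa, v, hv⟩ := hx
  have hX' := isAlgSpace_of_isPullback hX hY hY' sq
  have sA := IsPullback.of_hasPullback a g'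
  have hA' := isAlgSpace_of_isPullback hA hX hX' sA
  obtain ⟨z, -, hz⟩ := exists_point_of_isPullback sA v x hv
  exact ⟨_, pullback.snd a g', hA', covClass_etale.bc hA hX hX' sA ha,
    prop_bc_of_local covClass_smooth hP.base hA hY hY' (sA.paste_vert sq) hg hPa, z, hz⟩

theorem descends_comp {Y'' Y' Y : Sp S} (hY : IsAlgSpace Y) (hY' : IsAlgSpace Y') {g₁ : Y'' ⟶ Y'} {g₂ : Y' ⟶ Y}
    (h₁ : LocusDescends P g₁) (h₂ : LocusDescends P g₂) : LocusDescends P (g₁ ≫ g₂) := by
  intro X X'' f f'' g' hX sq x hx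
  have sq₂ := IsPullback.of_hasPullback f g₂
  have hX' := isAlgSpace_of_isPullback hX hY hY' sq₂
  let k := sq₂.lift g' (f'' ≫ g₁) (by rw [Category.assoc]; exact sq.w)
  have sq₁ : IsPullback k f'' (pullback.snd f g₂) g₁ :=
    IsPullback.of_right (by rw [sq₂.lift_fst]; exact sq) (sq₂.lift_snd _ _ _) sq₂
  have := h₂ hX sq₂ _ (h₁ hX' sq₁ x hx)
  rwa [← Points.map_comp, sq₂.lift_fst] at this

theorem descends_openImm {Y' Y : Sp S} (hY : IsAlgSpace Y) (hY' : IsAlgSpace Y') {j : Y' ⟶ Y}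
    (hj : RepWith @IsOpenImmersion j) : LocusDescends P j := by
  intro X X' f f' g' hX sq x ⟨A, a, hA, ha, hPa, v, hv⟩
  have hX' := isAlgSpace_of_isPullback hX hY hY' sq
  refine ⟨A, a ≫ g', hA, covClass_etale.comp hA hX' hX _ _ ha
    (etale_of_openImm hX' hX (repWith_of_isPullback sq.flip hj)), ?_, v, ?_⟩
  · rw [Category.assoc, sq.w, ← Category.assoc]
    exact hP.post hA hY' hY _ _ hPa hj
  · rw [Points.map_comp, hv]

/-- Descent may be checked after a jointly surjective family of smooth morphisms. -/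
theorem descends_of_family {Y' Y : Sp S} (hY : IsAlgSpace Y) (hY' : IsAlgSpace Y') {g : Y' ⟶ Y}
    (h : ∀ y : Points Y', ∃ (W : Sp S) (e : W ⟶ Y'), IsAlgSpace W ∧ LocP @Smooth e ∧
      y ∈ Set.range (Points.map e) ∧ LocusDescends P (e ≫ g)) : LocusDescends P g := by
  intro X X' f f' g' hX sq x hx
  obtain ⟨W, e, hW, he, ⟨w, hw⟩, hd⟩ := h (Points.map f' x)
  have hX' := isAlgSpace_of_isPullback hX hY hY' sq
  have sW := IsPullback.of_hasPullback f' e
  obtain ⟨z, hz, -⟩ := exists_point_of_isPullback sW x w hw.symm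
  have := hd hX (sW.paste_horiz sq) z (locus_bc hP hX' hY' hW sW he (by rwa [hz]))
  rwa [Points.map_comp, hz] at this

/-- If the loci of all base changes along the smooth `g` are saturated, the locus descends along `g`. -/
theorem descends_of_saturated {Y' Y : Sp S} (hY : IsAlgSpace Y) (hY' : IsAlgSpace Y') {g : Y' ⟶ Y}
    (hg : LocP @Smooth g)
    (h : ∀ {X X' : Sp S} {f : X ⟶ Y} {f' : X' ⟶ Y'} {g' : X' ⟶ X}, IsAlgSpace X → IsPullback g' f' f g →
      ∀ x₁ x₂, Points.map g' x₁ = Points.map g' x₂ → x₁ ∈ holdsLocus P f' → x₂ ∈ holdsLocus P f') :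
    LocusDescends P g := by
  intro X X' f f' g' hX sq x hx
  have hX' := isAlgSpace_of_isPullback hX hY hY' sq
  have hg' : LocP @Smooth g' := covClass_smooth.bc hY' hY hX sq.flip hg
  obtain ⟨X₀, jX, hjX, hrX⟩ := exists_openSubspace ⟨X, hX⟩
    (covClass_smooth.isOpenMap hX' hX g' hg' _ (isOpen_holdsLocus hX' f'))
  obtain ⟨Y₀, jY, hjY, hrY⟩ := exists_openSubspace ⟨Y, hY⟩
    (covClass_smooth.isOpenMap hY' hY g hg).isOpen_range
  have : Mono jY.hom := mono_of_repWith (fun _ _ e (_ : IsOpenImmersion e) => inferInstance) hjY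
  obtain ⟨g₀, hg₀⟩ := exists_lift_openImm hjY g hrY.ge
  obtain ⟨f₀, hf₀⟩ := exists_lift_openImm hjY (jX.hom ≫ f) (by
    rintro _ ⟨w, rfl⟩
    obtain ⟨v, -, hv⟩ := hrX.le ⟨w, rfl⟩
    rw [hrY]
    exact ⟨Points.map f' v, by rw [← Points.map_comp, ← sq.w, Points.map_comp, hv, Points.map_comp]⟩)
  have sqm : IsPullback (𝟙 Y') g₀ g jY.hom :=
    ⟨⟨by rw [Category.id_comp, hg₀]⟩, ⟨PullbackCone.IsLimit.mk (by rw [Category.id_comp, hg₀])
      (fun s => s.fst) (fun s => Category.comp_id _)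
      (fun s => by rw [← cancel_mono jY.hom, Category.assoc, hg₀]; exact s.condition)
      (fun s m h _ => by simpa using h)⟩⟩
  have hsm₀ : LocP @Smooth g₀ := covClass_smooth.bc hY' hY Y₀.property sqm hg
  have sP := IsPullback.of_hasPullback jX.hom g'
  have hP' := isAlgSpace_of_isPullback X₀.property hX hX' sP
  let a' := pullback.snd jX.hom g'
  have ha' : IsEtaleMor a' := covClass_etale.bc X₀.property hX hX' sP (etale_of_openImm X₀.property hX hjX)
  have hPa : P (a' ≫ f') := by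
    refine (prop_iff_locus hP hP' hY' _).2 fun z => ?_
    have hz : Points.map a' z ∈ holdsLocus P f' := by
      obtain ⟨v, hv, hv'⟩ := hrX.le ⟨Points.map (pullback.fst jX.hom g') z, rfl⟩
      refine h hX sq v _ ?_ hv
      rw [hv', ← Points.map_comp, sP.w, Points.map_comp]
    obtain ⟨A, a, hA, ha, hPA, w, hw⟩ := hz
    have sB := IsPullback.of_hasPullback a a'
    have hB := isAlgSpace_of_isPullback hA hX' hP' sB
    obtain ⟨b, -, hb⟩ := exists_point_of_isPullback sB w z hw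
    refine ⟨_, pullback.snd a a', hB, covClass_etale.bc hA hX' hP' sB ha, ?_, b, hb⟩
    rw [← Category.assoc, ← sB.w, Category.assoc]
    exact precomp_of_localOnSource covClass_etale hP.src hB hA hY' _ _
      (covClass_etale.bc hP' hX' hA sB.flip ha') hPA
  have sq₀ : IsPullback (pullback.fst jX.hom g') (a' ≫ f') f₀ g₀ := by
    have sqX : IsPullback (𝟙 X₀.obj) f₀ (jX.hom ≫ f) jY.hom :=
      ⟨⟨by rw [Category.id_comp, hf₀]⟩, ⟨PullbackCone.IsLimit.mk (by rw [Category.id_comp, hf₀])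
        (fun s => s.fst) (fun s => Category.comp_id _)
        (fun s => by rw [← cancel_mono jY.hom, Category.assoc, hf₀]; exact s.condition)
        (fun s m h _ => by simpa using h)⟩⟩
    refine IsPullback.of_right ?_ ?_ sqX
    · rw [Category.comp_id, hg₀]; exact sP.paste_vert sq
    · rw [← cancel_mono jY.hom, Category.assoc, hf₀, Category.assoc, hg₀, ← Category.assoc, sP.w,
        Category.assoc, sq.w, Category.assoc]
  have hPf₀ : P f₀ := (hP.base (ι := PUnit.{u + 1}) (fun _ => Y') (fun _ => g₀) Y₀.property (fun _ => hY')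
    ⟨fun _ => hsm₀, fun y => by
      obtain ⟨v, hv⟩ := hrY.le ⟨y, rfl⟩
      refine ⟨⟨⟩, v, injective_map_of_sq (f := jY.hom) (fun T b => ?_) ?_⟩
      · obtain ⟨V, fst, snd, sqj⟩ := exists_sq hjY.1 b
        have : IsOpenImmersion snd.left := hjY.2 _ _ _ sqj
        exact ⟨V, fst, snd, sqj, snd.left.isOpenEmbedding.injective⟩
      · rw [← Points.map_comp, hg₀]; exact hv⟩
    f₀ X₀.property (fun _ => _) (fun _ => a' ≫ f') (fun _ => pullback.fst jX.hom g') (fun _ => hP')
    (fun _ => sq₀)).2 fun _ => hPa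
  refine ⟨X₀.obj, jX.hom, X₀.property, etale_of_openImm X₀.property hX hjX, ?_, hrX.ge ⟨x, hx, rfl⟩⟩
  rw [← hf₀]
  exact hP.post X₀.property Y₀.property hY _ _ hPf₀ hjY

/-- Descent along a smooth morphism follows from descent along a projection of its self fibre product. -/
theorem descends_of_kernel {Y' Y R : Sp S} (hY : IsAlgSpace Y) (hY' : IsAlgSpace Y') {g : Y' ⟶ Y}
    (hg : LocP @Smooth g) {p₁ p₂ : R ⟶ Y'} (sR : IsPullback p₁ p₂ g g) (h : LocusDescends P p₂) :
    LocusDescends P g := by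
  refine descends_of_saturated hP hY hY' hg fun {X X' f f' g'} hX sq x₁ x₂ he hx => ?_
  have hX' := isAlgSpace_of_isPullback hX hY hY' sq
  have hR := isAlgSpace_of_isPullback hY' hY hY' sR
  have sA := IsPullback.of_hasPullback g' g'
  let q := sR.lift (pullback.fst g' g' ≫ f') (pullback.snd g' g' ≫ f') (by
    rw [Category.assoc, Category.assoc, ← sq.w, ← Category.assoc, sA.w, Category.assoc])
  have hpp : IsPullback (pullback.fst g' g') (pullback.snd g' g' ≫ f') (f' ≫ g) g := by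
    rw [← sq.w]; exact sA.paste_vert sq
  have hpp' : IsPullback (pullback.snd g' g') (pullback.fst g' g' ≫ f') (f' ≫ g) g := by
    rw [← sq.w]; exact sA.flip.paste_vert sq
  have s₁ : IsPullback (pullback.fst g' g') q f' p₁ :=
    IsPullback.of_bot (by rw [sR.lift_snd]; exact hpp) (sR.lift_fst _ _ _).symm sR
  have s₂ : IsPullback (pullback.snd g' g') q f' p₂ :=
    IsPullback.of_bot (by rw [sR.lift_fst]; exact hpp') (sR.lift_snd _ _ _).symm sR.flip
  obtain ⟨z, hz₁, hz₂⟩ := exists_point_of_isPullback sA x₁ x₂ he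
  rw [← hz₂]
  exact h hX' s₂ z (locus_bc hP hX' hY' hR s₁ (covClass_smooth.bc hY' hY hY' sR.flip hg) (by rwa [hz₁]))

/-- The point of the locus is found through a correspondence. -/
theorem mem_locus_of_pair {Y' Y X X' R : Sp S} (hY : IsAlgSpace Y) (hY' : IsAlgSpace Y') (hX : IsAlgSpace X)
    (hR : IsAlgSpace R) {g : Y' ⟶ Y} {f : X ⟶ Y} {f' : X' ⟶ Y'} {g' : X' ⟶ X} (sq : IsPullback g' f' f g)
    {r₁ r₂ : R ⟶ Y'} (hr : r₁ ≫ g = r₂ ≫ g) (h₁ : LocP @Smooth r₁) (h₂ : LocusDescends P r₂)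
    {T : Over S} (l m : (yon S).obj T ⟶ X') (r : (yon S).obj T ⟶ R) (hl : l ≫ f' = r ≫ r₂)
    (hm₁ : m ≫ g' = l ≫ g') (hm₂ : m ≫ f' = r ≫ r₁) (t : ↥T.left)
    (hx : Points.ofPt m t ∈ holdsLocus P f') : Points.ofPt l t ∈ holdsLocus P f' := by
  have hX' := isAlgSpace_of_isPullback hX hY hY' sq
  have sB := IsPullback.of_hasPullback f' r₂
  let b₁ := sq.lift (pullback.fst f' r₂ ≫ g') (pullback.snd f' r₂ ≫ r₁) (by
    rw [Category.assoc, Category.assoc, hr, sq.w, ← Category.assoc, sB.w, Category.assoc])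
  have s₁ : IsPullback b₁ (pullback.snd f' r₂) f' r₁ :=
    IsPullback.of_right (by rw [sq.lift_fst, hr]; exact sB.paste_horiz sq) (sq.lift_snd _ _ _) sq
  let z := sB.lift l r hl
  have hz : z ≫ b₁ = m := sq.hom_ext
    (by rw [Category.assoc, sq.lift_fst, sB.lift_fst_assoc, hm₁])
    (by rw [Category.assoc, sq.lift_snd, sB.lift_snd_assoc, hm₂])
  have hmem : Points.ofPt z t ∈ holdsLocus P (pullback.snd f' r₂) :=
    locus_bc hP hX' hY' hR s₁ h₁ (by rwa [Points.map_ofPt, hz])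
  have := h₂ hX' sB _ hmem
  rwa [Points.map_ofPt, sB.lift_fst] at this

end Groth.Agent.AlgSpLoc
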