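import Groth.Agent.AlgSpLoc.EtSmDescent
import Mathlib.RingTheory.Unramified.LocalStructure
import Mathlib.RingTheory.RingHom.Etale
import Mathlib.RingTheory.PolynomialAlgebra
import Mathlib.FieldTheory.IsAlgClosed.Basic
import Mathlib.FieldTheory.Separable
import Mathlib.AlgebraicGeometry.Morphisms.Etale

/-!
The locus of a property that is etale local on the source, smooth local on the base and stable under
postcomposition with open immersions descends along smooth morphisms of algebraic spaces.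
-/

set_option autoImplicit false
set_option linter.unusedSectionVars false
set_option backward.isDefEq.respectTransparency false

universe u

open CategoryTheory CategoryTheory.Limits AlgebraicGeometry TopologicalSpace Polynomial

namespace Groth.Agent.AlgSpLoc

open _root_.AlgSp Groth.Agent.AlgSpc

variable {S : Scheme.{u}}

/-- The locus descends along the scheme morphism `g`, whatever the structure morphism to `S`. -/
def SchDescends (P : MorphismProperty (Sp S)) {Y' Y : Scheme.{u}} (g : Y' ⟶ Y) : Prop :=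
  ∀ (s : Y ⟶ S) (s' : Y' ⟶ S) (h : g ≫ s = s'),
    LocusDescends P ((yon S).map (Over.homMk g h : Over.mk s' ⟶ Over.mk s))

theorem locP_smooth_yon_map {A B : Over S} (g : A ⟶ B) [Smooth g.left] : LocP @Smooth ((yon S).map g) :=
  locP_of_repWith (fun e f (_ : Etale e) (_ : Smooth f) => inferInstanceAs (Smooth (e ≫ f)))
    ((repWith_yon_map_iff _ _).2 ‹_›)

theorem isPullback_over {A B C D : Over S} {a : A ⟶ B} {b : A ⟶ C} {c : B ⟶ D} {d : C ⟶ D}
    (h : IsPullback a.left b.left c.left d.left) : IsPullback a b c d :=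
  IsPullback.of_map (Over.forget S) (Over.OverMorphism.ext h.w) h

variable {P : MorphismProperty (Sp S)} (hP : EtSmHyp P)

set_option maxHeartbeats 1600000

include hP

theorem sch_comp {A B C : Scheme.{u}} {f : A ⟶ B} {g : B ⟶ C} (hf : SchDescends P f) (hg : SchDescends P g) :
    SchDescends P (f ≫ g) := by
  intro s s' h
  let gO : Over.mk (g ≫ s) ⟶ Over.mk s := Over.homMk g rfl
  let fO : Over.mk s' ⟶ Over.mk (g ≫ s) := Over.homMk f (by simpa using h)
  rw [show (Over.homMk (f ≫ g) h : Over.mk s' ⟶ Over.mk s) = fO ≫ gO from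
      Over.OverMorphism.ext rfl, Functor.map_comp]
  exact descends_comp hP (IsAlgSpace.yon_obj _) (IsAlgSpace.yon_obj _) (hf _ _ _) (hg _ _ _)

theorem sch_openImm {A B : Scheme.{u}} (f : A ⟶ B) [IsOpenImmersion f] : SchDescends P f := fun _ _ _ =>
  descends_openImm hP (IsAlgSpace.yon_obj _) (IsAlgSpace.yon_obj _) ((repWith_yon_map_iff _ _).2 ‹_›)

theorem sch_family {Y' Y : Scheme.{u}} (g : Y' ⟶ Y)
    (h : ∀ y : Y', ∃ (W : Scheme.{u}) (e : W ⟶ Y'), Smooth e ∧ y ∈ Set.range e ∧ SchDescends P (e ≫ g)) :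
    SchDescends P g := by
  intro s s' hs
  have hY : IsAlgSpace ((yon S).obj (Over.mk s)) := IsAlgSpace.yon_obj _
  refine descends_of_family hP hY (IsAlgSpace.yon_obj _) fun y => ?_
  obtain ⟨t, rfl⟩ := (Points.schemeEquiv _).surjective y
  obtain ⟨W, e, he, ⟨w, hw⟩, hd⟩ := h t
  let e' : Over.mk (e ≫ s') ⟶ Over.mk s' := Over.homMk e rfl
  have : Smooth e'.left := he
  refine ⟨_, (yon S).map e', IsAlgSpace.yon_obj _, locP_smooth_yon_map e', ⟨Points.ofScheme _ w, ?_⟩, ?_⟩
  · rw [← Points.ofPt_eq_map_ofScheme, ← Points.ofScheme_toScheme (Over.mk s') (Points.ofPt _ _),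
      Points.toScheme_ofPt]
    exact congrArg (Points.ofScheme (Over.mk s')) hw
  · rw [← Functor.map_comp, show e' ≫ (Over.homMk g hs : Over.mk s' ⟶ Over.mk s) =
      Over.homMk (e ≫ g) (by simp [hs]) from Over.OverMorphism.ext rfl]
    exact hd _ _ _

/-- Descent along separated etale morphisms with at most `n` geometric points in each fibre. -/
theorem sch_etale_bdd : ∀ (n : ℕ) {Y' Y : Scheme.{u}} (g : Y' ⟶ Y) [Etale g] [IsSeparated g],
    (∀ (K : Type u) [Field K] [IsAlgClosed K] (l : Fin (n + 1) → (Spec (.of K) ⟶ Y')),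
      (∀ i, l i ≫ g = l 0 ≫ g) → ∃ i j, i ≠ j ∧ l i = l j) → SchDescends P g
  | 0, Y', Y, g, _, _, hn => by
    refine sch_family hP g fun y => ?_
    let Ω := AlgebraicClosure (Y'.residueField y)
    obtain ⟨i, j, hij, -⟩ := hn Ω (fun _ =>
      Spec.map (CommRingCat.ofHom (algebraMap (Y'.residueField y) Ω)) ≫ Y'.fromSpecResidueField y) fun _ => rfl
    exact absurd (Subsingleton.elim (α := Fin 1) i j) hij
  | n + 1, Y', Y, g, _, _, hn => by
    intro s s' hs
    subst hs
    let g₀ : Over.mk (g ≫ s) ⟶ Over.mk s := Over.homMk g rfl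
    let R : Over S := Over.mk (pullback.fst g g ≫ g ≫ s)
    let p₁ : R ⟶ Over.mk (g ≫ s) := Over.homMk (pullback.fst g g) rfl
    let p₂ : R ⟶ Over.mk (g ≫ s) := Over.homMk (pullback.snd g g) (by simp [R, pullback.condition_assoc])
    have sR : IsPullback p₁ p₂ g₀ g₀ := isPullback_over (IsPullback.of_hasPullback g g)
    have : Smooth g₀.left := inferInstanceAs (Smooth g)
    refine descends_of_kernel hP (IsAlgSpace.yon_obj _) (IsAlgSpace.yon_obj _) (locP_smooth_yon_map g₀)
      (sR.map (yon S)) ?_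
    refine sch_family hP (pullback.snd g g) (fun z => ?_) (g ≫ s) _ p₂.w
    by_cases hz : z ∈ Set.range (pullback.diagonal g)
    · refine ⟨Y', pullback.diagonal g, inferInstance, hz, ?_⟩
      rw [show pullback.diagonal g ≫ pullback.snd g g = 𝟙 Y' by simp]
      exact sch_openImm hP _
    · let O : (pullback g g).Opens :=
        ⟨(Set.range (pullback.diagonal g))ᶜ, (pullback.diagonal g).isClosedEmbedding.isClosed_range.isOpen_compl⟩
      refine ⟨O, O.ι, inferInstance, ?_, sch_etale_bdd n (O.ι ≫ pullback.snd g g) fun K _ _ l hl => ?_⟩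
      · rw [Scheme.Opens.range_ι]; exact hz
      let b := l 0 ≫ O.ι ≫ pullback.snd g g
      obtain ⟨i, j, hij, e⟩ := hn K (Fin.cons b fun i => l i ≫ O.ι ≫ pullback.fst g g) fun i => by
        refine Fin.cases rfl (fun k => ?_) i
        simp only [Fin.cons_succ, Fin.cons_zero, Category.assoc]
        rw [pullback.condition]
        simp only [← Category.assoc]
        exact congrArg (· ≫ g) (by simpa [b] using hl k)
      have hne : ∀ k, b ≠ l k ≫ O.ι ≫ pullback.fst g g := fun k hk => by
        have e : (l k ≫ O.ι) = b ≫ pullback.diagonal g := by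
          apply pullback.hom_ext
          · simp [hk]
          · simpa [b] using hl k
        refine ((Set.range_comp_subset_range _ O.ι |>.trans (Scheme.Opens.range_ι O).le)
          ⟨IsLocalRing.closedPoint K, rfl⟩ : (O.ι ∘ (l k)) _ ∈ _) ?_
        change (l k ≫ O.ι) (IsLocalRing.closedPoint K) ∈ _
        rw [e]
        exact ⟨b _, rfl⟩
      revert hij e
      refine Fin.cases ?_ (fun i' => ?_) i <;> refine Fin.cases ?_ (fun j' => ?_) j <;>
        simp only [Fin.cons_succ, Fin.cons_zero] <;> intro hij e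
      · exact absurd rfl hij
      · exact absurd e (hne _)
      · exact absurd e.symm (hne _)
      · refine ⟨i', j', fun h => hij (by rw [h]), ?_⟩
        rw [← cancel_mono O.ι]
        refine pullback.hom_ext (by simpa using e) ?_
        have := (hl i').trans (hl j').symm
        simpa using this

/-- Descent along standard etale ring maps. -/
theorem sch_standardEtale (A B : Type u) [CommRing A] [CommRing B] [Algebra A B] [Algebra.IsStandardEtale A B] :
    SchDescends P (Spec.map (CommRingCat.ofHom (algebraMap A B))) := by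
  obtain ⟨Q⟩ := Algebra.IsStandardEtale.nonempty_standardEtalePresentation (R := A) (S := B)
  have : Etale (Spec.map (CommRingCat.ofHom (algebraMap A B))) :=
    (HasRingHomProperty.Spec_iff (P := @Etale)).2 (RingHom.etale_algebraMap.2 inferInstance)
  refine sch_etale_bdd hP Q.f.natDegree _ fun K _ _ l hl => ?_
  let φ := fun i => Spec.preimage (l i)
  let y : A →+* K := (φ 0).hom.comp (algebraMap A B)
  let _ := y.toAlgebra
  have hy : ∀ i a, (φ i).hom (algebraMap A B a) = y a := fun i a => by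
    have : CommRingCat.ofHom (algebraMap A B) ≫ φ i = CommRingCat.ofHom (algebraMap A B) ≫ φ 0 :=
      Spec.map_injective (by simp only [Spec.map_comp, φ, Spec.map_preimage]; exact hl i)
    exact congr($(this) a)
  let ψ : Fin (Q.f.natDegree + 1) → (B →ₐ[A] K) := fun i => { (φ i).hom with commutes' := hy i }
  classical
  have hf : Q.f.map (algebraMap A K) ≠ 0 := (Q.monic_f.map _).ne_zero
  have hroot : ∀ i, ψ i Q.x ∈ (Q.f.map (algebraMap A K)).roots.toFinset := fun i => by
    rw [Multiset.mem_toFinset, mem_roots hf, IsRoot, eval_map_algebraMap, aeval_algHom_apply,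
      Q.hasMap.1, map_zero]
  obtain ⟨i, -, j, -, hij, e⟩ := Finset.exists_ne_map_eq_of_card_lt_of_maps_to
    (s := (Finset.univ : Finset (Fin (Q.f.natDegree + 1)))) (t := (Q.f.map (algebraMap A K)).roots.toFinset)
    (f := fun i => ψ i Q.x) (by
      simp only [Finset.card_univ, Fintype.card_fin]
      exact lt_of_le_of_lt ((Multiset.toFinset_card_le _).trans ((card_roots' _).trans natDegree_map_le))
        (Nat.lt_succ_self _)) fun i _ => hroot i
  refine ⟨i, j, hij, ?_⟩
  have : φ i = φ j := CommRingCat.hom_ext (congrArg AlgHom.toRingHom (Q.hom_ext (f₁ := ψ i) (f₂ := ψ j) e))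
  rw [← Spec.map_preimage (l i), ← Spec.map_preimage (l j)]
  exact congrArg Spec.map this

/-- Descent along etale ring maps. -/
theorem sch_etale_ring {A B : Type u} [CommRing A] [CommRing B] [Algebra A B] [Algebra.Etale A B] :
    SchDescends P (Spec.map (CommRingCat.ofHom (algebraMap A B))) := by
  refine sch_family hP _ fun y => ?_
  obtain ⟨f, hf, hst⟩ := Algebra.IsEtaleAt.exists_isStandardEtale (R := A) y.asIdeal
  refine ⟨_, Spec.map (CommRingCat.ofHom (algebraMap B (Localization.Away f))), inferInstance, ?_, ?_⟩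
  · exact (PrimeSpectrum.localization_away_comap_range (Localization.Away f) f).ge hf
  · rw [← Spec.map_comp, ← CommRingCat.ofHom_comp, ← IsScalarTower.algebraMap_eq]
    exact sch_standardEtale hP _ _

/-- Descent along the affine line over an affine scheme. -/
theorem sch_line (A : Type u) [CommRing A] : SchDescends P (Spec.map (CommRingCat.ofHom (C : A →+* A[X]))) := by
  intro s s' hs
  subst hs
  let cA : Over.mk (Spec.map (CommRingCat.ofHom (C : A →+* A[X])) ≫ s) ⟶ Over.mk s := Over.homMk _ rfl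
  have : Smooth cA.left := (HasRingHomProperty.Spec_iff (P := @Smooth)).2 (by
    change RingHom.Smooth (algebraMap A A[X])
    exact RingHom.smooth_algebraMap.2 ⟨inferInstance, inferInstance⟩)
  refine descends_of_saturated hP (IsAlgSpace.yon_obj _) (IsAlgSpace.yon_obj _) (locP_smooth_yon_map cA)
    fun {F F' f f' g'} hX sq x₁ x₂ he hx₁ => ?_
  have hX' := isAlgSpace_of_isPullback hX (IsAlgSpace.yon_obj _) (IsAlgSpace.yon_obj _) sq
  obtain ⟨z, hz₁, hz₂⟩ := exists_point_of_isPullback (IsPullback.of_hasPullback g' g') x₁ x₂ he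
  induction z using Points.ind with
  | h p =>
  let Kb := AlgebraicClosure p.K
  let T : Over S := Over.mk (Spec.map (CommRingCat.ofHom (algebraMap p.K Kb)) ≫ p.pt.hom)
  let j : T ⟶ p.pt := Over.homMk (Spec.map (CommRingCat.ofHom (algebraMap p.K Kb))) rfl
  let t : ↥T.left := IsLocalRing.closedPoint Kb
  let l₁ := ((yon S).map j ≫ p.toHom) ≫ pullback.fst g' g'
  let l₂ := ((yon S).map j ≫ p.toHom) ≫ pullback.snd g' g'
  have hl₁ : Points.ofPt l₁ t = x₁ := by
    rw [← Points.map_ofPt, ofPt_comp, ← hz₁, Points.ofPt_toHom]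
  have hl₂ : Points.ofPt l₂ t = x₂ := by
    rw [← Points.map_ofPt, ofPt_comp, ← hz₂, Points.ofPt_toHom]
  have hl : l₁ ≫ g' = l₂ ≫ g' := by simp [l₁, l₂, pullback.condition]
  rw [← hl₂]
  let φ₁ : A[X] →+* Kb := (Spec.preimage (pre (l₁ ≫ f')).left).hom
  let φ₂ : A[X] →+* Kb := (Spec.preimage (pre (l₂ ≫ f')).left).hom
  have hφ : φ₁.comp C = φ₂.comp C := by
    have e : pre (l₁ ≫ f') ≫ cA = pre (l₂ ≫ f') ≫ cA := (yon S).map_injective (by
      have e1 : ∀ l : (yon S).obj T ⟶ F', (l ≫ f') ≫ (yon S).map cA = (l ≫ g') ≫ f := fun l => by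
        rw [Category.assoc, Category.assoc, sq.w]
      rw [Functor.map_comp, map_pre, Functor.map_comp, map_pre, e1, e1, hl])
    have e' := congrArg CommaMorphism.left e
    have e₂ : CommRingCat.ofHom (C : A →+* A[X]) ≫ Spec.preimage (pre (l₁ ≫ f')).left =
        CommRingCat.ofHom (C : A →+* A[X]) ≫ Spec.preimage (pre (l₂ ≫ f')).left :=
      Spec.map_injective (by
        simp only [Spec.map_comp, Spec.map_preimage]
        exact e')
    exact congrArg CommRingCat.Hom.hom e₂
  let y : A →+* Kb := φ₂.comp C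
  let _ := y.toAlgebra
  -- the affine line over the geometric point
  let T₁ : Over S := Over.mk (Spec.map (CommRingCat.ofHom (C : Kb →+* Kb[X])) ≫ T.hom)
  let pr : T₁ ⟶ T := Over.homMk (Spec.map (CommRingCat.ofHom (C : Kb →+* Kb[X]))) rfl
  have hTy : Spec.map (CommRingCat.ofHom y) ≫ s = T.hom := by
    have := (pre (l₂ ≫ f')).w
    simp only [Over.mk_hom, Over.mk_left] at this
    rw [← this]
    simp [y, φ₂, CommRingCat.ofHom_comp, Spec.map_comp, Spec.map_preimage]
  let k : T₁ ⟶ Over.mk (Spec.map (CommRingCat.ofHom (C : A →+* A[X])) ≫ s) :=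
    Over.homMk (Spec.map (CommRingCat.ofHom (mapRingHom y))) (by
      change Spec.map (CommRingCat.ofHom (mapRingHom y)) ≫ Spec.map (CommRingCat.ofHom (C : A →+* A[X])) ≫ s =
        Spec.map (CommRingCat.ofHom (C : Kb →+* Kb[X])) ≫ T.hom
      rw [← hTy, ← Spec.map_comp_assoc, ← Spec.map_comp_assoc, ← CommRingCat.ofHom_comp, ← CommRingCat.ofHom_comp,
        mapRingHom_comp_C])
  have hk : ((yon S).map pr ≫ l₂ ≫ g') ≫ f = (yon S).map k ≫ (yon S).map cA := by
    rw [show ((yon S).map pr ≫ l₂ ≫ g') ≫ f = (yon S).map pr ≫ (l₂ ≫ f') ≫ (yon S).map cA by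
        simp only [Category.assoc]; rw [sq.w],
      ← map_pre (l₂ ≫ f'), ← Functor.map_comp, ← Functor.map_comp, ← Functor.map_comp]
    congr 1
    apply Over.OverMorphism.ext
    simp only [Over.comp_left, k, pr, cA, Over.homMk_left]
    rw [← Spec.map_preimage (pre (l₂ ≫ f')).left, ← Spec.map_comp, ← Spec.map_comp, ← Spec.map_comp]
    congr 1
    ext a
    simp [y, φ₂]
  let w := sq.lift ((yon S).map pr ≫ l₂ ≫ g') ((yon S).map k) hk
  let sect : Kb → (T ⟶ T₁) := fun c => Over.homMk (Spec.map (CommRingCat.ofHom (evalRingHom c))) (by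
    change Spec.map (CommRingCat.ofHom (evalRingHom c)) ≫ Spec.map (CommRingCat.ofHom (C : Kb →+* Kb[X])) ≫ T.hom =
      T.hom
    rw [← Spec.map_comp_assoc, ← CommRingCat.ofHom_comp,
      show (evalRingHom c).comp C = RingHom.id Kb by ext; simp, CommRingCat.ofHom_id, Spec.map_id, Category.id_comp])
  have hsect : ∀ c, sect c ≫ pr = 𝟙 T := fun c => Over.OverMorphism.ext (by
    simp only [Over.comp_left, sect, pr, Over.homMk_left, Over.id_left]
    rw [← Spec.map_comp, ← CommRingCat.ofHom_comp,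
      show (evalRingHom c).comp C = RingHom.id Kb by ext; simp]
    exact Spec.map_id _)
  -- the coordinate of the first point
  have hm : l₁ = (yon S).map (sect (φ₁ X)) ≫ w := sq.hom_ext
    (by rw [Category.assoc ((yon S).map (sect _)), sq.lift_fst, ← Category.assoc ((yon S).map (sect _)), ← Functor.map_comp, hsect, hl]; simp)
    (by
      rw [Category.assoc ((yon S).map (sect _)), sq.lift_snd, ← Functor.map_comp, ← map_pre (l₁ ≫ f')]
      congr 1
      apply Over.OverMorphism.ext
      simp only [Over.comp_left, k, sect, Over.homMk_left]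
      rw [← Spec.map_preimage (pre (l₁ ≫ f')).left, ← Spec.map_comp]
      congr 1
      ext a
      · simp only [CommRingCat.hom_comp, CommRingCat.hom_ofHom, RingHom.comp_apply, coe_mapRingHom, map_C,
          coe_evalRingHom, eval_C]
        exact congr($hφ a)
      · simp [φ₁])
  -- the good coordinates form a cofinite set
  let U : Set ↥T₁.left := Points.ofPt w ⁻¹' holdsLocus P f'
  have hU : IsOpen U := (isOpen_holdsLocus hX' f').preimage (Points.continuous_ofPt w)
  have hU₁ : (sect (φ₁ X)).left t ∈ U := by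
    refine Set.mem_preimage.2 ?_
    rwa [← ofPt_comp, ← hm, hl₁]
  obtain ⟨_, ⟨p₀, rfl⟩, hp₀, hpU⟩ :=
    PrimeSpectrum.isTopologicalBasis_basic_opens.exists_subset_of_mem_open hU₁ hU
  have hgood : ∀ c, eval c p₀ ≠ 0 → Points.ofPt ((yon S).map (sect c) ≫ w) t ∈ holdsLocus P f' := by
    intro c hc
    rw [ofPt_comp]
    refine hpU fun hmem => hc ?_
    change p₀ ∈ Ideal.comap (evalRingHom c) (IsLocalRing.maximalIdeal Kb) at hmem
    simpa [IsLocalRing.maximalIdeal_eq_bot] using hmem
  have hp₀' : p₀ ≠ 0 := fun h => hp₀ (by simp [h])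
  obtain ⟨N, hN, hNp⟩ := Nat.exists_infinite_primes (max (p₀.natDegree + 1) (ringChar Kb + 1))
  have hN0 : (N : Kb) ≠ 0 := fun h => by
    rcases (Nat.dvd_prime hNp).1 ((ringChar.spec Kb N).1 h) with h1 | h1
    · exact CharP.ringChar_ne_one h1
    · have := le_trans (le_max_right _ _) hN; omega
  classical
  obtain ⟨ζ, hζ, hζp⟩ : ∃ ζ : Kb, ζ ^ N = 1 ∧ eval (φ₂ X + ζ) p₀ ≠ 0 := by
    by_contra hcon
    simp only [not_exists, not_and, not_not] at hcon
    have hc : Fintype.card ((Polynomial.X ^ N - C (1 : Kb)).rootSet Kb) = N := by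
      rw [card_rootSet_eq_natDegree (separable_X_pow_sub_C _ hN0 one_ne_zero) (IsAlgClosed.splits _),
        natDegree_X_pow_sub_C]
    let e : ((Polynomial.X ^ N - C (1 : Kb)).rootSet Kb) → p₀.roots.toFinset := fun r => ⟨φ₂ X + r.1, by
      rw [Multiset.mem_toFinset, mem_roots hp₀']
      refine hcon r.1 ?_
      have := (mem_rootSet.1 r.2).2
      simpa [sub_eq_zero] using this⟩
    have h1 := Fintype.card_le_of_injective e fun a b h => Subtype.ext (by simpa [e] using congrArg Subtype.val h)
    rw [hc, Fintype.card_coe] at h1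
    have h2 := ((Multiset.toFinset_card_le _).trans (card_roots' p₀))
    have := le_trans (le_max_left _ _) hN
    omega
  -- translation by roots of unity over an etale extension
  let Q : StandardEtalePair A :=
    { f := Polynomial.X ^ N - C 1
      monic_f := monic_X_pow_sub_C _ hNp.ne_zero
      g := C (N : A)
      cond := ⟨Polynomial.X, -C (N : A), 1, by
        simp only [derivative_sub, derivative_X_pow, derivative_C, sub_zero, pow_one]
        rw [mul_assoc, ← pow_succ, Nat.sub_add_cancel hNp.one_le]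
        simp; ring⟩ }
  let _ : Algebra A[X] Q.Ring[X] := Polynomial.algebra A Q.Ring
  have hι : RingHom.Etale (mapRingHom (algebraMap A Q.Ring)) :=
    RingHom.Etale.isStableUnderBaseChange A Q.Ring A[X] Q.Ring[X] (RingHom.etale_algebraMap.2 (inferInstance : Algebra.Etale A Q.Ring))
  let r₂ : A[X] →+* Q.Ring[X] := mapRingHom (algebraMap A Q.Ring)
  let r₁ : A[X] →+* Q.Ring[X] := (algEquivAevalXAddC Q.X).toRingEquiv.toRingHom.comp r₂
  have hr : r₁.comp C = r₂.comp C := by
    ext a : 1
    simp [r₁, r₂, algEquivAevalXAddC]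
  let R : Over S := Over.mk (Spec.map (CommRingCat.ofHom r₂) ≫ Spec.map (CommRingCat.ofHom (C : A →+* A[X])) ≫ s)
  let R₂ : R ⟶ Over.mk (Spec.map (CommRingCat.ofHom (C : A →+* A[X])) ≫ s) := Over.homMk _ rfl
  let R₁ : R ⟶ Over.mk (Spec.map (CommRingCat.ofHom (C : A →+* A[X])) ≫ s) :=
    Over.homMk (Spec.map (CommRingCat.ofHom r₁)) (by
      change _ ≫ _ = Spec.map (CommRingCat.ofHom r₂) ≫ Spec.map (CommRingCat.ofHom (C : A →+* A[X])) ≫ s
      simp only [Over.mk_hom, ← Spec.map_comp_assoc, ← CommRingCat.ofHom_comp, hr])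
  have : Etale R₁.left := (HasRingHomProperty.Spec_iff (P := @Etale)).2
    (RingHom.Etale.respectsIso.1 _ (algEquivAevalXAddC Q.X).toRingEquiv hι)
  let e₀ : Q.Ring →+* Kb := (Q.lift ζ ⟨by simp [Q, hζ], by rw [show aeval ζ Q.g = (N : Kb) by simp [Q]]; exact hN0.isUnit⟩).toRingHom
  let ψ : Q.Ring[X] →+* Kb := eval₂RingHom e₀ (φ₂ X)
  have hψ₂ : ψ.comp r₂ = φ₂ := by
    ext a
    · simp [ψ, r₂, e₀, y, RingHom.algebraMap_toAlgebra]
    · simp [ψ, r₂]
  let rT : T ⟶ R := Over.homMk (Spec.map (CommRingCat.ofHom ψ)) (by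
    change Spec.map (CommRingCat.ofHom ψ) ≫ Spec.map (CommRingCat.ofHom r₂) ≫
      Spec.map (CommRingCat.ofHom (C : A →+* A[X])) ≫ s = T.hom
    rw [← hTy, ← Spec.map_comp_assoc, ← Spec.map_comp_assoc, ← CommRingCat.ofHom_comp, ← CommRingCat.ofHom_comp,
      hψ₂])
  have hl₂f : l₂ ≫ f' = (yon S).map rT ≫ (yon S).map R₂ := by
    rw [← map_pre (l₂ ≫ f'), ← Functor.map_comp]
    congr 1
    apply Over.OverMorphism.ext
    simp only [Over.comp_left, rT, R₂, Over.homMk_left, ← Spec.map_comp, ← CommRingCat.ofHom_comp, hψ₂]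
    exact (Spec.map_preimage _).symm
  have hR : (yon S).map R₁ ≫ (yon S).map cA = (yon S).map R₂ ≫ (yon S).map cA := by
    rw [← Functor.map_comp, ← Functor.map_comp]
    congr 1
    apply Over.OverMorphism.ext
    simp only [Over.comp_left, R₁, R₂, cA, Over.homMk_left, ← Spec.map_comp, ← CommRingCat.ofHom_comp, hr]
  let : Algebra A[X] Q.Ring[X] := r₂.toAlgebra
  have : Algebra.Etale A[X] Q.Ring[X] := RingHom.etale_algebraMap.1 hι
  refine mem_locus_of_pair hP (IsAlgSpace.yon_obj _) (IsAlgSpace.yon_obj _) hX (IsAlgSpace.yon_obj R) sq hR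
    (locP_smooth_yon_map R₁) (sch_etale_ring hP (A := A[X]) (B := Q.Ring[X]) _ _ rfl) l₂
    ((yon S).map (sect (φ₂ X + ζ)) ≫ w) ((yon S).map rT) hl₂f ?_ ?_ t (hgood _ hζp)
  · rw [Category.assoc, sq.lift_fst, ← Category.assoc, ← Functor.map_comp, hsect]; simp
  · rw [Category.assoc, sq.lift_snd, ← Functor.map_comp, ← Functor.map_comp]
    congr 1
    apply Over.OverMorphism.ext
    simp only [Over.comp_left, sect, k, rT, R₁, Over.homMk_left, ← Spec.map_comp, ← CommRingCat.ofHom_comp]
    congr 2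
    ext a
    · simp [ψ, r₁, r₂, e₀, y, RingHom.algebraMap_toAlgebra, algEquivAevalXAddC]
    · simp [ψ, r₁, r₂, e₀, algEquivAevalXAddC]

theorem sch_mvPolynomial (A : Type u) [CommRing A] :
    ∀ n, SchDescends P (Spec.map (CommRingCat.ofHom (algebraMap A (MvPolynomial (Fin n) A))))
  | 0 => by
    have : IsIso (CommRingCat.ofHom (algebraMap A (MvPolynomial (Fin 0) A))) :=
      (ConcreteCategory.isIso_iff_bijective _).2 (MvPolynomial.isEmptyAlgEquiv A (Fin 0)).symm.bijective
    exact sch_openImm hP _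
  | n + 1 => by
    let B := MvPolynomial (Fin n) A
    let e := (MvPolynomial.finSuccEquiv A n).symm.toRingEquiv
    have he : e.toRingHom.comp ((C : B →+* B[X]).comp (algebraMap A B)) =
        algebraMap A (MvPolynomial (Fin (n + 1)) A) :=
      RingHom.ext fun a => (MvPolynomial.finSuccEquiv A n).symm.commutes a
    rw [← he, CommRingCat.ofHom_comp, CommRingCat.ofHom_comp, Spec.map_comp, Spec.map_comp]
    have : IsIso (CommRingCat.ofHom e.toRingHom) := (ConcreteCategory.isIso_iff_bijective _).2 e.bijective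
    exact sch_comp hP (sch_openImm hP _) (sch_comp hP (sch_line hP _) (sch_mvPolynomial A n))

theorem sch_smooth_ring {A B : Type u} [CommRing A] [CommRing B] [Algebra A B] [Algebra.Smooth A B] :
    SchDescends P (Spec.map (CommRingCat.ofHom (algebraMap A B))) := by
  refine sch_family hP _ fun y => ?_
  obtain ⟨f, hf, n, _, _, hst⟩ := Algebra.IsSmoothAt.exists_isStandardEtale_mvPolynomial (R := A) (p := y.asIdeal)
  refine ⟨_, Spec.map (CommRingCat.ofHom (algebraMap B (Localization.Away f))), inferInstance, ?_, ?_⟩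
  · exact (PrimeSpectrum.localization_away_comap_range (Localization.Away f) f).ge hf
  · rw [← Spec.map_comp, ← CommRingCat.ofHom_comp, ← IsScalarTower.algebraMap_eq,
      IsScalarTower.algebraMap_eq A (MvPolynomial (Fin n) A) (Localization.Away f), CommRingCat.ofHom_comp,
      Spec.map_comp]
    exact sch_comp hP (sch_standardEtale hP _ _) (sch_mvPolynomial hP A n)

theorem sch_smooth {Y' Y : Scheme.{u}} (g : Y' ⟶ Y) [Smooth g] : SchDescends P g := by
  refine sch_family hP g fun y => ?_
  obtain ⟨_, ⟨V, hV, rfl⟩, hyV, -⟩ :=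
    Y.isBasis_affineOpens.exists_subset_of_mem_open (Set.mem_univ (g y)) isOpen_univ
  obtain ⟨_, ⟨U, hU, rfl⟩, hyU, hUV⟩ :=
    Y'.isBasis_affineOpens.exists_subset_of_mem_open (show y ∈ (g ⁻¹ᵁ V).1 from hyV) (g ⁻¹ᵁ V).2
  refine ⟨_, (hU : IsAffineOpen U).fromSpec, inferInstance, ?_, ?_⟩
  · rw [hU.range_fromSpec]; exact hyU
  · rw [← IsAffineOpen.SpecMap_appLE_fromSpec g hV (hU : IsAffineOpen U) hUV]
    refine sch_comp hP ?_ (sch_openImm hP _)
    have h := HasRingHomProperty.appLE @Smooth g ‹_› ⟨V, hV⟩ ⟨U, hU⟩ hUV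
    let _ := (g.appLE V U hUV).hom.toAlgebra
    have : Algebra.Smooth Γ(Y, V) Γ(Y', U) := RingHom.smooth_algebraMap.1 h
    exact sch_smooth_ring hP

/-- The locus descends along every smooth morphism of algebraic spaces. -/
theorem descends_smooth {Y' Y : Sp S} (hY : IsAlgSpace Y) (hY' : IsAlgSpace Y') {g : Y' ⟶ Y}
    (hg : LocP @Smooth g) : LocusDescends P g := by
  obtain ⟨U, V, a, b, h, ha, has, hb, -, w⟩ := exists_chart hY' hY g
  have : Smooth h.left := hg a b h ha hb w
  have hh : LocusDescends P ((yon S).map h) := sch_smooth hP h.left V.hom U.hom (Over.w h)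
  have hbd : LocusDescends P b := by
    obtain ⟨W, fst, snd, sb⟩ := exists_sq hb.1 b
    have : Etale snd.left := hb.2 _ _ _ sb
    exact descends_of_kernel hP hY (IsAlgSpace.yon_obj _)
      (smooth_of_etale (IsAlgSpace.yon_obj _) hY
        ((isEtaleMor_iff_locP (IsAlgSpace.yon_obj _) hY).2
          (locP_of_repWith (fun e f (_ : Etale e) (_ : Etale f) => inferInstanceAs (Etale (e ≫ f))) hb)))
      sb (sch_smooth hP snd.left V.hom W.hom (Over.w snd))
  refine descends_of_family hP hY hY' fun y => ⟨_, a, IsAlgSpace.yon_obj _, smooth_of_etale (IsAlgSpace.yon_obj _) hY'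
    ((isEtaleMor_iff_locP (IsAlgSpace.yon_obj _) hY').2
      (locP_of_repWith (fun e f (_ : Etale e) (_ : Etale f) => inferInstanceAs (Etale (e ≫ f))) ha)), ?_, ?_⟩
  · obtain ⟨u, rfl⟩ := surjective_ofPt has y
    exact ⟨_, (Points.ofPt_eq_map_ofScheme a u).symm⟩
  · rw [w]
    exact descends_comp hP hY (IsAlgSpace.yon_obj _) hh hbd

/-- Etale-smooth locality on source and target. -/
theorem etSmST_of_local : IsEtaleSmoothLocalST P where
  precomp _ _ _ hX hY hZ f g hf hg := precomp_of_localOnSource covClass_etale hP.src hX hY hZ f g hf hg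
  baseChange _ _ _ _ hX hY _ hY' _ _ _ _ sq hg hf := prop_bc_of_local covClass_smooth hP.base hX hY hY' sq hg hf
  locality X Y hX hY f := by
    refine ⟨fun hf x => ⟨Y, X, X, 𝟙 Y, 𝟙 X, f, 𝟙 X, x, hY, hX, hX, smooth_id hY, IsPullback.id_horiz f,
      etale_id hX, by rw [Category.id_comp]; exact Points.map_id _, by rwa [Category.id_comp]⟩,
      fun h => (prop_iff_locus hP hX hY f).2 fun x => ?_⟩
    obtain ⟨V, W, U, b, p, q, e, v, hV, hW, hU, hb, sq, he, hv, hh⟩ := h x
    rw [← hv, Points.map_comp]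
    exact descends_smooth hP hY hV hb hX sq _ ⟨U, e, hU, he, hh, v, rfl⟩

end Groth.Agent.AlgSpLoc
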