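import Groth.Prelude.Def_Dual3
import Groth.Prelude.Def_AlgSpMor5
import Groth.Agent.AlgSpLoc.FlatLocusSp
import Groth.Agent.AlgSpLoc.FlatFibres
import Groth.Agent.FlatLocalDepth.FibreStalk
import Groth.Agent.FlatLocalDepth.Comp
import Groth.Agent.GorenBasic.TrivialFibre
import Mathlib.AlgebraicGeometry.Morphisms.Etale
import Mathlib.AlgebraicGeometry.Morphisms.FormallyUnramified
import Mathlib.RingTheory.Unramified.LocalRing

/-!
# Being Gorenstein at a point can be tested on any étale chart
-/

set_option autoImplicit false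
set_option backward.isDefEq.respectTransparency false

universe u

open CategoryTheory CategoryTheory.Limits AlgebraicGeometry IsLocalRing

namespace Groth.Agent.AlgSpLoc

open _root_.AlgSp Groth.Agent.AlgSpc

section Ring

variable {A B A' B' : Type u} [CommRing A] [IsLocalRing A] [CommRing B] [IsLocalRing B]
  [CommRing A'] [IsLocalRing A'] [CommRing B'] [IsLocalRing B']

/-- Closed fibres along two flat maps with `mB = m_B`. -/
theorem gorenstein_fibre_iff {φ : A →+* B} [IsLocalHom φ] {φ' : A' →+* B'} {α : A →+* A'}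
    {β : B →+* B'} (w : φ'.comp α = β.comp φ) (hβ : β.Flat)
    (hα : (maximalIdeal A).map α = maximalIdeal A')
    (hβm : (maximalIdeal B).map β = maximalIdeal B')
    (hN : IsNoetherianRing (B ⧸ (maximalIdeal A).map φ) →
      IsNoetherianRing (B' ⧸ ((maximalIdeal A).map φ).map β)) :
    LocCoh.IsGorensteinLocalRing (B' ⧸ (maximalIdeal A').map φ') ↔
      LocCoh.IsGorensteinLocalRing (B ⧸ (maximalIdeal A).map φ) := by
  letI := β.toAlgebra
  have : Module.Flat B B' := hβ
  have : IsLocalHom β := ((local_hom_TFAE _).out 2 0 rfl rfl).mp hβm.le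
  have : IsLocalHom (algebraMap B B') := ‹IsLocalHom β›
  set I := (maximalIdeal A).map φ
  have e : (maximalIdeal A').map φ' = I.map β := by
    rw [← hα, Ideal.map_map, w, ← Ideal.map_map]
  have hI : I ≤ maximalIdeal B := ((local_hom_TFAE φ).out 0 2 rfl rfl).mp ‹_›
  have hJ : I.map β ≤ maximalIdeal B' := hβm ▸ Ideal.map_mono hI
  have : Nontrivial (B ⧸ I) := Ideal.Quotient.nontrivial_iff.mpr
    (ne_top_of_le_ne_top (maximalIdeal.isMaximal B).ne_top hI)
  have : IsLocalRing (B ⧸ I) := .of_surjective' _ Ideal.Quotient.mk_surjective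
  let Q := B' ⧸ I.map (algebraMap B B')
  have : Nontrivial Q := Ideal.Quotient.nontrivial_iff.mpr
    (ne_top_of_le_ne_top (maximalIdeal.isMaximal B').ne_top hJ)
  have : IsLocalRing Q := .of_surjective' _ Ideal.Quotient.mk_surjective
  have : Module.Flat (B ⧸ I) Q :=
    Module.Flat.of_linearEquiv (Algebra.TensorProduct.quotIdealMapEquivQuotTensor B' I).toLinearEquiv
  have hmap : (maximalIdeal (B ⧸ I)).map (algebraMap (B ⧸ I) Q) = maximalIdeal Q := by
    rw [← IsLocalRing.map_maximalIdeal_of_surjective (Ideal.Quotient.mk I)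
        Ideal.Quotient.mk_surjective,
      ← IsLocalRing.map_maximalIdeal_of_surjective (Ideal.Quotient.mk (I.map (algebraMap B B')))
        Ideal.Quotient.mk_surjective,
      show maximalIdeal B' = (maximalIdeal B).map (algebraMap B B') from hβm.symm,
      ]
    exact (Ideal.map_map (Ideal.Quotient.mk I) (algebraMap (B ⧸ I) Q)).trans
      (Ideal.map_map (algebraMap B B') (Ideal.Quotient.mk (I.map (algebraMap B B')))).symm
  suffices H : LocCoh.IsGorensteinLocalRing Q ↔ LocCoh.IsGorensteinLocalRing (B ⧸ I) from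
    ⟨fun h => H.mp (GorenSG.gorenstein_of_ringEquiv (Ideal.quotEquivOfEq e.symm) h),
      fun h => GorenSG.gorenstein_of_ringEquiv (Ideal.quotEquivOfEq e) (H.mpr h)⟩
  constructor
  · intro h
    have : IsNoetherianRing Q := h.1
    have : IsLocalHom (algebraMap (B ⧸ I) Q) := ((local_hom_TFAE _).out 2 0 rfl rfl).mp hmap.le
    have : Module.FaithfullyFlat (B ⧸ I) Q := Module.FaithfullyFlat.of_flat_of_isLocalHom
    have : IsNoetherianRing (B ⧸ I) :=
      FlatLocalDepth.isNoetherianRing_of_faithfullyFlat (B ⧸ I) Q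
    exact (GorenBasic.isGorensteinLocalRing_iff_of_map_eq hmap).mp h
  · intro h
    have : IsNoetherianRing (B ⧸ I) := h.1
    have : IsNoetherianRing Q := hN inferInstance
    exact (GorenBasic.isGorensteinLocalRing_iff_of_map_eq hmap).mpr h

end Ring

section Scheme

variable {X Y : Scheme.{u}}

theorem isGorensteinAt_iff (f : X ⟶ Y) (x : X) : Dual3.IsGorensteinAt f x ↔
    (f.stalkMap x).hom.Flat ∧ LocCoh.IsGorensteinLocalRing
      (X.presheaf.stalk x ⧸ (maximalIdeal (Y.presheaf.stalk (f x))).map (f.stalkMap x).hom) := by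
  obtain ⟨e⟩ := FlatLocalDepth.nonempty_asFiber_stalk_equiv f x
  exact and_congr Iff.rfl ⟨fun h => GorenSG.gorenstein_of_ringEquiv e h,
    fun h => GorenSG.gorenstein_of_ringEquiv e.symm h⟩

theorem map_maximalIdeal_stalkMap {f₀ : X ⟶ Y} [FormallyUnramified f₀] [LocallyOfFiniteType f₀] (x : X) :
    (maximalIdeal (Y.presheaf.stalk (f₀ x))).map (f₀.stalkMap x).hom =
      maximalIdeal (X.presheaf.stalk x) := by
  algebraize [(f₀.stalkMap x).hom]
  have : IsLocalHom (algebraMap (Y.presheaf.stalk (f₀ x)) (X.presheaf.stalk x)) :=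
    inferInstanceAs <| IsLocalHom (f₀.stalkMap x).hom
  have : Algebra.EssFiniteType (Y.presheaf.stalk (f₀ x)) (X.presheaf.stalk x) := by
    rw [← RingHom.essFiniteType_algebraMap, RingHom.algebraMap_toAlgebra]
    exact LocallyOfFiniteType.stalkMap f₀ x
  have : Algebra.FormallyUnramified (Y.presheaf.stalk (f₀ x)) (X.presheaf.stalk x) := by
    rw [← RingHom.formallyUnramified_algebraMap, RingHom.algebraMap_toAlgebra]
    exact FormallyUnramified.stalkMap f₀ x
  exact Algebra.FormallyUnramified.map_maximalIdeal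

theorem isNoetherianRing_quotient_map {B B' : Type u} [CommRing B] [CommRing B'] {β : B →+* B'}
    (hβ : β.EssFiniteType) (I : Ideal B) (hB : IsNoetherianRing (B ⧸ I)) :
    IsNoetherianRing (B' ⧸ I.map β) := by
  algebraize [β]
  rw [show I.map β = I.map (algebraMap B B') from rfl]
  have : Algebra.EssFiniteType (B ⧸ I) (B' ⧸ I.map (algebraMap B B')) :=
    Algebra.EssFiniteType.of_comp B _ _
  exact Algebra.EssFiniteType.isNoetherianRing (B ⧸ I) _

/-- Being Gorenstein at a point is étale local on source and target. -/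
theorem isGorensteinAt_etale_iff {T U W V : Scheme.{u}} {h : U ⟶ V} {k : T ⟶ W} {p : T ⟶ U}
    {r : W ⟶ V} [Etale p] [Etale r] (w : k ≫ r = p ≫ h) (t : T) :
    Dual3.IsGorensteinAt k t ↔ Dual3.IsGorensteinAt h (p t) := by
  rw [isGorensteinAt_iff, isGorensteinAt_iff]
  have hfl : (k.stalkMap t).hom.Flat ↔ (h.stalkMap (p t)).hom.Flat := by
    constructor
    · intro H
      exact GrpSch.flat_stalkMap_of_comp p h t (Flat.stalkMap _ t)
        (flat_stalk_congr w (flat_stalk_comp k r t H (Flat.stalkMap _ _)))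
    · intro H
      exact flat_cancel_etale k r t
        (flat_stalk_congr w.symm (flat_stalk_comp p h t (Flat.stalkMap _ t) H))
  refine and_congr hfl ?_
  have hv : r (k t) = h (p t) := congr($(w) t)
  let ι : V.presheaf.stalk (h (p t)) ⟶ V.presheaf.stalk (r (k t)) :=
    (V.presheaf.stalkCongr (.of_eq hv)).inv
  let α : V.presheaf.stalk (h (p t)) →+* W.presheaf.stalk (k t) :=
    (ι ≫ r.stalkMap (k t)).hom
  have hcomm : (k.stalkMap t).hom.comp α = (p.stalkMap t).hom.comp (h.stalkMap (p t)).hom := by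
    have hk : ι ≫ (k ≫ r).stalkMap t = (p ≫ h).stalkMap t := by
      have := Scheme.Hom.stalkMap_congr_hom _ _ w t
      rw [this]
      simp [ι]
    rw [Scheme.Hom.stalkMap_comp, Scheme.Hom.stalkMap_comp, ← Category.assoc] at hk
    exact congrArg CommRingCat.Hom.hom hk
  refine gorenstein_fibre_iff (φ' := (k.stalkMap t).hom) (α := α) hcomm (Flat.stalkMap p t) ?_
    (map_maximalIdeal_stalkMap (f₀ := p) t)
    (isNoetherianRing_quotient_map (LocallyOfFiniteType.stalkMap p t) _)
  have hι : (maximalIdeal (V.presheaf.stalk (h (p t)))).map ι.hom =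
      maximalIdeal (V.presheaf.stalk (r (k t))) :=
    IsLocalRing.map_maximalIdeal_of_surjective ι.hom
      (ConcreteCategory.bijective_of_isIso ι).2
  rw [show α = (r.stalkMap (k t)).hom.comp ι.hom from rfl, ← Ideal.map_map, hι]
  exact map_maximalIdeal_stalkMap (f₀ := r) (k t)

end Scheme

section Space

variable {S : Scheme.{u}}

/-- Being Gorenstein at a point can be read off in any chart. -/
theorem gorensteinAt_iff_chart {F G : Sp S} {f : F ⟶ G} {U V : Over S} {a : (yon S).obj U ⟶ F}
    {b : (yon S).obj V ⟶ G} {h : U ⟶ V} (ha : RepWith @Etale a) (hb : RepWith @Etale b)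
    (w : a ≫ f = (yon S).map h ≫ b) (u : U.left) :
    LocPAt (fun h u => Dual3.IsGorensteinAt h u) f (Points.ofPt a u) ↔
      Dual3.IsGorensteinAt h.left u := by
  refine ⟨fun H => H a b h u ha hb w rfl, fun H U' V' a' b' h' u' ha' hb' w' hu => ?_⟩
  obtain ⟨W, p, q, sW⟩ := exists_sq ha.1 a'
  obtain ⟨VV, r, t, sV⟩ := exists_sq hb.1 b'
  have hp : Etale (pre p).left := sq_etale sW ha'
  have hq : Etale q.left := ha.2 a' p q sW
  have hr : Etale (pre r).left := sq_etale sV hb'
  have ht : Etale t.left := hb.2 b' r t sV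
  obtain ⟨ω, hω, hω'⟩ := exists_point_of_sq sW (Points.ofScheme U u) u' (by
    rw [← Points.ofPt_eq_map_ofScheme, hu])
  have hω₁ : (pre p).left ω = u := by
    rw [ofPt_pre] at hω
    exact (Points.schemeEquiv U).injective hω
  have hcond : ((yon S).map (pre p ≫ h)) ≫ b = ((yon S).map (q ≫ h')) ≫ b' := by
    rw [Functor.map_comp, map_pre, Category.assoc, ← w, ← Category.assoc, sW.w, Category.assoc, w',
      Functor.map_comp, Category.assoc]
  let k : W ⟶ VV := pre (sV.lift _ _ hcond)
  have k₁ : k ≫ pre r = pre p ≫ h := (yon S).map_injective (by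
    rw [Functor.map_comp, map_pre, map_pre, sV.lift_fst])
  have k₂ : k ≫ t = q ≫ h' := (yon S).map_injective (by rw [Functor.map_comp, map_pre, sV.lift_snd])
  have h1 := (isGorensteinAt_etale_iff (congrArg CommaMorphism.left k₁ : k.left ≫ (pre r).left =
    (pre p).left ≫ h.left) ω).mpr (by rw [hω₁]; exact H)
  have h2 := (isGorensteinAt_etale_iff (congrArg CommaMorphism.left k₂ : k.left ≫ t.left =
    q.left ≫ h'.left) ω).mp h1
  rwa [hω'] at h2

/-- The scheme fibres of a chart diagram are locally Noetherian when the fibres over field points are. -/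
theorem isLocallyNoetherian_fiber_chart {F G : Sp S} {f : F ⟶ G}
    (hf : ∀ (k : FieldPt G) (Xk : Sp S) (a : Xk ⟶ F) (b : Xk ⟶ (yon S).obj k.pt),
      IsPullback a b f k.toHom → IsLocNoethSp Xk)
    {U V : Over S} {a : (yon S).obj U ⟶ F} {b : (yon S).obj V ⟶ G} {h : U ⟶ V}
    (ha : RepWith @Etale a) (hb : RepWith @Etale b) (w : a ≫ f = (yon S).map h ≫ b) (s : V.left) :
    IsLocallyNoetherian (h.left.fiber s) := by
  let k : FieldPt G := FieldPt.ofPt b s
  let ι : k.pt ⟶ V := Over.homMk (V.left.fromSpecResidueField s) rfl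
  have hk : (yon S).map ι ≫ b = k.toHom := by
    rw [← cancel_epi (𝟙 ((yon S).obj k.pt))]
    exact (FieldPt.toHom_ofPt b s).symm
  have sXk := IsPullback.of_hasPullback f k.toHom
  have hN := hf k _ _ _ sXk
  obtain ⟨E, e₁, e₂, sE⟩ := exists_sq hb.1 k.toHom
  let σ : k.pt ⟶ E := pre (sE.lift ((yon S).map ι) (𝟙 _) (by rw [hk, Category.id_comp]))
  have hσ₁ : σ ≫ pre e₁ = ι := (yon S).map_injective (by
    rw [Functor.map_comp, map_pre, map_pre, sE.lift_fst])
  have hσ₂ : σ ≫ e₂ = 𝟙 _ := (yon S).map_injective (by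
    rw [Functor.map_comp, map_pre, sE.lift_snd, CategoryTheory.Functor.map_id])
  have : Etale e₂.left := hb.2 k.toHom e₁ e₂ sE
  have : Etale (σ.left ≫ e₂.left) := by
    rw [show σ.left ≫ e₂.left = 𝟙 _ from congrArg CommaMorphism.left hσ₂]; infer_instance
  have : Etale σ.left := Etale.of_comp σ.left e₂.left
  let T : Over S := Over.mk (pullback.fst h.left (pre e₁).left ≫ U.hom)
  let tU : T ⟶ U := Over.homMk (pullback.fst h.left (pre e₁).left) rfl
  let tE : T ⟶ E := Over.homMk (pullback.snd h.left (pre e₁).left) (by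
    change pullback.snd h.left (pre e₁).left ≫ E.hom = pullback.fst h.left (pre e₁).left ≫ U.hom
    rw [← Over.w (pre e₁), ← Over.w h, ← Category.assoc, ← Category.assoc, pullback.condition])
  have qT : IsPullback ((yon S).map tU) ((yon S).map tE) ((yon S).map h) ((yon S).map (pre e₁)) :=
    isPullback_yon (IsPullback.of_hasPullback _ _)
  rw [map_pre] at qT
  have sA : IsPullback ((yon S).map tU) ((yon S).map (tE ≫ e₂)) (a ≫ f) k.toHom := by
    rw [w, Functor.map_comp]
    exact qT.paste_vert sE
  let aT := sXk.lift ((yon S).map tU ≫ a) ((yon S).map (tE ≫ e₂)) (by rw [Category.assoc]; exact sA.w)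
  have saT : IsPullback ((yon S).map tU) aT a (pullback.fst f k.toHom) :=
    IsPullback.of_bot (by rw [sXk.lift_snd]; exact sA) (sXk.lift_fst _ _ _).symm sXk
  have : IsLocallyNoetherian T.left := isLocallyNoetherian_chart hN (repWith_of_isPullback saT ha)
  let j : h.left.fiber s ⟶ pullback h.left (pre e₁).left := pullback.lift (h.left.fiberι s)
    (h.left.fiberToSpecResidueField s ≫ σ.left) (by
      rw [h.left.fiber_fac s, Category.assoc,
        show σ.left ≫ (pre e₁).left = V.left.fromSpecResidueField s from congrArg CommaMorphism.left hσ₁]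
      )
  have sj : IsPullback j (h.left.fiberToSpecResidueField s) (pullback.snd h.left (pre e₁).left) σ.left := by
    refine IsPullback.of_right ?_ (pullback.lift_snd _ _ _) (IsPullback.of_hasPullback h.left (pre e₁).left)
    rw [pullback.lift_fst,
      show σ.left ≫ (pre e₁).left = V.left.fromSpecResidueField s from congrArg CommaMorphism.left hσ₁]
    exact IsPullback.of_hasPullback _ _
  have : Etale j := MorphismProperty.of_isPullback (P := @Etale) sj.flip ‹Etale σ.left›
  exact LocallyOfFiniteType.isLocallyNoetherian (X := h.left.fiber s) (Y := T.left) j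


end Space

end Groth.Agent.AlgSpLoc
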