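import Groth.Agent.AlgSpLoc.GorensteinChart
import Groth.Agent.GorenBasic.FlatLocal

/-!
# Gorenstein fibres of composites
-/

set_option autoImplicit false
set_option backward.isDefEq.respectTransparency false

universe u

open CategoryTheory CategoryTheory.Limits AlgebraicGeometry IsLocalRing
open scoped TensorProduct

namespace Groth.Agent.AlgSpLoc

open Groth.Agent.FlatLocalDepth (isNoetherianRing_of_faithfullyFlat isLocalRing_quotient)

theorem isGorenstein_comp_iff (A B C : Type u) [CommRing A] [CommRing B] [CommRing C]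
    [IsLocalRing A] [IsLocalRing B] [IsLocalRing C] [Algebra A B] [Algebra B C] [Algebra A C]
    [IsScalarTower A B C] [IsLocalHom (algebraMap A B)] [IsLocalHom (algebraMap B C)]
    [Module.Flat B C] (hN : IsNoetherianRing (C ⧸ (maximalIdeal A).map (algebraMap A C))) :
    LocCoh.IsGorensteinLocalRing (C ⧸ (maximalIdeal A).map (algebraMap A C)) ↔
      LocCoh.IsGorensteinLocalRing (B ⧸ (maximalIdeal A).map (algebraMap A B)) ∧
        LocCoh.IsGorensteinLocalRing (C ⧸ (maximalIdeal B).map (algebraMap B C)) := by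
  let I := (maximalIdeal A).map (algebraMap A B)
  let J := I.map (algebraMap B C)
  have hJ : (maximalIdeal A).map (algebraMap A C) = J := by
    rw [IsScalarTower.algebraMap_eq A B C, ← Ideal.map_map]
  have hI : I ≤ maximalIdeal B := ((local_hom_TFAE (algebraMap A B)).out 0 2 rfl rfl).1 inferInstance
  have hIC : J ≤ maximalIdeal C :=
    (Ideal.map_mono hI).trans (((local_hom_TFAE (algebraMap B C)).out 0 2 rfl rfl).1 inferInstance)
  have : IsLocalRing (B ⧸ I) := isLocalRing_quotient hI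
  have : IsLocalRing (C ⧸ J) := isLocalRing_quotient hIC
  have : IsNoetherianRing (C ⧸ J) := isNoetherianRing_of_ringEquiv _ (Ideal.quotEquivOfEq hJ)
  letI : Algebra (B ⧸ I) (C ⧸ J) :=
    (Ideal.quotientMap J (algebraMap B C) Ideal.le_comap_map).toAlgebra
  have : IsScalarTower B (B ⧸ I) (C ⧸ J) := IsScalarTower.of_algebraMap_eq fun b => rfl
  have : Module.Flat (B ⧸ I) (C ⧸ J) := by
    let e1 : (B ⧸ I) ⊗[B] C ≃ₗ[B] C ⧸ J :=
      (TensorProduct.comm B _ _).trans
        ((Algebra.TensorProduct.quotIdealMapEquivTensorQuot C I).symm.toLinearEquiv.restrictScalars B)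
    exact Module.Flat.of_linearEquiv
      (e1.extendScalarsOfSurjective (S := B ⧸ I) Ideal.Quotient.mk_surjective).symm
  have : IsLocalHom (algebraMap (B ⧸ I) (C ⧸ J)) := ⟨fun x hx => by
    obtain ⟨b, rfl⟩ := Ideal.Quotient.mk_surjective x
    refine IsUnit.map _ (of_not_not fun hb => ?_)
    have hb' : algebraMap B C b ∈ maximalIdeal C :=
      (((local_hom_TFAE (algebraMap B C)).out 0 2 rfl rfl).1 inferInstance) (Ideal.mem_map_of_mem _ hb)
    have hm := Ideal.mem_map_of_mem (Ideal.Quotient.mk J) hb'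
    have : IsLocalHom (Ideal.Quotient.mk J) := IsLocalHom.of_surjective _ Ideal.Quotient.mk_surjective
    rw [IsLocalRing.map_maximalIdeal_of_surjective _ Ideal.Quotient.mk_surjective] at hm
    exact (IsLocalRing.mem_maximalIdeal _).1 hm hx⟩
  have : Module.FaithfullyFlat (B ⧸ I) (C ⧸ J) := Module.FaithfullyFlat.of_flat_of_isLocalHom
  have := isNoetherianRing_of_faithfullyFlat (B ⧸ I) (C ⧸ J)
  have key := GorenBasic.isGorensteinLocalRing_iff_flat (A := B ⧸ I) (B := C ⧸ J)
  have hK : (maximalIdeal B).map (algebraMap B C) ≥ J := Ideal.map_mono hI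
  have e : ((C ⧸ J) ⧸ (maximalIdeal (B ⧸ I)).map (algebraMap (B ⧸ I) (C ⧸ J))) ≃+*
      C ⧸ (maximalIdeal B).map (algebraMap B C) := by
    have : IsLocalHom (Ideal.Quotient.mk I) := IsLocalHom.of_surjective _ Ideal.Quotient.mk_surjective
    refine (Ideal.quotEquivOfEq ?_).trans (DoubleQuot.quotQuotEquivQuotOfLE hK)
    rw [← IsLocalRing.map_maximalIdeal_of_surjective _ (Ideal.Quotient.mk_surjective (I := I)),
      Ideal.map_map, Ideal.map_map]
    rfl
  rw [show ((maximalIdeal A).map (algebraMap A C)) = J from hJ, key]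
  exact and_congr Iff.rfl ⟨fun h => GorenSG.gorenstein_of_ringEquiv e.symm h,
    fun h => GorenSG.gorenstein_of_ringEquiv e h⟩

variable {X Y Z : Scheme.{u}}

/-- Gorenstein at a point for a composite with flat first map. -/
theorem isGorensteinAt_comp_iff (f : X ⟶ Y) (g : Y ⟶ Z) (x : X) (hfl : (f.stalkMap x).hom.Flat)
    (hN : IsNoetherianRing (X.presheaf.stalk x ⧸
      (maximalIdeal (Z.presheaf.stalk (g (f x)))).map ((f ≫ g).stalkMap x).hom)) :
    Dual3.IsGorensteinAt (f ≫ g) x ↔
      Dual3.IsGorensteinAt f x ∧ Dual3.IsGorensteinAt g (f x) := by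
  rw [isGorensteinAt_iff, isGorensteinAt_iff, isGorensteinAt_iff]
  letI := (g.stalkMap (f x)).hom.toAlgebra
  letI := (f.stalkMap x).hom.toAlgebra
  letI : Algebra (Z.presheaf.stalk (g (f x))) (X.presheaf.stalk x) := ((f ≫ g).stalkMap x).hom.toAlgebra
  have : IsScalarTower (Z.presheaf.stalk (g (f x))) (Y.presheaf.stalk (f x)) (X.presheaf.stalk x) :=
    IsScalarTower.of_algebraMap_eq fun a => congr($(Scheme.Hom.stalkMap_comp f g x).hom a)
  have : IsLocalHom (algebraMap (Z.presheaf.stalk (g (f x))) (Y.presheaf.stalk (f x))) :=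
    inferInstanceAs (IsLocalHom (g.stalkMap (f x)).hom)
  have : IsLocalHom (algebraMap (Y.presheaf.stalk (f x)) (X.presheaf.stalk x)) :=
    inferInstanceAs (IsLocalHom (f.stalkMap x).hom)
  have : Module.Flat (Y.presheaf.stalk (f x)) (X.presheaf.stalk x) := hfl
  have key := isGorenstein_comp_iff (Z.presheaf.stalk (g (f x))) (Y.presheaf.stalk (f x))
    (X.presheaf.stalk x) hN
  constructor
  · rintro ⟨h1, h2⟩
    exact ⟨⟨hfl, (key.mp h2).2⟩, GrpSch.flat_stalkMap_of_comp f g x hfl h1, (key.mp h2).1⟩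
  · rintro ⟨⟨-, h1⟩, h2, h3⟩
    exact ⟨flat_stalk_comp f g x hfl h2, key.mpr ⟨h3, h1⟩⟩

end Groth.Agent.AlgSpLoc
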