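import Groth.Agent.AlgSpLoc.GorensteinComp
import Groth.Agent.AlgSpLoc.FlatFibres

/-!
# Gorenstein algebraic spaces
-/

set_option autoImplicit false
set_option backward.isDefEq.respectTransparency false

universe u

open CategoryTheory CategoryTheory.Limits AlgebraicGeometry IsLocalRing

namespace Groth.Agent.AlgSpLoc

open _root_.AlgSp Groth.Agent.AlgSpc

variable {S : Scheme.{u}}

/-- The Gorenstein property of a local ring is unchanged along an étale map. -/
theorem gorenstein_stalk_etale_iff {T U : Scheme.{u}} (p : T ⟶ U) [Etale p] (t : T) :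
    LocCoh.IsGorensteinLocalRing (T.presheaf.stalk t) ↔
      LocCoh.IsGorensteinLocalRing (U.presheaf.stalk (p t)) := by
  algebraize [(p.stalkMap t).hom]
  have : Module.Flat (U.presheaf.stalk (p t)) (T.presheaf.stalk t) := Flat.stalkMap p t
  have : IsLocalHom (algebraMap (U.presheaf.stalk (p t)) (T.presheaf.stalk t)) :=
    inferInstanceAs (IsLocalHom (p.stalkMap t).hom)
  have : Module.FaithfullyFlat (U.presheaf.stalk (p t)) (T.presheaf.stalk t) :=
    Module.FaithfullyFlat.of_flat_of_isLocalHom
  have : Algebra.EssFiniteType (U.presheaf.stalk (p t)) (T.presheaf.stalk t) := by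
    rw [← RingHom.essFiniteType_algebraMap, RingHom.algebraMap_toAlgebra]
    exact LocallyOfFiniteType.stalkMap p t
  constructor
  · intro h
    have := h.1
    have := FlatLocalDepth.isNoetherianRing_of_faithfullyFlat (U.presheaf.stalk (p t)) (T.presheaf.stalk t)
    exact (GorenBasic.isGorensteinLocalRing_iff_of_map_eq (map_maximalIdeal_stalkMap (f₀ := p) t)).mp h
  · intro h
    have := h.1
    have : IsNoetherianRing (T.presheaf.stalk t) :=
      Algebra.EssFiniteType.isNoetherianRing (U.presheaf.stalk (p t)) _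
    exact (GorenBasic.isGorensteinLocalRing_iff_of_map_eq (map_maximalIdeal_stalkMap (f₀ := p) t)).mpr h

/-- Every chart of a Gorenstein algebraic space is Gorenstein. -/
theorem isGorenstein_chart {F : Sp S} (hF : EtaleLocally Dual3.IsGorenstein F) {U : Over S}
    {a : (yon S).obj U ⟶ F} (ha : RepWith @Etale a) (u : U.left) :
    LocCoh.IsGorensteinLocalRing (U.left.presheaf.stalk u) := by
  obtain ⟨U₀, a₀, ha₀, ha₀s, hU₀⟩ := hF
  obtain ⟨u₀, hu₀⟩ := surjective_ofPt ha₀s (Points.ofPt a u)
  obtain ⟨W, p, q, sW⟩ := exists_sq ha.1 a₀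
  have : Etale q.left := ha.2 a₀ p q sW
  have : Etale (pre p).left := sq_etale sW ha₀
  obtain ⟨ω, hω, hω'⟩ := exists_point_of_sq sW (Points.ofScheme U u) u₀ (by
    rw [← Points.ofPt_eq_map_ofScheme, hu₀])
  rw [ofPt_pre] at hω
  have hω₁ : (pre p).left ω = u := (Points.schemeEquiv U).injective hω
  rw [← hω₁, ← gorenstein_stalk_etale_iff (pre p).left ω, gorenstein_stalk_etale_iff q.left ω]
  exact hU₀.2 _

/-- A flat chart morphism out of a Gorenstein space: target stalk and fibre are Gorenstein. -/
theorem gorenstein_of_flat_chart {X Y : Sp S} {f : X ⟶ Y} (hf : LocP @Flat f)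
    (hX1 : IsLocNoethSp X) (hY1 : IsLocNoethSp Y) (hX2 : EtaleLocally Dual3.IsGorenstein X)
    {U V : Over S} {a : (yon S).obj U ⟶ X} {b : (yon S).obj V ⟶ Y} {h : U ⟶ V}
    (ha : RepWith @Etale a) (hb : RepWith @Etale b) (w : a ≫ f = (yon S).map h ≫ b) (u : U.left) :
    Dual3.IsGorensteinAt h.left u ∧
      LocCoh.IsGorensteinLocalRing (V.left.presheaf.stalk (h.left u)) := by
  have := isLocallyNoetherian_chart hX1 ha
  have := isLocallyNoetherian_chart hY1 hb
  have : Flat h.left := hf a b h ha hb w
  rw [isGorensteinAt_iff]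
  have hfl := Flat.stalkMap h.left u
  algebraize [(h.left.stalkMap u).hom]
  have : Module.Flat (V.left.presheaf.stalk (h.left u)) (U.left.presheaf.stalk u) := hfl
  have : IsLocalHom (algebraMap (V.left.presheaf.stalk (h.left u)) (U.left.presheaf.stalk u)) :=
    inferInstanceAs (IsLocalHom (h.left.stalkMap u).hom)
  have key := (GorenBasic.isGorensteinLocalRing_iff_flat (A := V.left.presheaf.stalk (h.left u))
    (B := U.left.presheaf.stalk u)).mp (isGorenstein_chart hX2 ha u :
    LocCoh.IsGorensteinLocalRing (U.left.presheaf.stalk u))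
  exact ⟨⟨hfl, key.2⟩, key.1⟩

end Groth.Agent.AlgSpLoc
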