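import Groth.Agent.AlgSpLoc.Inst
import Groth.Agent.AlgSpLoc.Topological
import Groth.Agent.AlgSpLoc.EtLocMore
import Mathlib.AlgebraicGeometry.Morphisms.FlatDescent

set_option autoImplicit false
set_option backward.isDefEq.respectTransparency false

universe u

open CategoryTheory CategoryTheory.Limits AlgebraicGeometry Opposite

namespace Groth.Agent.AlgSpLoc

open _root_.AlgSp Groth.Agent.AlgSpc

instance descendsAlong_smooth_fpqc :
    MorphismProperty.DescendsAlong (@Smooth : MorphismProperty Scheme.{u})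
      (@Surjective ⊓ @Flat ⊓ @QuasiCompact : MorphismProperty Scheme.{u}) :=
  HasRingHomProperty.descendsAlong_flat RingHom.Smooth.codescendsAlong_faithfullyFlat

variable {S : Scheme.{u}}

theorem isLocalOnBase_smooth : IsLocalOnBase (IsFpqcCover (S := S)) (LocP @Smooth) := isLocalOnBase_locP

theorem isLocalOnBase_lqf :
    IsLocalOnBase (IsFpqcCover (S := S)) (LocP (@LocallyQuasiFinite ⊓ @LocallyOfFiniteType)) :=
  isLocalOnBase_locP

/-- Conjunction with quasi-compactness. -/
theorem isLocalOnBase_and_quasiCompact {P : MorphismProperty (Sp S)}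
    (h : IsLocalOnBase (IsFpqcCover (S := S)) P) :
    IsLocalOnBase (IsFpqcCover (S := S)) (fun _ _ f => P f ∧ IsQuasiCompactMor f) := by
  intro ι Y Yi g hY hYi hcov X f hX Xi p q hXi hsq
  exact ⟨fun hf i => ⟨(h Yi g hY hYi hcov f hX Xi p q hXi hsq).1 hf.1 i,
      quasiCompact_of_isPullback (hsq i) hf.2⟩,
    fun hp => ⟨(h Yi g hY hYi hcov f hX Xi p q hXi hsq).2 fun i => (hp i).1,
      quasiCompact_of_cover hcov hsq hX hY fun i => (hp i).2⟩⟩

end Groth.Agent.AlgSpLoc
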