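import Groth.Agent.AlgSpLoc.AffineMor
import Groth.Agent.AlgSpLoc.Inst
import Groth.Agent.FpqcDescent.Basic
import Groth.Agent.FpqcDescent.Embedding

/-!
Affine, quasi-affine, integral, finite morphisms and closed immersions are fpqc local on the base.
-/

set_option autoImplicit false
set_option backward.isDefEq.respectTransparency false

universe u

open CategoryTheory CategoryTheory.Limits AlgebraicGeometry Opposite

namespace Groth.Agent.AlgSpLoc

open _root_.AlgSp Groth.Agent.AlgSpc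

variable {S : Scheme.{u}}

theorem isLocalOnBase_affine : IsLocalOnBase (IsFpqcCover (S := S)) (IsAffineMor (S := S)) := by
  intro ι Y Yi g hY hYi hcov X f hX Xi p q hXi hsq
  refine ⟨fun hf i Z hZ l => ?_, fun hp Z hZ z => ?_⟩
  · obtain ⟨V, k, fst, sq, hV⟩ := hf hZ (l ≫ g i)
    exact ⟨V, k, _, IsPullback.of_right (by rw [(hsq i).lift_fst]; exact sq)
      ((hsq i).lift_snd fst ((yon S).map k ≫ l) (by rw [Category.assoc]; exact sq.w)) (hsq i), hV⟩
  · obtain ⟨V, k, fst, sq, -, hV, -⟩ := tested_of_cover (G := fun A _ _ => IsAffine A)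
      (fun A B k _ (_ : IsAffine A) => inferInstance) hX hY hcov hsq
      (fun i Z hZ l => hp i hZ l) hZ z
    exact ⟨V, k, fst, sq, hV fun A B k _ h => h⟩

theorem isLocalOnBase_quasiAffine : IsLocalOnBase (IsFpqcCover (S := S)) (IsQuasiAffineMor (S := S)) := by
  intro ι Y Yi g hY hYi hcov X f hX Xi p q hXi hsq
  refine ⟨fun hf i Z hZ l => ?_, fun hp Z hZ z => ?_⟩
  · obtain ⟨V, k, fst, sq, hV⟩ := hf hZ (l ≫ g i)
    exact ⟨V, k, _, IsPullback.of_right (by rw [(hsq i).lift_fst]; exact sq)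
      ((hsq i).lift_snd fst ((yon S).map k ≫ l) (by rw [Category.assoc]; exact sq.w)) (hsq i), hV⟩
  · obtain ⟨V, k, fst, sq, hV, -, -⟩ := tested_of_cover (G := fun A _ _ => A.IsQuasiAffine)
      (fun A B k _ h => h) hX hY hcov hsq (fun i Z hZ l => hp i hZ l) hZ z
    exact ⟨V, k, fst, sq, hV⟩

theorem isLocalOnBase_integral : IsLocalOnBase (IsFpqcCover (S := S)) (IsIntegralMor (S := S)) := by
  intro ι Y Yi g hY hYi hcov X f hX Xi p q hXi hsq
  refine ⟨fun hf i Z hZ l => ?_, fun hp Z hZ z => ?_⟩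
  · obtain ⟨V, k, fst, sq, hV⟩ := hf hZ (l ≫ g i)
    exact ⟨V, k, _, IsPullback.of_right (by rw [(hsq i).lift_fst]; exact sq)
      ((hsq i).lift_snd fst ((yon S).map k ≫ l) (by rw [Category.assoc]; exact sq.w)) (hsq i), hV⟩
  · obtain ⟨V, k, fst, sq, -, hV, hP⟩ := tested_of_cover (G := fun A _ k => IsAffine A ∧ IsIntegralHom k)
      (fun A B k _ h => haveI := h.1; inferInstance) hX hY hcov hsq (fun i Z hZ l => hp i hZ l) hZ z
    exact ⟨V, k, fst, sq, hV fun A B k _ h => h.1, hP @IsIntegralHom fun _ _ _ h => h.2⟩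

theorem isLocalOnBase_finite : IsLocalOnBase (IsFpqcCover (S := S)) (IsFiniteMor (S := S)) := by
  intro ι Y Yi g hY hYi hcov X f hX Xi p q hXi hsq
  refine ⟨fun hf i Z hZ l => ?_, fun hp Z hZ z => ?_⟩
  · obtain ⟨V, k, fst, sq, hV⟩ := hf hZ (l ≫ g i)
    exact ⟨V, k, _, IsPullback.of_right (by rw [(hsq i).lift_fst]; exact sq)
      ((hsq i).lift_snd fst ((yon S).map k ≫ l) (by rw [Category.assoc]; exact sq.w)) (hsq i), hV⟩
  · obtain ⟨V, k, fst, sq, -, hV, hP⟩ := tested_of_cover (G := fun A _ k => IsAffine A ∧ IsFinite k)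
      (fun A B k _ h => haveI := h.1; inferInstance) hX hY hcov hsq (fun i Z hZ l => hp i hZ l) hZ z
    exact ⟨V, k, fst, sq, hV fun A B k _ h => h.1, hP @IsFinite fun _ _ _ h => h.2⟩

/-- A property whose members over affine schemes are quasi-affine is fpqc local on the base. -/
theorem isLocalOnBase_repWith_of_quasiAffine {P : MorphismProperty Scheme.{u}} [P.IsStableUnderBaseChange]
    [IsZariskiLocalAtTarget P]
    [P.DescendsAlong (@Surjective ⊓ @Flat ⊓ @QuasiCompact : MorphismProperty Scheme.{u})]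
    (hqa : ∀ ⦃A B : Scheme.{u}⦄ (k : A ⟶ B), IsAffine B → P k → A.IsQuasiAffine) :
    IsLocalOnBase (IsFpqcCover (S := S)) (RepWith (S := S) P) := by
  intro ι Y Yi g hY hYi hcov X f hX Xi p q hXi hsq
  refine ⟨fun hf i => repWith_of_isPullback (hsq i) hf, fun hp => repWith_of_tested f fun Z hZ z => ?_⟩
  obtain ⟨V, k, fst, sq, -, -, hP⟩ := tested_of_cover (G := P) hqa hX hY hcov hsq (fun i Z hZ l => by
    obtain ⟨V, fst, k, sq⟩ := exists_sq (hp i).1 l
    exact ⟨V, k, fst, sq, (hp i).2 _ _ _ sq⟩) hZ z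
  exact ⟨V, k, fst, sq, hP P le_rfl⟩

theorem isLocalOnBase_closedImmersion :
    IsLocalOnBase (IsFpqcCover (S := S)) (RepWith (S := S) @IsClosedImmersion) :=
  isLocalOnBase_repWith_of_quasiAffine fun A B k hB (hk : IsClosedImmersion k) => by
    have : IsAffine A := isAffine_of_isAffineHom k
    infer_instance

theorem isLocalOnBase_qcImmersion :
    IsLocalOnBase (IsFpqcCover (S := S)) (RepWith (S := S) (@IsImmersion ⊓ @QuasiCompact)) :=
  isLocalOnBase_repWith_of_quasiAffine fun A B k hB hk => by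
    have : IsImmersion k := hk.1
    have : CompactSpace A := (quasiCompact_iff_compactSpace k).1 hk.2
    exact .of_isImmersion k

theorem finLocFree_eq :
    (finLocFree : MorphismProperty Scheme.{u}) =
      (@IsFinite ⊓ @Flat ⊓ @LocallyOfFinitePresentation : MorphismProperty Scheme.{u}) := by
  ext A B k
  exact ⟨fun ⟨h1, h2, h3⟩ => ⟨⟨h1, h2⟩, h3⟩, fun ⟨⟨h1, h2⟩, h3⟩ => ⟨h1, h2, h3⟩⟩

instance isZariskiLocalAtTarget_finLocFree : IsZariskiLocalAtTarget (finLocFree : MorphismProperty Scheme.{u}) := by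
  rw [finLocFree_eq]; infer_instance

theorem lfp_descendsAlong_fpqc :
    MorphismProperty.DescendsAlong (@LocallyOfFinitePresentation : MorphismProperty Scheme.{u})
      (@Surjective ⊓ @Flat ⊓ @QuasiCompact : MorphismProperty Scheme.{u}) := inferInstance

instance descendsAlong_finLocFree :
    (finLocFree : MorphismProperty Scheme.{u}).DescendsAlong
      (@Surjective ⊓ @Flat ⊓ @QuasiCompact : MorphismProperty Scheme.{u}) := by
  rw [finLocFree_eq]; infer_instance

theorem isLocalOnBase_finLocFree : IsLocalOnBase (IsFpqcCover (S := S)) (IsFinLocFreeMor (S := S)) :=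
  isLocalOnBase_repWith_of_quasiAffine fun A B k hB hk => by
    have : IsFinite k := hk.1
    have : IsAffine A := isAffine_of_isAffineHom k
    infer_instance

end Groth.Agent.AlgSpLoc
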