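import Groth.Agent.AlgSpLoc.SourceInst
import Groth.Agent.AlgSpc.More

/-!
Open and universally open morphisms are fppf local on the source.
-/

set_option autoImplicit false
set_option backward.isDefEq.respectTransparency false

universe u

open CategoryTheory CategoryTheory.Limits AlgebraicGeometry

namespace Groth.Agent.AlgSpLoc

open _root_.AlgSp Groth.Agent.AlgSpc

variable {S : Scheme.{u}}

/-- Flat morphisms locally of finite presentation are open on points. -/
theorem isOpenMap_of_locP_flat_lfp {F G : Sp S} (hF : IsAlgSpace F) (hG : IsAlgSpace G) {f : F ⟶ G}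
    (h1 : LocP @Flat f) (h2 : LocP @LocallyOfFinitePresentation f) : IsOpenMap (Points.map f) := by
  obtain ⟨U, V, a, b, h, ha, has, hb, -, w⟩ := exists_chart hF hG f
  have : Flat h.left := h1 a b h ha hb w
  have : LocallyOfFinitePresentation h.left := h2 a b h ha hb w
  exact isOpenMap_of_chart has hb w h.left.isOpenMap

/-- Flat morphisms locally of finite presentation are universally open. -/
theorem isUnivOpenMor_of_locP_flat_lfp {F G : Sp S} (hF : IsAlgSpace F) (hG : IsAlgSpace G) {f : F ⟶ G}
    (h1 : LocP @Flat f) (h2 : LocP @LocallyOfFinitePresentation f) : IsUnivOpenMor f :=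
  fun _ _ hZ g fst snd sq => isOpenMap_of_locP_flat_lfp (isAlgSpace_of_isPullback hF hG hZ sq) hZ
    (locP_base_change hF hG hZ sq h1) (locP_base_change hF hG hZ sq h2)

theorem isLocalOnSource_open : IsLocalOnSource (IsFppfCover (S := S)) (IsOpenMor (S := S)) := by
  intro ι X Xi g hX hXi hcov Y f hY
  refine ⟨fun hf i => ?_, fun h W hW => ?_⟩
  · change IsOpenMap (Points.map (g i ≫ f))
    rw [show Points.map (g i ≫ f) = Points.map f ∘ Points.map (g i) from funext fun x => Points.map_comp _ _ x]
    exact IsOpenMap.comp hf (isOpenMap_of_locP_flat_lfp (hXi i) hX (hcov.1 i).1 (hcov.1 i).2)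
  · have : Points.map f '' W = ⋃ i, Points.map (g i ≫ f) '' (Points.map (g i) ⁻¹' W) := by
      ext z
      simp only [Set.mem_image, Set.mem_iUnion, Set.mem_preimage, Points.map_comp]
      constructor
      · rintro ⟨x, hx, rfl⟩
        obtain ⟨i, v, rfl⟩ := hcov.2 x
        exact ⟨i, v, hx, rfl⟩
      · rintro ⟨i, v, hv, rfl⟩
        exact ⟨_, hv, rfl⟩
    rw [this]
    exact isOpen_iUnion fun i => h i _ (hW.preimage (Points.continuous_map (g i)))

theorem isLocalOnSource_univOpen : IsLocalOnSource (IsFppfCover (S := S)) (IsUnivOpenMor (S := S)) := by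
  intro ι X Xi g hX hXi hcov Y f hY
  refine ⟨fun hf i Z Z' hZ z fst snd sq => ?_, fun h Z Z' hZ z fst snd sq => ?_⟩
  · let l := pullback.lift (f := f) (g := z) (fst ≫ g i) snd (by rw [Category.assoc]; exact sq.w)
    have sP := IsPullback.of_hasPullback f z
    have sq' : IsPullback fst l (g i) (pullback.fst f z) := IsPullback.of_bot
      (by rw [pullback.lift_snd]; exact sq) (pullback.lift_fst _ _ _).symm sP
    have hP := isAlgSpace_of_isPullback hX hY hZ sP
    change IsOpenMap (Points.map snd)
    rw [show snd = l ≫ pullback.snd f z from (pullback.lift_snd _ _ _).symm,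
      show Points.map (l ≫ pullback.snd f z) = Points.map (pullback.snd f z) ∘ Points.map l from
        funext fun x => Points.map_comp _ _ x]
    exact IsOpenMap.comp (hf hZ z _ _ sP)
      (isUnivOpenMor_of_locP_flat_lfp (hXi i) hX (hcov.1 i).1 (hcov.1 i).2 hP _ _ _ sq')
  · intro W hW
    have hZ' := isAlgSpace_of_isPullback hX hY hZ sq
    have : Points.map snd '' W =
        ⋃ i, Points.map (pullback.snd (g i) fst ≫ snd) '' (Points.map (pullback.snd (g i) fst) ⁻¹' W) := by
      ext y
      simp only [Set.mem_image, Set.mem_iUnion, Set.mem_preimage, Points.map_comp]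
      constructor
      · rintro ⟨x, hx, rfl⟩
        obtain ⟨i, v, hv⟩ := hcov.2 (Points.map fst x)
        obtain ⟨r, -, hr⟩ := exists_point_of_isPullback (IsPullback.of_hasPullback (g i) fst) v x hv
        exact ⟨i, r, by rwa [hr], by rw [hr]⟩
      · rintro ⟨i, v, hv, rfl⟩
        exact ⟨_, hv, rfl⟩
    rw [this]
    exact isOpen_iUnion fun i => h i hZ z _ _ ((IsPullback.of_hasPullback (g i) fst).paste_vert sq) _
      (hW.preimage (Points.continuous_map _))

end Groth.Agent.AlgSpLoc
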