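import Groth.Agent.AlgSpLoc.OpenSubspace
import Groth.Agent.AlgSpLoc.SourceOpen
import Groth.Agent.AlgSpLoc.EtLocMore

/-!
The largest open over which a property local on the base holds.
-/

set_option autoImplicit false
set_option backward.isDefEq.respectTransparency false

universe u

open CategoryTheory CategoryTheory.Limits AlgebraicGeometry TopologicalSpace

namespace Groth.Agent.AlgSpLoc

open _root_.AlgSp Groth.Agent.AlgSpc

variable {S : Scheme.{u}}

/-- What is used about the class of morphisms defining the coverings. -/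
structure CovClass (Q : MorphismProperty (Sp S)) : Prop where
  openImm : ∀ {A B : Sp S}, IsAlgSpace A → IsAlgSpace B → ∀ (f : A ⟶ B), RepWith @IsOpenImmersion f → Q f
  comp : ∀ {A B C : Sp S}, IsAlgSpace A → IsAlgSpace B → IsAlgSpace C → ∀ (f : A ⟶ B) (g : B ⟶ C),
    Q f → Q g → Q (f ≫ g)
  bc : ∀ {X Y X' Y' : Sp S}, IsAlgSpace X → IsAlgSpace Y → IsAlgSpace Y' → ∀ {fst : X' ⟶ X} {snd : X' ⟶ Y'}
    {f : X ⟶ Y} {g : Y' ⟶ Y}, IsPullback fst snd f g → Q f → Q snd
  isOpenMap : ∀ {A B : Sp S}, IsAlgSpace A → IsAlgSpace B → ∀ (f : A ⟶ B), Q f → IsOpenMap (Points.map f)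

/-- `f` has `P` over the open `V`. -/
def HoldsOver (P : MorphismProperty (Sp S)) {X Y : Space S} (f : X ⟶ Y) (V : Opens (Points Y.obj)) : Prop :=
  ∀ (W₁ X₁ : Space S) (j₁ : W₁ ⟶ Y) (j₁' : X₁ ⟶ X) (f₁ : X₁ ⟶ W₁),
    RepWith @IsOpenImmersion j₁.hom → Set.range (Points.map j₁.hom) = (V : Set (Points Y.obj)) →
    IsPullback j₁'.hom f₁.hom f.hom j₁.hom → P f₁.hom

variable {Q : MorphismProperty (Sp S)} (hQ : CovClass Q) {P : MorphismProperty (Sp S)}
  (hP : IsLocalOnBase (fun _ _ Y g => IsCover Q Y g) P)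

include hQ hP in
/-- Forward direction of locality for a single morphism of the class. -/
theorem prop_bc_of_local {X Y X' Y' : Sp S} (hX : IsAlgSpace X) (hY : IsAlgSpace Y) (hY' : IsAlgSpace Y')
    {fst : X' ⟶ X} {snd : X' ⟶ Y'} {f : X ⟶ Y} {g : Y' ⟶ Y} (sq : IsPullback fst snd f g)
    (hg : Q g) (hf : P f) : P snd := by
  have hX' := isAlgSpace_of_isPullback hX hY hY' sq
  refine (hP (ι := ULift.{u} Bool) (fun b => if b.down then Y' else Y)
    (fun b => match b with | ⟨true⟩ => g | ⟨false⟩ => 𝟙 Y) hY (fun b => by rcases b with ⟨_ | _⟩; exacts [hY, hY'])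
    ⟨fun b => by
      rcases b with ⟨_ | _⟩
      exacts [hQ.openImm hY hY _ (repWith_iso _), hg],
      fun y => ⟨⟨false⟩, y, Points.map_id _⟩⟩ f hX
    (fun b => if b.down then X' else X) (fun b => match b with | ⟨true⟩ => snd | ⟨false⟩ => f)
    (fun b => match b with | ⟨true⟩ => fst | ⟨false⟩ => 𝟙 X) (fun b => by rcases b with ⟨_ | _⟩; exacts [hX, hX'])
    (fun b => by rcases b with ⟨_ | _⟩; exacts [IsPullback.id_horiz f, sq])).1 hf ⟨true⟩

include hQ hP in
/-- The largest open over which `f` has `P`. -/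
theorem exists_largest_open {X Y : Space S} (f : X ⟶ Y) :
    ∃ W : Opens (Points Y.obj), HoldsOver P f W ∧ (∀ V : Opens (Points Y.obj), HoldsOver P f V → V ≤ W) ∧
      (∀ (Y' X' : Space S) (g : Y' ⟶ Y) (g' : X' ⟶ X) (f' : X' ⟶ Y'),
        Q g.hom → IsPullback g'.hom f'.hom f.hom g.hom → P f'.hom →
        Set.range (Points.map g.hom) ⊆ (W : Set (Points Y.obj))) ∧
      (∀ (Y' X' : Space S) (g : Y' ⟶ Y) (g' : X' ⟶ X) (f' : X' ⟶ Y'),
        Q g.hom → IsPullback g'.hom f'.hom f.hom g.hom → ∀ W' : Opens (Points Y'.obj), HoldsOver P f' W' →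
          (∀ V' : Opens (Points Y'.obj), HoldsOver P f' V' → V' ≤ W') →
          (W' : Set (Points Y'.obj)) = Points.map g.hom ⁻¹' (W : Set (Points Y.obj))) := by
  let Wit : Points Y.obj → Prop := fun y => ∃ (Y' X' : Space S) (g : Y' ⟶ Y) (g' : X' ⟶ X) (f' : X' ⟶ Y'),
    Q g.hom ∧ IsPullback g'.hom f'.hom f.hom g.hom ∧ P f'.hom ∧ y ∈ Set.range (Points.map g.hom)
  have hopen : IsOpen {y | Wit y} := by
    refine isOpen_iff_forall_mem_open.2 fun y ⟨Y', X', g, g', f', hg, sq, hf', hy⟩ => ?_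
    exact ⟨_, fun z hz => ⟨Y', X', g, g', f', hg, sq, hf', hz⟩,
      (hQ.isOpenMap Y'.property Y.property _ hg).isOpen_range, hy⟩
  let W : Opens (Points Y.obj) := ⟨_, hopen⟩
  have h1 : HoldsOver P f W := by
    intro W₀ X₀ j j' f₀ hj hrange sq
    have : Mono j.hom := mono_of_repWith (fun _ _ e (_ : IsOpenImmersion e) => inferInstance) hj
    obtain ⟨U, p, hp, hps⟩ := W₀.property.atlas
    have hw : ∀ t : ↥U.left, Wit (Points.map j.hom (Points.ofPt p t)) := fun t => hrange.le ⟨_, rfl⟩
    choose Y' X' g g' f' hg sq' hf' hy using hw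
    have hsub : ∀ t, Set.range (Points.map (g t).hom) ⊆ Set.range (Points.map j.hom) := fun t z hz =>
      hrange.ge ⟨Y' t, X' t, g t, g' t, f' t, hg t, sq' t, hf' t, hz⟩
    choose l hl using fun t => exists_lift_openImm hj (g t).hom (hsub t)
    have sql : ∀ t, IsPullback (sq.lift (g' t).hom ((f' t).hom ≫ l t) (by rw [Category.assoc, hl, (sq' t).w]))
        (f' t).hom f₀.hom (l t) := fun t =>
      IsPullback.of_right (by rw [sq.lift_fst, hl]; exact sq' t) (sq.lift_snd _ _ _) sq
    refine (hP (fun t => (Y' t).obj) l W₀.property (fun t => (Y' t).property) ⟨fun t => ?_, fun w => ?_⟩ f₀.hom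
      X₀.property (fun t => (X' t).obj) (fun t => (f' t).hom) _ (fun t => (X' t).property) sql).2 hf'
    · have sqm : IsPullback (𝟙 _) (l t) (g t).hom j.hom :=
        ⟨⟨by rw [Category.id_comp, hl]⟩, ⟨PullbackCone.IsLimit.mk (by rw [Category.id_comp, hl])
          (fun s => s.fst) (fun s => Category.comp_id _)
          (fun s => by rw [← cancel_mono j.hom, Category.assoc, hl]; exact s.condition)
          (fun s m h _ => by simpa using h)⟩⟩
      exact hQ.bc (Y' t).property Y.property W₀.property sqm (hg t)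
    · obtain ⟨t, rfl⟩ := surjective_ofPt hps w
      obtain ⟨z, hz⟩ := hy t
      refine ⟨t, z, injective_map_of_sq (f := j.hom) (fun T a => ?_) ?_⟩
      · obtain ⟨V, fst, snd, sqj⟩ := exists_sq hj.1 a
        have : IsOpenImmersion snd.left := hj.2 _ _ _ sqj
        exact ⟨V, fst, snd, sqj, snd.left.isOpenEmbedding.injective⟩
      · rw [← Points.map_comp, hl, hz]
  have h3 : ∀ (Y' X' : Space S) (g : Y' ⟶ Y) (g' : X' ⟶ X) (f' : X' ⟶ Y'),
      Q g.hom → IsPullback g'.hom f'.hom f.hom g.hom → P f'.hom →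
      Set.range (Points.map g.hom) ⊆ (W : Set (Points Y.obj)) :=
    fun Y' X' g g' f' hg sq hf' z hz => ⟨Y', X', g, g', f', hg, sq, hf', hz⟩
  have h2 : ∀ V : Opens (Points Y.obj), HoldsOver P f V → V ≤ W := by
    intro V hV
    obtain ⟨V', j, hj, hr⟩ := exists_openSubspace Y V.2
    let Xp : Space S := ⟨pullback f.hom j.hom,
      isAlgSpace_of_isPullback X.property Y.property V'.property (IsPullback.of_hasPullback _ _)⟩
    let f' : Xp ⟶ V' := ObjectProperty.homMk (pullback.snd f.hom j.hom)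
    let g' : Xp ⟶ X := ObjectProperty.homMk (pullback.fst f.hom j.hom)
    exact hr.ge.trans (h3 V' Xp j g' f' (hQ.openImm V'.property Y.property _ hj) (IsPullback.of_hasPullback _ _)
      (hV V' Xp j g' f' hj hr (IsPullback.of_hasPullback _ _)))
  refine ⟨W, h1, h2, h3, fun Y' X' g g' f' hg sq W' hW' hmax => Set.Subset.antisymm ?_ ?_⟩
  · obtain ⟨V', j, hj, hr⟩ := exists_openSubspace Y' W'.2
    let Xp : Space S := ⟨pullback f'.hom j.hom,
      isAlgSpace_of_isPullback X'.property Y'.property V'.property (IsPullback.of_hasPullback _ _)⟩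
    let f'' : Xp ⟶ V' := ObjectProperty.homMk (pullback.snd f'.hom j.hom)
    let g'' : Xp ⟶ X' := ObjectProperty.homMk (pullback.fst f'.hom j.hom)
    intro z hz
    obtain ⟨w, rfl⟩ := hr.ge hz
    exact h3 V' Xp (j ≫ g) (g'' ≫ g') f''
      (hQ.comp V'.property Y'.property Y.property _ _ (hQ.openImm V'.property Y'.property _ hj) hg)
      ((IsPullback.of_hasPullback f'.hom j.hom).paste_horiz sq)
      (hW' V' Xp j g'' f'' hj hr (IsPullback.of_hasPullback _ _))
      ⟨w, Points.map_comp j.hom g.hom w⟩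
  · obtain ⟨W₀, j, hj, hr⟩ := exists_openSubspace Y W.2
    let X₀ : Space S := ⟨pullback f.hom j.hom,
      isAlgSpace_of_isPullback X.property Y.property W₀.property (IsPullback.of_hasPullback _ _)⟩
    let f₀ : X₀ ⟶ W₀ := ObjectProperty.homMk (pullback.snd f.hom j.hom)
    let g₀ : X₀ ⟶ X := ObjectProperty.homMk (pullback.fst f.hom j.hom)
    have hf₀ := h1 W₀ X₀ j g₀ f₀ hj hr (IsPullback.of_hasPullback _ _)
    let V : Opens (Points Y'.obj) := ⟨Points.map g.hom ⁻¹' (W : Set (Points Y.obj)),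
      W.2.preimage (Points.continuous_map _)⟩
    refine hmax V fun W₂ X₂ j₂ j₂' f₂ hj₂ hr₂ sq₂ => ?_
    obtain ⟨l, hl⟩ := exists_lift_openImm hj (j₂.hom ≫ g.hom) (by
      rintro _ ⟨z, rfl⟩
      rw [hr, Points.map_comp]
      exact hr₂.le ⟨z, rfl⟩)
    have sqW := IsPullback.of_hasPullback g.hom j.hom
    have hl' : Q l := by
      have hP' := isAlgSpace_of_isPullback Y'.property Y.property W₀.property sqW
      let k := sqW.lift j₂.hom l hl.symm
      have hk : RepWith @IsOpenImmersion k := by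
        have : Mono (pullback.fst g.hom j.hom) :=
          haveI : Mono j.hom := mono_of_repWith (fun _ _ e (_ : IsOpenImmersion e) => inferInstance) hj
          inferInstance
        have sqk : IsPullback (𝟙 _) k j₂.hom (pullback.fst g.hom j.hom) :=
          ⟨⟨by rw [Category.id_comp, sqW.lift_fst]⟩, ⟨PullbackCone.IsLimit.mk (by rw [Category.id_comp, sqW.lift_fst])
            (fun s => s.fst) (fun s => Category.comp_id _)
            (fun s => by rw [← cancel_mono (pullback.fst g.hom j.hom), Category.assoc, sqW.lift_fst]; exact s.condition)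
            (fun s m h _ => by simpa using h)⟩⟩
        exact repWith_of_isPullback sqk hj₂
      rw [← sqW.lift_snd j₂.hom l hl.symm]
      exact hQ.comp W₂.property hP' W₀.property _ _ (hQ.openImm W₂.property hP' _ hk)
        (hQ.bc Y'.property Y.property W₀.property sqW hg)
    have sq₀ := IsPullback.of_hasPullback f.hom j.hom
    have big : IsPullback (j₂'.hom ≫ g'.hom) f₂.hom f.hom (l ≫ j.hom) := by
      rw [hl]; exact sq₂.paste_horiz sq
    exact prop_bc_of_local hQ hP X₀.property W₀.property W₂.property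
      (IsPullback.of_right (t := sq₀) (h₁₁ := sq₀.lift (j₂'.hom ≫ g'.hom) (f₂.hom ≫ l)
        (by rw [Category.assoc f₂.hom]; exact big.w)) (by rw [sq₀.lift_fst]; exact big) (sq₀.lift_snd _ _ _))
      hl' hf₀

/-- Morphisms with `LocP P` form a class of coverings. -/
theorem covClass_locP {P : MorphismProperty Scheme.{u}} [EtLoc P] [P.IsStableUnderBaseChange]
    [P.IsStableUnderComposition] (het : ∀ {A B : Scheme.{u}} (e : A ⟶ B), Etale e → P e)
    (hopen : ∀ {A B : Scheme.{u}} (e : A ⟶ B), P e → IsOpenMap e) : CovClass (S := S) (LocP P) where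
  openImm hA hB f h := locP_of_repWith EtLoc.precomp
    (repWith_mono (fun _ _ g (hg : IsOpenImmersion g) => het g inferInstance) h)
  comp hA hB hC f g hf hg := locP_comp hA hB hC hf hg
  bc hX hY hY' _ _ _ _ sq hf := locP_base_change hX hY hY' sq hf
  isOpenMap hA hB f hf := by
    obtain ⟨U, V, a, b, h, ha, has, hb, -, w⟩ := exists_chart hA hB f
    exact isOpenMap_of_chart has hb w (hopen _ (hf a b h ha hb w))

theorem covClass_fppf : CovClass (S := S) (fun _ _ f => LocP @Flat f ∧ LocP @LocallyOfFinitePresentation f) where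
  openImm hA hB f h := ⟨locP_of_repWith EtLoc.precomp
      (repWith_mono (fun _ _ g (hg : IsOpenImmersion g) => (inferInstance : Flat g)) h),
    locP_of_repWith EtLoc.precomp
      (repWith_mono (fun _ _ g (hg : IsOpenImmersion g) => (inferInstance : LocallyOfFinitePresentation g)) h)⟩
  comp hA hB hC f g hf hg := ⟨locP_comp hA hB hC hf.1 hg.1, locP_comp hA hB hC hf.2 hg.2⟩
  bc hX hY hY' _ _ _ _ sq hf := ⟨locP_base_change hX hY hY' sq hf.1, locP_base_change hX hY hY' sq hf.2⟩
  isOpenMap hA hB f hf := isOpenMap_of_locP_flat_lfp hA hB hf.1 hf.2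

theorem covClass_smooth : CovClass (S := S) (LocP @Smooth) :=
  covClass_locP (fun e he => inferInstance) fun e (he : Smooth e) => e.isOpenMap

theorem covClass_etale : CovClass (S := S) (IsEtaleMor (S := S)) where
  openImm hA hB f h := (isEtaleMor_iff_locP hA hB).2
    ((covClass_locP (P := @Etale) (fun e he => he) fun e (he : Etale e) => e.isOpenMap).openImm hA hB f h)
  comp hA hB hC f g hf hg := (isEtaleMor_iff_locP hA hC).2
    (locP_comp hA hB hC ((isEtaleMor_iff_locP hA hB).1 hf) ((isEtaleMor_iff_locP hB hC).1 hg))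
  bc hX hY hY' _ _ _ _ sq hf := (isEtaleMor_iff_locP (isAlgSpace_of_isPullback hX hY hY' sq) hY').2
    (locP_base_change hX hY hY' sq ((isEtaleMor_iff_locP hX hY).1 hf))
  isOpenMap hA hB f hf := isOpenMap_of_isEtaleMor hA hf

end Groth.Agent.AlgSpLoc
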