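import Groth.Agent.AlgSpLoc.LargestOpen

/-!
Properties of morphisms local on source and target in the smooth and etale-smooth senses.
-/

set_option autoImplicit false
set_option backward.isDefEq.respectTransparency false

universe u

open CategoryTheory CategoryTheory.Limits AlgebraicGeometry

namespace Groth.Agent.AlgSpLoc

open _root_.AlgSp Groth.Agent.AlgSpc

variable {S : Scheme.{u}}

theorem smooth_id {X : Sp S} (hX : IsAlgSpace X) : LocP @Smooth (𝟙 X) :=
  covClass_smooth.openImm hX hX _ (repWith_iso _)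

theorem etale_id {X : Sp S} (hX : IsAlgSpace X) : IsEtaleMor (𝟙 X) :=
  covClass_etale.openImm hX hX _ (repWith_iso _)

theorem smooth_of_etale {X Y : Sp S} (hX : IsAlgSpace X) (hY : IsAlgSpace Y) {f : X ⟶ Y} (h : IsEtaleMor f) :
    LocP @Smooth f :=
  locP_mono (fun _ _ e (_ : Etale e) => inferInstanceAs (Smooth e)) ((isEtaleMor_iff_locP hX hY).1 h)

theorem etale_cancel {X Y Z : Sp S} (hX : IsAlgSpace X) (hY : IsAlgSpace Y) (hZ : IsAlgSpace Z)
    {f : X ⟶ Y} {g : Y ⟶ Z} (hfg : IsEtaleMor (f ≫ g)) (hg : IsEtaleMor g) : IsEtaleMor f :=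
  (isEtaleMor_iff_locP hX hY).2 (locP_of_comp (P := @Etale) (Q := @Etale)
    (fun h k (_ : Etale (h ≫ k)) (_ : Etale k) => Etale.of_comp h k) hX hY hZ
    ((isEtaleMor_iff_locP hX hZ).1 hfg) ((isEtaleMor_iff_locP hY hZ).1 hg))

theorem precomp_of_localOnSource {Q : MorphismProperty (Sp S)} (hQ : CovClass Q) {P : MorphismProperty (Sp S)}
    (hP : IsLocalOnSource (fun _ _ Y g => IsCover Q Y g) P) {A X Y : Sp S} (hA : IsAlgSpace A) (hX : IsAlgSpace X)
    (hY : IsAlgSpace Y) (f : A ⟶ X) (g : X ⟶ Y) (hf : Q f) (hg : P g) : P (f ≫ g) :=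
  (hP (ι := ULift.{u} Bool) (fun b => if b.down then A else X)
    (fun b => match b with | ⟨true⟩ => f | ⟨false⟩ => 𝟙 X) hX
    (fun b => by rcases b with ⟨_ | _⟩; exacts [hX, hA])
    ⟨fun b => by rcases b with ⟨_ | _⟩; exacts [hQ.openImm hX hX _ (repWith_iso _), hf],
      fun x => ⟨⟨false⟩, x, Points.map_id _⟩⟩ g hY).1 hg ⟨true⟩

section Smooth

variable {P : MorphismProperty (Sp S)} (hP : IsSmoothLocalST P)

include hP

theorem smoothST_localOnSource : IsLocalOnSource (IsSmCover (S := S)) P := by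
  intro ι X Xi g hX hXi hcov Y f hY
  refine ⟨fun hf i => hP.precomp (hXi i) hX hY _ _ (hcov.1 i) hf, fun h => (hP.locality hX hY f).2 fun x => ?_⟩
  obtain ⟨i, v, hv⟩ := hcov.2 x
  exact ⟨_, Y, g i, 𝟙 Y, g i ≫ f, v, hXi i, hY, hcov.1 i, smooth_id hY, (Category.comp_id _).symm, hv, h i⟩

theorem smoothST_localOnBase : IsLocalOnBase (IsSmCover (S := S)) P := by
  intro ι Y Yi g hY hYi hcov X f hX Xi p q hXi hsq
  refine ⟨fun hf i => hP.baseChange hX hY (hXi i) (hYi i) f (g i) (p i) (q i) (hsq i) (hcov.1 i) hf,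
    fun h => (hP.locality hX hY f).2 fun x => ?_⟩
  obtain ⟨i, z, hz⟩ := hcov.2 (Points.map f x)
  obtain ⟨w, hw, -⟩ := exists_point_of_isPullback (hsq i) x z hz.symm
  exact ⟨_, _, q i, g i, p i, w, hXi i, hYi i,
    covClass_smooth.bc (hYi i) hY hX (hsq i).flip (hcov.1 i), hcov.1 i, (hsq i).w, hw, h i⟩

theorem smoothST_postcomp {X Y Z : Sp S} (hX : IsAlgSpace X) (hY : IsAlgSpace Y) (hZ : IsAlgSpace Z)
    (f : X ⟶ Y) (g : Y ⟶ Z) (hf : P f) (hg : LocP @Smooth g) : P (f ≫ g) := by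
  refine (hP.locality hX hZ _).2 fun x => ?_
  obtain ⟨U, V, a, b, h, v, hU, hV, ha, hb, w, hv, hh⟩ := (hP.locality hX hY f).1 hf x
  exact ⟨U, V, a, b ≫ g, h, v, hU, hV, ha, covClass_smooth.comp hV hY hZ _ _ hb hg, by rw [reassoc_of% w], hv, hh⟩

end Smooth

theorem smoothST_of_local {P : MorphismProperty (Sp S)} (h1 : IsLocalOnSource (IsSmCover (S := S)) P)
    (h2 : IsLocalOnBase (IsSmCover (S := S)) P)
    (h3 : ∀ ⦃X Y Z : Space S⦄ (f : X ⟶ Y) (g : Y ⟶ Z), P f.hom → LocP @Smooth g.hom → P (f ≫ g).hom) :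
    IsSmoothLocalST P where
  precomp _ _ _ hX hY hZ f g hf hg := precomp_of_localOnSource covClass_smooth h1 hX hY hZ f g hf hg
  baseChange X Y X' Y' hX hY hX' hY' f g f' g' sq hg hf :=
    prop_bc_of_local covClass_smooth h2 hX hY hY' sq hg hf
  locality X Y hX hY f := by
    refine ⟨fun hf x => ⟨X, Y, 𝟙 X, 𝟙 Y, f, x, hX, hY, smooth_id hX, smooth_id hY, by simp, Points.map_id _, hf⟩,
      fun h => ?_⟩
    obtain ⟨U₀, a₀, -, ha₀s⟩ := hX.atlas
    choose U V a b k v hU hV ha hb w hv hk using fun t => h (Points.ofPt a₀ t)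
    refine (h1 U a hX hU ⟨ha, fun x => ?_⟩ f hY).2 fun x => ?_
    · obtain ⟨t, rfl⟩ := surjective_ofPt ha₀s x
      exact ⟨t, v t, hv t⟩
    rw [w x]
    exact h3 (X := ⟨U x, hU x⟩) (Y := ⟨V x, hV x⟩) (Z := ⟨Y, hY⟩) (ObjectProperty.homMk (k x))
      (ObjectProperty.homMk (b x)) (hk x) (hb x)

section EtaleSmooth

variable {P : MorphismProperty (Sp S)} (hP : IsEtaleSmoothLocalST P)

include hP

theorem etSmST_localOnSource : IsLocalOnSource (IsEtCover (S := S)) P := by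
  intro ι X Xi g hX hXi hcov Y f hY
  refine ⟨fun hf i => hP.precomp (hXi i) hX hY _ _ (hcov.1 i) hf, fun h => (hP.locality hX hY f).2 fun x => ?_⟩
  obtain ⟨i, v, hv⟩ := hcov.2 x
  exact ⟨Y, X, Xi i, 𝟙 Y, 𝟙 X, f, g i, v, hY, hX, hXi i, smooth_id hY, IsPullback.id_horiz f, hcov.1 i,
    by rw [Category.comp_id]; exact hv, h i⟩

theorem etSmST_localOnBase : IsLocalOnBase (IsSmCover (S := S)) P := by
  intro ι Y Yi g hY hYi hcov X f hX Xi p q hXi hsq
  refine ⟨fun hf i => hP.baseChange hX hY (hXi i) (hYi i) f (g i) (p i) (q i) (hsq i) (hcov.1 i) hf,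
    fun h => (hP.locality hX hY f).2 fun x => ?_⟩
  obtain ⟨i, z, hz⟩ := hcov.2 (Points.map f x)
  obtain ⟨w, hw, -⟩ := exists_point_of_isPullback (hsq i) x z hz.symm
  exact ⟨_, _, _, g i, q i, p i, 𝟙 _, w, hYi i, hXi i, hXi i, hcov.1 i, hsq i, etale_id (hXi i),
    by rw [Category.id_comp]; exact hw, by rw [Category.id_comp]; exact h i⟩

theorem etSmST_postcomp {X Y Z : Sp S} (hX : IsAlgSpace X) (hY : IsAlgSpace Y) (hZ : IsAlgSpace Z)
    (f : X ⟶ Y) (g : Y ⟶ Z) (hf : P f) (hg : IsEtaleMor g) : P (f ≫ g) := by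
  refine (hP.locality hX hZ _).2 fun x => ?_
  obtain ⟨V, W, U, b, p, q, e, v, hV, hW, hU, hb, sq, he, hv, hh⟩ := (hP.locality hX hY f).1 hf x
  have sqQ := IsPullback.of_hasPullback g (b ≫ g)
  have hQ := isAlgSpace_of_isPullback hY hZ hV sqQ
  let s := sqQ.lift b (𝟙 V) (Category.id_comp _).symm
  have hs : IsEtaleMor s := etale_cancel hV hQ hV (g := pullback.snd g (b ≫ g))
    (by rw [sqQ.lift_snd]; exact etale_id hV) (covClass_etale.bc hY hZ hV sqQ hg)
  have sqW := IsPullback.of_hasPullback f (pullback.fst g (b ≫ g))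
  have hW' := isAlgSpace_of_isPullback hX hY hQ sqW
  let k := sqW.lift p (q ≫ s) (by rw [Category.assoc, sqQ.lift_fst]; exact sq.w)
  have sqk : IsPullback k q (pullback.snd f (pullback.fst g (b ≫ g))) s :=
    IsPullback.of_right (by rw [sqW.lift_fst, sqQ.lift_fst]; exact sq) (sqW.lift_snd _ _ _) sqW
  have hk : IsEtaleMor k := covClass_etale.bc hV hQ hW' sqk.flip hs
  refine ⟨V, _, U, b ≫ g, _, _, e ≫ k, v, hV, hW', hU,
    covClass_smooth.comp hV hY hZ _ _ hb (smooth_of_etale hY hZ hg), sqW.paste_vert sqQ,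
    covClass_etale.comp hU hW hW' _ _ he hk, ?_, ?_⟩
  · rw [Category.assoc, sqW.lift_fst]; exact hv
  · rw [Category.assoc, sqW.lift_snd_assoc, Category.assoc, sqQ.lift_snd, Category.comp_id]
    exact hh

theorem etSmST_cancel {X Y Z : Sp S} (hX : IsAlgSpace X) (hY : IsAlgSpace Y) (hZ : IsAlgSpace Z)
    (f : X ⟶ Y) (g : Y ⟶ Z) (hg : IsEtaleMor g) (hfg : P (f ≫ g)) : P f := by
  have sq := IsPullback.of_hasPullback (f ≫ g) g
  have hW := isAlgSpace_of_isPullback hX hZ hY sq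
  have hq := hP.baseChange hX hZ hW hY _ _ _ _ sq (smooth_of_etale hY hZ hg) hfg
  let s := sq.lift (𝟙 X) f (Category.id_comp _)
  have hs : IsEtaleMor s := etale_cancel hX hW hX (g := pullback.fst (f ≫ g) g)
    (by rw [sq.lift_fst]; exact etale_id hX) (covClass_etale.bc hY hZ hX sq.flip hg)
  rw [← sq.lift_snd (𝟙 X) f (Category.id_comp _)]
  exact hP.precomp hX hW hY _ _ hs hq

end EtaleSmooth

end Groth.Agent.AlgSpLoc
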