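import Mathlib.RingTheory.Flat.Basic
import Mathlib.Algebra.Module.CharacterModule
import Mathlib.LinearAlgebra.TensorProduct.Tower
import Mathlib.RingTheory.TensorProduct.Basic

/-!
A universally injective ring map `A → B` is flat as soon as `B ⊗[A] B` is flat over `B`.
-/

set_option autoImplicit false
set_option backward.isDefEq.respectTransparency false

universe u

open TensorProduct LinearMap Function

namespace Groth.Agent.AlgSpLoc

variable {A B : Type u} [CommRing A] [CommRing B] [Algebra A B]

/-- Injective `B`-linear maps stay injective after `- ⊗[A] B` when `B ⊗[A] B` is `B`-flat. -/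
theorem injective_rTensor_of_flat_tensor (hflat : Module.Flat B (B ⊗[A] B)) {X Y : Type u}
    [AddCommGroup X] [Module A X] [Module B X] [IsScalarTower A B X]
    [AddCommGroup Y] [Module A Y] [Module B Y] [IsScalarTower A B Y] (g : X →ₗ[B] Y) (hg : Injective g) :
    Injective ((g.restrictScalars A).rTensor B) := by
  have h := Module.Flat.rTensor_preserves_injective_linearMap (M := B ⊗[A] B) g hg
  let eX := AlgebraTensorModule.cancelBaseChange A B B X B
  let eY := AlgebraTensorModule.cancelBaseChange A B B Y B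
  have hnat : ∀ z, (g.restrictScalars A).rTensor B (eX z) = eY (g.rTensor (B ⊗[A] B) z) := by
    intro z
    induction z with
    | zero => simp
    | add a b ha hb => simp only [map_add, ha, hb]
    | tmul x w =>
      induction w with
      | zero => simp
      | add a b ha hb => simp only [tmul_add, map_add, ha, hb]
      | tmul c b => simp [eX, eY]
  intro z z' hz
  obtain ⟨z, rfl⟩ := eX.surjective z
  obtain ⟨z', rfl⟩ := eX.surjective z'
  rw [hnat, hnat] at hz
  rw [h (eY.injective hz)]

/-- For a universally injective ring map, a coaction `θ` with `k ↦ k ⊗ 1 - θ k` injective is zero. -/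
theorem coaction_eq_zero
    (hpure : ∀ (M : Type u) [AddCommGroup M] [Module A M], Injective fun m : M => m ⊗ₜ[A] (1 : B))
    {K : Type u} [AddCommGroup K] [Module A K] (θ : K →ₗ[A] K ⊗[A] B)
    (hδ : Injective ((TensorProduct.mk A K B).flip 1 - θ))
    (hco : ∀ k, ((TensorProduct.mk A K B).flip 1 - θ).rTensor B (θ k) = 0) : θ = 0 := by
  let δ : K →ₗ[A] K ⊗[A] B := (TensorProduct.mk A K B).flip 1 - θ
  let ev : CharacterModule (CharacterModule A) :=
    { toFun := fun φ => φ (1 : A)
      map_zero' := rfl
      map_add' := fun _ _ => rfl }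
  obtain ⟨χ, hχ⟩ := CharacterModule.dual_surjective_of_injective
    ((TensorProduct.mk A (CharacterModule A) B).flip 1) (hpure (CharacterModule A)) ev
  have hχ' : ∀ φ : CharacterModule A, χ (φ ⊗ₜ[A] (1 : B)) = φ (1 : A) := fun φ => congr($hχ φ)
  let G : ∀ (X : Type u) [AddCommGroup X] [Module A X], CharacterModule X → (X →ₗ[A] CharacterModule A) :=
    fun X _ _ φ => CharacterModule.curry (φ.comp (TensorProduct.rid A X).toAddMonoidHom)
  have hG : ∀ (X : Type u) [AddCommGroup X] [Module A X] (φ : CharacterModule X) (x : X) (a : A),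
      G X φ x a = φ (a • x) := fun X _ _ φ x a => by
    change φ (TensorProduct.rid A X (x ⊗ₜ[A] a)) = _
    rw [TensorProduct.rid_tmul]
  let s : CharacterModule K → CharacterModule (K ⊗[A] B) := fun φ => χ.comp ((G K φ).rTensor B).toAddMonoidHom
  have hsη : ∀ φ k, s φ (k ⊗ₜ[A] (1 : B)) = φ k := fun φ k => by
    change χ ((G K φ).rTensor B (k ⊗ₜ[A] 1)) = _
    rw [rTensor_tmul, hχ', hG, one_smul]
  have hsθ : ∀ φ k, s φ (θ k) = 0 := fun φ k => by
    obtain ⟨ψ, rfl⟩ := CharacterModule.dual_surjective_of_injective δ hδ φ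
    change χ ((G K _).rTensor B (θ k)) = 0
    rw [show G K (CharacterModule.dual δ ψ) = (G (K ⊗[A] B) ψ).comp δ from LinearMap.ext fun x =>
      CharacterModule.ext _ fun a => by
        rw [LinearMap.comp_apply, hG, hG]
        change ψ (δ (a • x)) = ψ (a • δ x)
        rw [map_smul],
      LinearMap.rTensor_comp_apply, hco, map_zero, map_zero]
  let sL : CharacterModule K →ₗ[A] CharacterModule (K ⊗[A] B) :=
    { toFun := s
      map_add' := fun φ φ' => CharacterModule.ext _ fun z => by
        induction z with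
        | zero => simp
        | add a b ha hb => rw [map_add, map_add, ha, hb]
        | tmul x b =>
          change χ _ = χ _ + χ _
          rw [← map_add, LinearMap.toAddMonoidHom_coe, LinearMap.toAddMonoidHom_coe, LinearMap.toAddMonoidHom_coe,
            rTensor_tmul, rTensor_tmul, rTensor_tmul, ← add_tmul]
          congr 2
      map_smul' := fun r φ => CharacterModule.ext _ fun z => by
        induction z with
        | zero => simp
        | add a b ha hb => rw [map_add, map_add, ha, hb]
        | tmul x b =>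
          change χ _ = χ _
          simp only [LinearMap.toAddMonoidHom_coe, rTensor_tmul, RingHom.id_apply]
          congr 2
          refine CharacterModule.ext _ fun a => ?_
          rw [hG, CharacterModule.smul_apply, hG, smul_comm]
          rfl }
  refine LinearMap.ext fun k => ?_
  suffices h : Injective (δ.rTensor B) from h (by rw [hco, LinearMap.zero_apply, map_zero])
  rw [injective_iff_map_eq_zero]
  intro z hz
  refine CharacterModule.eq_zero_of_character_apply fun Φ => ?_
  let Φ' : B →ₗ[A] CharacterModule K :=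
    CharacterModule.curry (Φ.comp (TensorProduct.comm A B K).toAddMonoidHom)
  let Ψ : CharacterModule ((K ⊗[A] B) ⊗[A] B) :=
    (CharacterModule.uncurry (sL.comp Φ')).comp (TensorProduct.comm A (K ⊗[A] B) B).toAddMonoidHom
  have hΨ : ∀ w, Ψ (δ.rTensor B w) = Φ w := by
    intro w
    induction w with
    | zero => simp
    | add a b ha hb => simp only [map_add, ha, hb]
    | tmul x b =>
      rw [rTensor_tmul]
      change s (Φ' b) (x ⊗ₜ[A] (1 : B) - θ x) = _
      rw [map_sub, hsη, hsθ, sub_zero]
      rfl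
  rw [← hΨ, hz, map_zero]

/-- The map `b ⊗ n ↦ (1 ⊗ n) ⊗ b`. -/
noncomputable def coact (A B N : Type u) [CommRing A] [CommRing B] [Algebra A B] [AddCommGroup N] [Module A N] :
    B ⊗[A] N →ₗ[A] (B ⊗[A] N) ⊗[A] B :=
  TensorProduct.lift (LinearMap.mk₂ A (fun b n => ((1 : B) ⊗ₜ[A] n) ⊗ₜ[A] b)
    (fun b b' n => by rw [tmul_add]) (fun a b n => by rw [tmul_smul])
    (fun b n n' => by rw [tmul_add, add_tmul]) (fun a b n => by rw [tmul_smul, ← smul_tmul']))

@[simp] theorem coact_tmul {N : Type u} [AddCommGroup N] [Module A N] (b : B) (n : N) :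
    coact A B N (b ⊗ₜ[A] n) = ((1 : B) ⊗ₜ[A] n) ⊗ₜ[A] b := rfl

theorem coact_coassoc {N : Type u} [AddCommGroup N] [Module A N] (x : B ⊗[A] N) :
    (coact A B N).rTensor B (coact A B N x) =
      ((TensorProduct.mk A (B ⊗[A] N) B).flip 1).rTensor B (coact A B N x) := by
  induction x with
  | zero => simp
  | add a b ha hb => simp only [map_add, ha, hb]
  | tmul b n => simp

theorem coact_injective {N : Type u} [AddCommGroup N] [Module A N] {x : B ⊗[A] N} (h : coact A B N x = 0) :
    x = 0 := by
  let μ : (B ⊗[A] N) ⊗[A] B →ₗ[A] B ⊗[A] N :=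
    TensorProduct.lift (LinearMap.mk₂ A (fun x b => b • x) (fun x x' b => smul_add b x x')
      (fun a x b => smul_comm b a x) (fun x b b' => add_smul b b' x) (fun a x b => smul_assoc a b x))
  have hμ : ∀ x, μ (coact A B N x) = x := fun x => by
    induction x with
    | zero => simp
    | add a b ha hb => simp only [map_add, ha, hb]
    | tmul b n => simp [μ, TensorProduct.smul_tmul']
  rw [← hμ x, h, map_zero]

section Abstract

variable {X Y K : Type u} [AddCommGroup X] [Module A X] [Module B X] [IsScalarTower A B X]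
  [AddCommGroup Y] [Module A Y] [Module B Y] [IsScalarTower A B Y]
  [AddCommGroup K] [Module A K] [Module B K] [IsScalarTower A B K]

/-- Kernels commute with `- ⊗[A] B`. -/
theorem exists_of_rTensor_eq_zero (hflat : Module.Flat B (B ⊗[A] B)) (F : X →ₗ[B] Y) {x : X ⊗[A] B}
    (hx : (F.restrictScalars A).rTensor B x = 0) :
    ∃ z : LinearMap.ker F ⊗[A] B, ((LinearMap.ker F).subtype.restrictScalars A).rTensor B z = x := by
  have he : Exact ((LinearMap.ker F).subtype.restrictScalars A) (F.rangeRestrict.restrictScalars A) := by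
    intro x
    change F.rangeRestrict x = 0 ↔ x ∈ Set.range (LinearMap.ker F).subtype
    rw [← LinearMap.mem_ker, LinearMap.ker_rangeRestrict]
    exact ⟨fun h => ⟨⟨x, h⟩, rfl⟩, fun ⟨k, hk⟩ => hk ▸ k.2⟩
  have hs : Surjective (F.rangeRestrict.restrictScalars A) := F.surjective_rangeRestrict
  have hex : Exact (((LinearMap.ker F).subtype.restrictScalars A).rTensor B)
      ((F.rangeRestrict.restrictScalars A).rTensor B) := rTensor_exact B he hs
  refine (hex _).1 ?_
  refine injective_rTensor_of_flat_tensor (X := LinearMap.range F) (Y := Y) hflat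
    (LinearMap.range F).subtype Subtype.val_injective ?_
  rw [map_zero, ← LinearMap.rTensor_comp_apply]
  exact hx

/-- A sub-comodule inherits the coassociativity identity. -/
theorem coassoc_of_injective (hflat : Module.Flat B (B ⊗[A] B)) (ι : K →ₗ[B] X) (hι : Injective ι)
    (c : X →ₗ[A] X ⊗[A] B) (θ : K →ₗ[A] K ⊗[A] B) (hθ : ∀ k, (ι.restrictScalars A).rTensor B (θ k) = c (ι k))
    (hc : ∀ x, c.rTensor B (c x) = ((TensorProduct.mk A X B).flip 1).rTensor B (c x)) (k : K) :
    ((TensorProduct.mk A K B).flip 1 - θ).rTensor B (θ k) = 0 := by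
  let ιB : K ⊗[A] B →ₗ[B] X ⊗[A] B := AlgebraTensorModule.map ι (LinearMap.id : B →ₗ[A] B)
  have hιB : ∀ w, ιB w = (ι.restrictScalars A).rTensor B w := fun w => by
    induction w with
    | zero => simp
    | add a b ha hb => simp only [map_add, ha, hb]
    | tmul c b => simp [ιB]
  have hι' : Injective ((ι.restrictScalars A).rTensor B) :=
    injective_rTensor_of_flat_tensor (X := K) (Y := X) hflat ι hι
  have hinj : Injective ((ιB.restrictScalars A).rTensor B) :=
    injective_rTensor_of_flat_tensor (X := K ⊗[A] B) (Y := X ⊗[A] B) hflat ιB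
      fun a b hab => hι' (by rw [← hιB, ← hιB]; exact hab)
  apply hinj
  rw [map_zero]
  have h1 : ∀ w : K ⊗[A] B, (ιB.restrictScalars A).rTensor B
      (((TensorProduct.mk A K B).flip 1 - θ).rTensor B w) =
      ((TensorProduct.mk A X B).flip 1).rTensor B ((ι.restrictScalars A).rTensor B w) -
        c.rTensor B ((ι.restrictScalars A).rTensor B w) := by
    intro w
    induction w with
    | zero => simp
    | add a b ha hb => simp only [map_add, ha, hb]; abel
    | tmul a b =>
      simp only [rTensor_tmul, LinearMap.sub_apply, sub_tmul, map_sub, LinearMap.coe_restrictScalars, hιB,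
        hθ, LinearMap.flip_apply, TensorProduct.mk_apply]
  rw [h1, hθ, hc, sub_self]

theorem subcoaction_eq_zero
    (hpure : ∀ (M : Type u) [AddCommGroup M] [Module A M], Injective fun m : M => m ⊗ₜ[A] (1 : B))
    (hflat : Module.Flat B (B ⊗[A] B)) (ι : K →ₗ[B] X) (hι : Injective ι) (c : X →ₗ[A] X ⊗[A] B)
    (θ : K →ₗ[A] K ⊗[A] B) (hθ : ∀ k, (ι.restrictScalars A).rTensor B (θ k) = c (ι k))
    (hc : ∀ x, c.rTensor B (c x) = ((TensorProduct.mk A X B).flip 1).rTensor B (c x))
    (hfix : ∀ k, ι k ⊗ₜ[A] (1 : B) = c (ι k) → k = 0) : θ = 0 := by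
  refine coaction_eq_zero hpure θ ((injective_iff_map_eq_zero _).2 fun k hk => hfix k ?_)
    (coassoc_of_injective hflat ι hι c θ hθ hc)
  rw [← hθ, ← sub_eq_zero]
  have h := congrArg ((ι.restrictScalars A).rTensor B) hk
  rwa [map_zero, LinearMap.sub_apply, LinearMap.flip_apply, TensorProduct.mk_apply, map_sub, rTensor_tmul] at h

theorem injective_subtype_rTensor (hflat : Module.Flat B (B ⊗[A] B)) (L : Submodule B X) :
    Injective ((L.subtype.restrictScalars A).rTensor B) :=
  injective_rTensor_of_flat_tensor hflat L.subtype L.injective_subtype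

theorem submodule_eq_bot
    (hpure : ∀ (M : Type u) [AddCommGroup M] [Module A M], Injective fun m : M => m ⊗ₜ[A] (1 : B))
    (hflat : Module.Flat B (B ⊗[A] B)) (L : Submodule B X) (c : X →ₗ[A] X ⊗[A] B)
    (hc : ∀ x, c.rTensor B (c x) = ((TensorProduct.mk A X B).flip 1).rTensor B (c x))
    (hc0 : ∀ x, c x = 0 → x = 0) (hfix : ∀ x ∈ L, x ⊗ₜ[A] (1 : B) = c x → x = 0)
    (hex : ∀ k : L, ∃ z : L ⊗[A] B, (L.subtype.restrictScalars A).rTensor B z = c k) : L = ⊥ := by
  choose θ₀ hθ₀ using hex
  have hι : Injective ((L.subtype.restrictScalars A).rTensor B) := injective_subtype_rTensor hflat L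
  let θ : L →ₗ[A] L ⊗[A] B :=
    { toFun := θ₀
      map_add' := fun a b => hι (by rw [map_add, hθ₀, hθ₀, hθ₀, Submodule.coe_add, map_add])
      map_smul' := fun a b => hι (by
        rw [RingHom.id_apply, map_smul, hθ₀, hθ₀, ← map_smul]
        rfl) }
  have hz : θ = 0 := subcoaction_eq_zero (K := L) hpure hflat L.subtype L.injective_subtype c θ hθ₀ hc
    fun k h => Subtype.ext (hfix k.1 k.2 h)
  refine (Submodule.eq_bot_iff _).2 fun x hx => hc0 x ?_
  have h := hθ₀ ⟨x, hx⟩
  rw [show θ₀ ⟨x, hx⟩ = 0 from LinearMap.congr_fun hz ⟨x, hx⟩, map_zero] at h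
  exact h.symm

end Abstract

/-- The coaction commutes with base-changed maps. -/
theorem coact_natural {N N' : Type u} [AddCommGroup N] [Module A N] [AddCommGroup N'] [Module A N']
    (f : N →ₗ[A] N') (x : B ⊗[A] N) :
    ((f.baseChange B).restrictScalars A).rTensor B (coact A B N x) = coact A B N' (f.baseChange B x) := by
  induction x with
  | zero => simp
  | add a b ha hb => simp only [map_add, ha, hb]
  | tmul b n => simp

theorem eq_one_tmul_of_coact
    (hpure : ∀ (M : Type u) [AddCommGroup M] [Module A M], Injective fun m : M => m ⊗ₜ[A] (1 : B))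
    {N : Type u} [AddCommGroup N] [Module A N] {x : B ⊗[A] N} (h : x ⊗ₜ[A] (1 : B) = coact A B N x) :
    ∃ n : N, (1 : B) ⊗ₜ[A] n = x := by
  let J : Submodule A (B ⊗[A] N) := LinearMap.range (TensorProduct.mk A B N 1)
  have hJ : x ∈ J := by
    rw [← Submodule.Quotient.mk_eq_zero]
    apply hpure (_ ⧸ J)
    change Submodule.Quotient.mk x ⊗ₜ[A] (1 : B) = (0 : _ ⧸ J) ⊗ₜ[A] (1 : B)
    rw [zero_tmul]
    have h2 : ∀ x : B ⊗[A] N, J.mkQ.rTensor B (coact A B N x) = 0 := fun x => by
      induction x with
      | zero => simp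
      | add a b ha hb => rw [map_add, map_add, ha, hb, add_zero]
      | tmul b n =>
        rw [coact_tmul, rTensor_tmul, Submodule.mkQ_apply,
          (Submodule.Quotient.mk_eq_zero J).2 (⟨n, rfl⟩ : (1 : B) ⊗ₜ[A] n ∈ J), zero_tmul]
    have := congrArg (J.mkQ.rTensor B) h
    rwa [rTensor_tmul, Submodule.mkQ_apply, h2] at this
  exact hJ

theorem eq_bot_of_coaction
    (hpure : ∀ (M : Type u) [AddCommGroup M] [Module A M], Injective fun m : M => m ⊗ₜ[A] (1 : B))
    (hflat : Module.Flat B (B ⊗[A] B)) {N N' : Type u} [AddCommGroup N] [Module A N]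
    [AddCommGroup N'] [Module A N'] (f : N →ₗ[A] N') (hf : Injective f) (K : Submodule B (B ⊗[A] N))
    (hK : ∀ k : K, f.baseChange B (k : B ⊗[A] N) = 0)
    (hex : ∀ k : K, ∃ z : K ⊗[A] B, (K.subtype.restrictScalars A).rTensor B z = coact A B N k) : K = ⊥ := by
  refine submodule_eq_bot hpure hflat K (coact A B N) coact_coassoc (fun x h => coact_injective h)
    (fun x hx h1 => ?_) hex
  obtain ⟨n, rfl⟩ := eq_one_tmul_of_coact hpure h1
  have hk0 : f.baseChange B ((1 : B) ⊗ₜ[A] n) = 0 := hK ⟨_, hx⟩
  rw [baseChange_tmul] at hk0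
  have : f n = 0 := by
    apply hpure N'
    change f n ⊗ₜ[A] (1 : B) = (0 : N') ⊗ₜ[A] (1 : B)
    rw [zero_tmul]
    simpa using congrArg (TensorProduct.comm A B N') hk0
  rw [← map_zero f] at this
  rw [hf this, tmul_zero]

theorem ker_eq_bot_of_coaction
    (hpure : ∀ (M : Type u) [AddCommGroup M] [Module A M], Injective fun m : M => m ⊗ₜ[A] (1 : B))
    (hflat : Module.Flat B (B ⊗[A] B)) {N N' : Type u} [AddCommGroup N] [Module A N]
    [AddCommGroup N'] [Module A N'] (f : N →ₗ[A] N') (hf : Injective f) :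
    LinearMap.ker (f.baseChange B) = ⊥ :=
  eq_bot_of_coaction hpure hflat f hf _ (fun k => k.2) fun k =>
    exists_of_rTensor_eq_zero hflat (f.baseChange B)
      (by rw [coact_natural, show f.baseChange B k.1 = 0 from k.2, map_zero])

/-- Universally injective ring maps descend flatness of the double tensor product. -/
theorem flat_of_pure_of_flat_tensor
    (hpure : ∀ (M : Type u) [AddCommGroup M] [Module A M], Injective fun m : M => m ⊗ₜ[A] (1 : B))
    (hflat : Module.Flat B (B ⊗[A] B)) : Module.Flat A B := by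
  rw [Module.Flat.iff_lTensor_preserves_injective_linearMap]
  intro N N' _ _ _ _ f hf
  intro x y h
  exact (LinearMap.ker_eq_bot.1 (ker_eq_bot_of_coaction hpure hflat f hf)) h

end Groth.Agent.AlgSpLoc
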