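import Groth.Agent.FSAdic.Lifting
import Groth.Agent.FSAdic.Discrete
import Mathlib.RingTheory.Smooth.Locus

/-!
Smoothness at a prime is tested on small extensions with trivial residue extension.
-/

universe u

open IsLocalRing

namespace Groth.Agent.AlgSpLoc

theorem isSmoothAt_of_lift_trivial {R S : Type u} [CommRing R] [IsNoetherianRing R]
    [CommRing S] [Algebra R S] [Algebra.FiniteType R S] (q : Ideal S) [q.IsPrime]
    (h : ∀ (C : Type u) [CommRing C] [IsLocalRing C] [IsArtinianRing C] [Algebra R C] (t : C),
      t ∈ maximalIdeal C → (∀ a ∈ maximalIdeal C, a * t = 0) →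
      ∀ [IsLocalRing (C ⧸ Ideal.span {t})] (g : S →ₐ[R] C ⧸ Ideal.span {t}),
        (maximalIdeal (C ⧸ Ideal.span {t})).comap g = q →
        (∀ c : C, ∃ a b : S, b ∉ q ∧ Ideal.Quotient.mk (Ideal.span {t}) c * g b - g a ∈
          maximalIdeal (C ⧸ Ideal.span {t})) →
        ∃ g' : S →ₐ[R] C, (Ideal.Quotient.mkₐ R (Ideal.span {t})).comp g' = g) :
    Algebra.IsSmoothAt R q := by
  let p := Ideal.comap (algebraMap R S) q
  let Ap := Localization.AtPrime p
  let Sq := Localization.AtPrime q
  let _ : Algebra Ap Sq := (Localization.localRingHom p q (algebraMap R S) rfl).toAlgebra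
  have : IsScalarTower R Ap Sq := IsScalarTower.of_algebraMap_eq fun r => by
    change _ = Localization.localRingHom p q (algebraMap R S) rfl _
    rw [Localization.localRingHom_to_map, ← IsScalarTower.algebraMap_apply R S Sq]
  have : IsLocalHom (algebraMap Ap Sq) := Localization.isLocalHom_localRingHom _ _ _ _
  have : Algebra.EssFiniteType S Sq := Algebra.EssFiniteType.of_isLocalization Sq q.primeCompl
  have : Algebra.EssFiniteType R Sq := Algebra.EssFiniteType.comp R S Sq
  have : Algebra.EssFiniteType Ap Sq := Algebra.EssFiniteType.of_comp R Ap Sq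
  have hSL : FSAdic.SmallLifting Ap Sq := by
    intro C _ _ _ _ J hJ2 hlen hnil hart _ u _ hbij
    haveI : IsNoetherianRing Sq :=
      IsLocalization.isNoetherianRing q.primeCompl _ (Algebra.FiniteType.isNoetherianRing R S)
    haveI := hart ‹_›
    haveI : IsSimpleModule C J := Module.length_eq_one_iff.1 hlen
    letI : Algebra R C := ((algebraMap Ap C).comp (algebraMap R Ap)).toAlgebra
    haveI : IsScalarTower R Ap C := IsScalarTower.of_algebraMap_eq fun _ => rfl
    let π : C →ₐ[R] C ⧸ J := Ideal.Quotient.mkₐ R J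
    have hJ0 : J ≠ ⊥ := fun e => by
      haveI := IsSimpleModule.nontrivial C J
      obtain ⟨x, hx⟩ := exists_ne (0 : J)
      exact hx (Subtype.ext (by simpa [e] using x.2))
    obtain ⟨t, htJ, ht0⟩ := Submodule.exists_mem_ne_zero_of_ne_bot hJ0
    have hmin : ∀ I : Ideal C, I ≤ J → I = ⊥ ∨ I = J := fun I hI => by
      rcases eq_bot_or_eq_top (Submodule.comap (Submodule.subtype J) I) with h | h
      · left
        rw [eq_bot_iff]
        intro x hx
        have : (⟨x, hI hx⟩ : J) ∈ (Submodule.comap (Submodule.subtype J) I) := hx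
        rw [h, Submodule.mem_bot] at this
        exact congrArg Subtype.val this
      · right
        refine le_antisymm hI fun x hx => ?_
        have : (⟨x, hx⟩ : J) ∈ (Submodule.comap (Submodule.subtype J) I) := h ▸ Submodule.mem_top
        exact this
    have hspan : Ideal.span {t} = J :=
      (hmin _ ((Ideal.span_singleton_le_iff_mem _).2 htJ)).resolve_left (by simpa using ht0)
    have hkill : maximalIdeal C * J = ⊥ := by
      refine (hmin _ Ideal.mul_le_right).resolve_right fun e => ?_
      obtain ⟨n, hn⟩ := hnil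
      have : ∀ k, maximalIdeal C ^ k * J = J := fun k => by
        induction k with
        | zero => simp
        | succ k ih => rw [pow_succ, mul_assoc, e, ih]
      exact hJ0 (by rw [← this n, hn, Ideal.bot_mul])
    subst hspan
    haveI : Nontrivial (C ⧸ Ideal.span {t}) := inferInstance
    obtain ⟨g', hg'⟩ := h C t (le_maximalIdeal (fun e => not_subsingleton (C ⧸ Ideal.span {t})
        (Ideal.Quotient.subsingleton_iff.2 e)) htJ)
      (fun a ha => by rw [← Ideal.mem_bot, ← hkill]; exact Ideal.mul_mem_mul ha htJ)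
      ((u.restrictScalars R).comp (IsScalarTower.toAlgHom R S Sq)) (by
        ext x
        simp only [Ideal.mem_comap, AlgHom.comp_apply, IsScalarTower.coe_toAlgHom',
          AlgHom.restrictScalars_apply, mem_maximalIdeal, mem_nonunits_iff]
        rw [show IsUnit (u (algebraMap S Sq x)) ↔ IsUnit (algebraMap S Sq x) from
          isUnit_map_iff u.toRingHom _, IsLocalization.AtPrime.isUnit_to_map_iff Sq q x]
        exact not_not) (fun c => by
        obtain ⟨z, hz⟩ := hbij.2 (residue _ (Ideal.Quotient.mk _ c))
        obtain ⟨z, rfl⟩ := residue_surjective z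
        obtain ⟨⟨a, b⟩, hab⟩ := IsLocalization.surj q.primeCompl z
        refine ⟨a, b.1, b.2, ?_⟩
        rw [← residue_eq_zero_iff, map_sub, map_mul, ← hz, ResidueField.map_residue]
        simp only [AlgHom.comp_apply, IsScalarTower.coe_toAlgHom', AlgHom.restrictScalars_apply]
        rw [← map_mul, ← map_sub, sub_eq_zero.2, map_zero]
        rw [← hab, map_mul]; rfl)
    have hu' : ∀ s : q.primeCompl, IsUnit (g' s.1) := fun s => by
      have h1 : IsUnit (Ideal.Quotient.mk (Ideal.span {t}) (g' s.1)) := by
        rw [show Ideal.Quotient.mk (Ideal.span {t}) (g' s.1) = u (algebraMap S Sq s.1) from DFunLike.congr_fun hg' s.1]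
        exact (IsLocalization.map_units Sq s).map u
      haveI : Nontrivial (C ⧸ (Ideal.span {t})) := inferInstance
      by_contra hs
      have h2 : (Ideal.span {t}) ≤ maximalIdeal C := le_maximalIdeal fun e =>
        not_subsingleton (C ⧸ (Ideal.span {t})) (Ideal.Quotient.subsingleton_iff.2 e)
      obtain ⟨c, hc⟩ := Ideal.Quotient.mk_surjective (↑h1.unit⁻¹ : C ⧸ (Ideal.span {t}))
      have h3 : g' s.1 * c - 1 ∈ (Ideal.span {t}) := by
        rw [← Ideal.Quotient.eq, map_mul, hc, map_one, h1.mul_val_inv]
      exact (maximalIdeal.isMaximal C).ne_top ((Ideal.eq_top_iff_one _).2 (by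
        simpa using sub_mem (Ideal.mul_mem_right c _ ((mem_maximalIdeal _).2 hs)) (h2 h3)))
    let v₀ : Sq →ₐ[R] C := IsLocalization.liftAlgHom (M := q.primeCompl) (f := g') hu'
    have hv₀ : ∀ x, Ideal.Quotient.mk (Ideal.span {t}) (v₀ x) = u x := by
      have : (Ideal.Quotient.mk (Ideal.span {t})).comp v₀.toRingHom = u.toRingHom :=
        IsLocalization.ringHom_ext q.primeCompl (RingHom.ext fun x => by
          show Ideal.Quotient.mk (Ideal.span {t}) (v₀ (algebraMap S Sq x)) = u (algebraMap S Sq x)
          rw [show v₀ (algebraMap S Sq x) = g' x from IsLocalization.lift_eq _ x]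
          exact DFunLike.congr_fun hg' x)
      exact fun x => RingHom.congr_fun this x
    have hcomm : ∀ a : Ap, v₀ (algebraMap Ap Sq a) = algebraMap Ap C a := by
      have : v₀.toRingHom.comp (algebraMap Ap Sq) = algebraMap Ap C :=
        IsLocalization.ringHom_ext p.primeCompl (RingHom.ext fun r => by
          show v₀ (algebraMap Ap Sq (algebraMap R Ap r)) = algebraMap Ap C (algebraMap R Ap r)
          rw [← IsScalarTower.algebraMap_apply, v₀.commutes, IsScalarTower.algebraMap_apply R Ap C])
      exact fun a => RingHom.congr_fun this a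
    exact ⟨{ v₀ with commutes' := hcomm }, AlgHom.ext hv₀⟩
  have hfs : Algebra.FormallySmooth Ap Sq :=
    FSAdicDiscrete.formallySmooth_of_isFormallySmoothAdic Ap Sq
      (FSAdic.isFormallySmoothAdic_of_smallLifting hSL _)
  have : Algebra.FormallySmooth R Ap := Algebra.FormallySmooth.of_isLocalization p.primeCompl
  exact Algebra.FormallySmooth.comp R Ap Sq

/-- An Artinian local algebra whose residue field is generated by a finite type algebra is of finite type. -/
theorem finiteType_of_residue {R S C : Type u} [CommRing R] [CommRing S] [Algebra R S] [Algebra.FiniteType R S]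
    [CommRing C] [IsLocalRing C] [IsArtinianRing C] [Algebra R C] (g : S →+* ResidueField C)
    (hg : ∀ r, g (algebraMap R S r) = residue C (algebraMap R C r)) (hsurj : Function.Surjective g) :
    Algebra.FiniteType R C := by
  classical
  obtain ⟨gens, hgens⟩ := (Algebra.FiniteType.out : (⊤ : Subalgebra R S).FG)
  obtain ⟨G, hG⟩ := (IsNoetherian.noetherian (maximalIdeal C) : (maximalIdeal C).FG)
  choose lifts hlifts using fun s : S => residue_surjective (g s)
  let A : Subalgebra R C := Algebra.adjoin R ((gens.image lifts ∪ G : Finset C) : Set C)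
  have h1 : ∀ s : S, ∃ a ∈ A, residue C a = g s := by
    intro s
    have hs : s ∈ Algebra.adjoin R (gens : Set S) := hgens.ge trivial
    induction hs using Algebra.adjoin_induction with
    | mem x hx => exact ⟨lifts x, Algebra.subset_adjoin (by
        simp only [Finset.coe_union, Finset.coe_image]; exact Or.inl ⟨x, hx, rfl⟩), hlifts x⟩
    | algebraMap r => exact ⟨algebraMap R C r, A.algebraMap_mem r, (hg r).symm⟩
    | add x y _ _ hx hy =>
      obtain ⟨a, ha, ha'⟩ := hx
      obtain ⟨b, hb, hb'⟩ := hy
      exact ⟨a + b, add_mem ha hb, by rw [map_add, ha', hb', map_add]⟩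
    | mul x y _ _ hx hy =>
      obtain ⟨a, ha, ha'⟩ := hx
      obtain ⟨b, hb, hb'⟩ := hy
      exact ⟨a * b, mul_mem ha hb, by rw [map_mul, ha', hb', map_mul]⟩
  have h2 : ∀ k (c : C), ∃ a ∈ A, c - a ∈ maximalIdeal C ^ k := by
    intro k
    induction k with
    | zero => exact fun c => ⟨0, zero_mem _, by simp⟩
    | succ k ih =>
      have h3 : ∀ x ∈ Ideal.span (G : Set C), ∀ d, ∃ a ∈ A, d * x - a ∈ maximalIdeal C ^ (k + 1) := by
        intro x hx
        induction hx using Submodule.span_induction with
        | mem y hy =>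
          intro d
          obtain ⟨a, ha, hd⟩ := ih d
          refine ⟨a * y, mul_mem ha (Algebra.subset_adjoin (by
            simp only [Finset.coe_union]; exact Or.inr hy)), ?_⟩
          rw [← sub_mul, pow_succ]
          exact Ideal.mul_mem_mul hd (hG.le (Ideal.subset_span hy))
        | zero => exact fun d => ⟨0, zero_mem _, by simp⟩
        | add y z _ _ hy hz =>
          intro d
          obtain ⟨a, ha, ha'⟩ := hy d
          obtain ⟨b, hb, hb'⟩ := hz d
          refine ⟨a + b, add_mem ha hb, ?_⟩
          rw [mul_add, add_sub_add_comm]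
          exact add_mem ha' hb'
        | smul e y _ hy =>
          intro d
          simpa [mul_assoc] using hy (d * e)
      intro c
      obtain ⟨s, hs⟩ := hsurj (residue C c)
      obtain ⟨a, ha, ha'⟩ := h1 s
      have hm : c - a ∈ maximalIdeal C := by
        rw [← residue_eq_zero_iff, map_sub, ha', hs, sub_self]
      obtain ⟨b, hb, hb'⟩ := h3 _ (hG.ge hm) 1
      refine ⟨a + b, add_mem ha hb, ?_⟩
      rwa [one_mul, sub_sub] at hb'
  obtain ⟨N, hN⟩ : IsNilpotent (maximalIdeal C) := by
    rw [← IsLocalRing.jacobson_eq_maximalIdeal ⊥ bot_ne_top]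
    exact IsArtinianRing.isNilpotent_jacobson_bot
  refine ⟨⟨gens.image lifts ∪ G, eq_top_iff.2 fun c _ => ?_⟩⟩
  obtain ⟨a, ha, hc⟩ := h2 N c
  rw [hN] at hc
  rw [sub_eq_zero.1 ((Submodule.mem_bot _).1 hc)]
  exact ha

end Groth.Agent.AlgSpLoc
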