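import Groth.Agent.AlgSpFormal.SmoothCharts
import Groth.Agent.AlgSpLoc.OpenSubspace
import Groth.Agent.AlgSpLoc.EtSmDescentSch
import Groth.Agent.AlgSpc.EtLocInst
import Groth.Agent.AlgSpLoc.SmallExtAlg
import Mathlib.RingTheory.Smooth.Locus

/-!
Smoothness of morphisms of algebraic spaces and lifting along small extensions.
-/

set_option autoImplicit false
set_option linter.unusedSectionVars false
set_option backward.isDefEq.respectTransparency false

universe u

open CategoryTheory CategoryTheory.Limits AlgebraicGeometry IsLocalRing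

namespace Groth.Agent.AlgSpLoc

open _root_.AlgSp Groth.Agent.AlgSpc Groth.Agent.AlgSpFormal

variable {S : Scheme.{u}}

/-- Every point of the spectrum of a local ring lands in an open containing the image of the closed point. -/
theorem range_ofPt_subset {X : Sp S} {B : Type u} [CommRing B] [IsLocalRing B] {σ : Spec (CommRingCat.of B) ⟶ S}
    (α : (yon S).obj (Over.mk σ) ⟶ X) {O : Set (Points X)} (hO : IsOpen O)
    (h : Points.ofPt α (closedPoint B) ∈ O) : Set.range (Points.map α) ⊆ O := by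
  rintro _ ⟨z, rfl⟩
  obtain ⟨z, rfl⟩ := (Points.schemeEquiv _).surjective z
  change Points.map α (Points.ofScheme _ z) ∈ O
  rw [← Points.ofPt_eq_map_ofScheme]
  exact (IsLocalRing.specializes_closedPoint (R := B) z).mem_open (hO.preimage (Points.continuous_ofPt α)) h

/-- The square-zero lifting property for an arbitrary surjection. -/
theorem exists_lift_of_formallySmooth {X Y : Sp S} {f : X ⟶ Y} (hf : IsFormallySmoothMor f)
    {B' B : Type u} [CommRing B'] [CommRing B] (π : B' →+* B) (hπ : Function.Surjective π)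
    (hker : RingHom.ker π ^ 2 = ⊥) (s : Spec (CommRingCat.of B') ⟶ S)
    (α : (yon S).obj (Over.mk (Spec.map (CommRingCat.ofHom π) ≫ s)) ⟶ X) (β : (yon S).obj (Over.mk s) ⟶ Y)
    (w : α ≫ f = (yon S).map (Over.homMk (Spec.map (CommRingCat.ofHom π)) :
      Over.mk (Spec.map (CommRingCat.ofHom π) ≫ s) ⟶ Over.mk s) ≫ β) :
    ∃ γ : (yon S).obj (Over.mk s) ⟶ X, (yon S).map (Over.homMk (Spec.map (CommRingCat.ofHom π)) :
      Over.mk (Spec.map (CommRingCat.ofHom π) ≫ s) ⟶ Over.mk s) ≫ γ = α ∧ γ ≫ f = β := by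
  let e := RingHom.quotientKerEquivOfSurjective hπ
  have he : e.toRingHom.comp (Ideal.Quotient.mk (RingHom.ker π)) = π := RingHom.ext fun x => rfl
  have he' : e.symm.toRingHom.comp π = Ideal.Quotient.mk (RingHom.ker π) := RingHom.ext fun x =>
    e.symm_apply_eq.2 rfl
  let T : Over S := Over.mk (Spec.map (CommRingCat.ofHom π) ≫ s)
  let T₀ : Over S := Over.mk (Spec.map (CommRingCat.ofHom (Ideal.Quotient.mk (RingHom.ker π))) ≫ s)
  let c : T ⟶ T₀ := Over.homMk (Spec.map (CommRingCat.ofHom e.toRingHom)) (by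
    change _ ≫ _ ≫ s = Spec.map (CommRingCat.ofHom π) ≫ s
    rw [← Spec.map_comp_assoc, ← CommRingCat.ofHom_comp, he])
  let d : T₀ ⟶ T := Over.homMk (Spec.map (CommRingCat.ofHom e.symm.toRingHom)) (by
    change _ ≫ _ ≫ s = Spec.map (CommRingCat.ofHom (Ideal.Quotient.mk (RingHom.ker π))) ≫ s
    rw [← Spec.map_comp_assoc, ← CommRingCat.ofHom_comp, he'])
  let sq : InfSq f :=
    { A := B'
      I := RingHom.ker π
      sq_zero := hker
      str := s
      top := (yon S).map d ≫ α
      bot := β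
      comm := by
        rw [Category.assoc, w, ← Functor.map_comp_assoc]
        congr 2
        refine Over.OverMorphism.ext ?_
        simp only [Over.comp_left, d, Over.homMk_left, ← Spec.map_comp, ← CommRingCat.ofHom_comp, he'] }
  obtain ⟨l, h₁, h₂⟩ := hf sq
  refine ⟨l, ?_, h₂⟩
  have h₁ : (yon S).map sq.j ≫ l = (yon S).map d ≫ α := h₁
  rw [show (Over.homMk (Spec.map (CommRingCat.ofHom π)) : T ⟶ Over.mk s) = c ≫ sq.j from Over.OverMorphism.ext (by
      simp only [Over.comp_left, c, sq, InfSq.j, Over.homMk_left, ← Spec.map_comp, ← CommRingCat.ofHom_comp, he]),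
    Functor.map_comp, Category.assoc, h₁, ← Functor.map_comp_assoc,
    show c ≫ d = 𝟙 T from Over.OverMorphism.ext (by
      simp only [Over.comp_left, c, d, Over.homMk_left, Over.id_left, ← Spec.map_comp, ← CommRingCat.ofHom_comp,
        RingEquiv.toRingHom_eq_coe, RingEquiv.comp_symm]
      exact Spec.map_id _), CategoryTheory.Functor.map_id, Category.id_comp]

/-- A point with a smooth chart has the lifting property. -/
theorem lift_of_smoothAt {X Y : Space S} (f : X ⟶ Y) (x : Points X.obj)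
    (hx : HasAtMor (fun U _ h u => ∃ W : U.Opens, u ∈ W ∧ Smooth (W.ι ≫ h)) f.hom x)
    {B' B : Type u} [CommRing B'] [CommRing B] [IsLocalRing B] (π : B' →+* B) (hπ : Function.Surjective π)
    (hker : RingHom.ker π ^ 2 = ⊥) (s : Spec (CommRingCat.of B') ⟶ S)
    (α : (yon S).obj (Over.mk (Spec.map (CommRingCat.ofHom π) ≫ s)) ⟶ X.obj) (β : (yon S).obj (Over.mk s) ⟶ Y.obj)
    (hα : Points.ofPt α (closedPoint B) = x)
    (w : α ≫ f.hom = (yon S).map (Over.homMk (Spec.map (CommRingCat.ofHom π)) :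
      Over.mk (Spec.map (CommRingCat.ofHom π) ≫ s) ⟶ Over.mk s) ≫ β) :
    ∃ γ : (yon S).obj (Over.mk s) ⟶ X.obj, (yon S).map (Over.homMk (Spec.map (CommRingCat.ofHom π)) :
      Over.mk (Spec.map (CommRingCat.ofHom π) ≫ s) ⟶ Over.mk s) ≫ γ = α ∧ γ ≫ f.hom = β := by
  obtain ⟨U, V, a, b, h, u, ha, hb, wab, hu, W, huW, hsm⟩ := hx
  let W' : Over S := Over.mk (W.ι ≫ U.hom)
  let ι : W' ⟶ U := Over.homMk W.ι rfl
  have hι : RepWith @Etale ((yon S).map ι) := (repWith_yon_map_iff _ _).2 (inferInstanceAs (Etale W.ι))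
  let a' := (yon S).map ι ≫ a
  have ha' : RepWith @Etale a' := repWith_comp hι ha
  obtain ⟨X₀, jX, hjX, hr⟩ := exists_openSubspace X (isOpenMap_ofPt ha' |>.isOpen_range)
  have hr' : Set.range (Points.map a') ⊆ Set.range (Points.map jX.hom) := by
    rintro _ ⟨z, rfl⟩
    obtain ⟨z, rfl⟩ := (Points.schemeEquiv W').surjective z
    exact hr.ge ⟨z, (Points.ofPt_eq_map_ofScheme a' z)⟩
  obtain ⟨a₀, ha₀⟩ := exists_lift_openImm hjX a' hr'
  have : Mono jX.hom := mono_of_repWith (fun _ _ e (_ : IsOpenImmersion e) => inferInstance) hjX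
  have sqa : IsPullback (𝟙 _) a₀ a' jX.hom :=
    ⟨⟨by rw [Category.id_comp, ha₀]⟩, ⟨PullbackCone.IsLimit.mk (by rw [Category.id_comp, ha₀])
      (fun s => s.fst) (fun s => Category.comp_id _)
      (fun s => by rw [← cancel_mono jX.hom, Category.assoc, ha₀]; exact s.condition)
      (fun s m h _ => by simpa using h)⟩⟩
  have he₀ : RepWith @Etale a₀ := repWith_of_isPullback sqa ha'
  have hs₀ : RepWith @Surjective a₀ := by
    refine (repWith_surjective_iff he₀.1).2 fun z => ?_
    obtain ⟨v, hv⟩ := hr.le ⟨z, rfl⟩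
    refine ⟨Points.ofScheme W' v, injective_map_of_sq (f := jX.hom) (fun T b => ?_) ?_⟩
    · obtain ⟨V, fst, snd, sqj⟩ := exists_sq hjX.1 b
      have : IsOpenImmersion snd.left := hjX.2 _ _ _ sqj
      exact ⟨V, fst, snd, sqj, snd.left.isOpenEmbedding.injective⟩
    · rw [← Points.map_comp, ha₀, ← Points.ofPt_eq_map_ofScheme, hv]
  have hsmW : Smooth (ι ≫ h).left := hsm
  have hloc : LocP @Smooth (jX.hom ≫ f.hom) := locP_of_chart he₀ hs₀ hb (h := ι ≫ h) (by
    rw [← Category.assoc, ha₀, Category.assoc, wab, Functor.map_comp, Category.assoc]) hsmW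
  obtain ⟨α₀, hα₀⟩ := exists_lift_openImm hjX α (by
    refine (range_ofPt_subset α (isOpenMap_ofPt ha' |>.isOpen_range) ?_).trans hr.ge
    rw [hα, ← hu]
    obtain ⟨w', hw'⟩ : u ∈ Set.range W.ι := by rw [Scheme.Opens.range_ι]; exact huW
    refine ⟨w', ?_⟩
    rw [ofPt_comp]
    exact congrArg (Points.ofPt a) hw')
  obtain ⟨γ, h₁, h₂⟩ := exists_lift_of_formallySmooth
    (((locP_smooth_iff X₀.property Y.property).1 hloc).2) π hπ hker s α₀ β
    (by rw [← Category.assoc, hα₀]; exact w)
  exact ⟨γ ≫ jX.hom, by rw [← Category.assoc, h₁, hα₀], by rw [Category.assoc]; exact h₂⟩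

/-- The kernel of a small extension has square zero. -/
theorem ker_sq_of_small {B' B : Type u} [CommRing B'] [IsLocalRing B'] [CommRing B] [Nontrivial B] (π : B' →+* B)
    (ht : ∃ t : B', RingHom.ker π = Ideal.span {t} ∧ ∀ a ∈ maximalIdeal B', a * t = 0) :
    RingHom.ker π ^ 2 = ⊥ := by
  obtain ⟨t, ht, htm⟩ := ht
  have htmem : t ∈ maximalIdeal B' := by
    refine (mem_maximalIdeal t).2 fun htu => ?_
    have : (1 : B') ∈ RingHom.ker π := by rw [ht, Ideal.span_singleton_eq_top.2 htu]; trivial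
    exact one_ne_zero (α := B) (by rw [← map_one π]; exact this)
  rw [ht, Ideal.span_singleton_pow, Ideal.span_singleton_eq_bot, pow_two]
  exact htm t htmem

/-- A lift into the algebraic space along a small extension gives one into the affine chart. -/
theorem lift_of_space_lift {R A C : Type u} [CommRing R] [CommRing A] [CommRing C] [Algebra R A] [Algebra R C]
    (J : Ideal C) (hJ : J ^ 2 = ⊥) {X Y : Sp S} {f : X ⟶ Y} {U V : Over S} {a : (yon S).obj U ⟶ X}
    {b : (yon S).obj V ⟶ Y} {h : U ⟶ V} (ha : RepWith @Etale a) (hb : RepWith @Etale b)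
    (w : a ≫ f = (yon S).map h ≫ b) (i : Spec (CommRingCat.of A) ⟶ U.left) (j : Spec (CommRingCat.of R) ⟶ V.left)
    [IsOpenImmersion i] [Mono j] (hij : i ≫ h.left = Spec.map (CommRingCat.ofHom (algebraMap R A)) ≫ j)
    (g : A →ₐ[R] C ⧸ J)
    (hlift : ∀ (α : (yon S).obj (Over.mk (Spec.map (CommRingCat.ofHom (Ideal.Quotient.mk J)) ≫
        Spec.map (CommRingCat.ofHom (algebraMap R C)) ≫ j ≫ V.hom)) ⟶ X)
      (k : Over.mk (Spec.map (CommRingCat.ofHom (Ideal.Quotient.mk J)) ≫
        Spec.map (CommRingCat.ofHom (algebraMap R C)) ≫ j ≫ V.hom) ⟶ U),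
      k.left = Spec.map (CommRingCat.ofHom g.toRingHom) ≫ i → α = (yon S).map k ≫ a →
      ∀ m : Over.mk (Spec.map (CommRingCat.ofHom (algebraMap R C)) ≫ j ≫ V.hom) ⟶ V,
        m.left = Spec.map (CommRingCat.ofHom (algebraMap R C)) ≫ j →
        α ≫ f = (yon S).map (Over.homMk (Spec.map (CommRingCat.ofHom (Ideal.Quotient.mk J))) :
            Over.mk (Spec.map (CommRingCat.ofHom (Ideal.Quotient.mk J)) ≫
              Spec.map (CommRingCat.ofHom (algebraMap R C)) ≫ j ≫ V.hom) ⟶
            Over.mk (Spec.map (CommRingCat.ofHom (algebraMap R C)) ≫ j ≫ V.hom)) ≫ (yon S).map m ≫ b →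
        ∃ γ, (yon S).map (Over.homMk (Spec.map (CommRingCat.ofHom (Ideal.Quotient.mk J))) :
            Over.mk (Spec.map (CommRingCat.ofHom (Ideal.Quotient.mk J)) ≫
              Spec.map (CommRingCat.ofHom (algebraMap R C)) ≫ j ≫ V.hom) ⟶
            Over.mk (Spec.map (CommRingCat.ofHom (algebraMap R C)) ≫ j ≫ V.hom)) ≫ γ = α ∧
          γ ≫ f = (yon S).map m ≫ b) :
    ∃ g' : A →ₐ[R] C, (Ideal.Quotient.mkₐ R J).comp g' = g := by
  let str := Spec.map (CommRingCat.ofHom (algebraMap R C)) ≫ j ≫ V.hom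
  let T' : Over S := Over.mk str
  let T : Over S := Over.mk (Spec.map (CommRingCat.ofHom (Ideal.Quotient.mk J)) ≫ str)
  let jT : T ⟶ T' := Over.homMk (Spec.map (CommRingCat.ofHom (Ideal.Quotient.mk J))) rfl
  have hg : g.toRingHom.comp (algebraMap R A) = (Ideal.Quotient.mk J).comp (algebraMap R C) := g.comp_algebraMap
  let k : T ⟶ U := Over.homMk (Spec.map (CommRingCat.ofHom g.toRingHom) ≫ i) (by
    change (_ ≫ _) ≫ U.hom = Spec.map (CommRingCat.ofHom (Ideal.Quotient.mk J)) ≫ str
    rw [← Over.w h, Category.assoc, ← Category.assoc i, hij, Category.assoc, ← Spec.map_comp_assoc,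
      ← CommRingCat.ofHom_comp, hg, CommRingCat.ofHom_comp, Spec.map_comp_assoc])
  let m : T' ⟶ V := Over.homMk (Spec.map (CommRingCat.ofHom (algebraMap R C)) ≫ j) (Category.assoc _ _ _)
  have hkm : k ≫ h = jT ≫ m := Over.OverMorphism.ext (by
    simp only [Over.comp_left, k, jT, m, Over.homMk_left, Category.assoc, hij]
    rw [← Spec.map_comp_assoc, ← CommRingCat.ofHom_comp, hg, CommRingCat.ofHom_comp, Spec.map_comp_assoc])
  have hαf : ((yon S).map k ≫ a) ≫ f = (yon S).map jT ≫ (yon S).map m ≫ b := by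
    rw [Category.assoc, w, ← Functor.map_comp_assoc, hkm, Functor.map_comp_assoc]
  obtain ⟨γ, hγ₁, hγ₂⟩ := hlift _ k rfl rfl m rfl hαf
  obtain ⟨l, ⟨hl₁, hl₂⟩, -⟩ := etale_of_repWith_etale ha
    { A := C, I := J, sq_zero := hJ, str := str, top := (yon S).map k, bot := γ, comm := hγ₁.symm }
  have hl₁ : (yon S).map jT ≫ l = (yon S).map k := hl₁
  have hl₂ : l ≫ a = γ := hl₂
  have hlh : l ≫ (yon S).map h = (yon S).map m := by
    refine (etale_of_repWith_etale hb
      { A := C, I := J, sq_zero := hJ, str := str, top := (yon S).map (k ≫ h), bot := (yon S).map m ≫ b,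
        comm := by rw [hkm, Functor.map_comp, Category.assoc] }).unique ⟨?_, ?_⟩ ⟨?_, rfl⟩
    · change (yon S).map jT ≫ l ≫ (yon S).map h = (yon S).map (k ≫ h)
      rw [← Category.assoc, hl₁, Functor.map_comp]
    · change (l ≫ (yon S).map h) ≫ b = (yon S).map m ≫ b
      exact (Category.assoc _ _ _).trans ((congrArg (l ≫ ·) w.symm).trans ((Category.assoc _ _ _).symm.trans
        ((congrArg (· ≫ f) hl₂).trans hγ₂)))
    · change (yon S).map jT ≫ (yon S).map m = (yon S).map (k ≫ h)
      rw [hkm, Functor.map_comp]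
  let p := pre l
  have hp₁ : Spec.map (CommRingCat.ofHom (Ideal.Quotient.mk J)) ≫ p.left =
      Spec.map (CommRingCat.ofHom g.toRingHom) ≫ i := by
    have : jT ≫ p = k := (yon S).map_injective (by rw [Functor.map_comp, map_pre]; exact hl₁)
    exact congrArg CommaMorphism.left this
  have hp₂ : p.left ≫ h.left = Spec.map (CommRingCat.ofHom (algebraMap R C)) ≫ j := by
    have : p ≫ h = m := (yon S).map_injective (by rw [Functor.map_comp, map_pre]; exact hlh)
    exact congrArg CommaMorphism.left this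
  -- the lift lands in the affine chart
  have hrange : Set.range p.left ⊆ Set.range i := by
    rintro _ ⟨z, rfl⟩
    have hs : Function.Surjective (Spec.map (CommRingCat.ofHom (Ideal.Quotient.mk J))) := fun z => by
      have : z ∈ PrimeSpectrum.zeroLocus (J : Set C) := fun x hx =>
        z.isPrime.mem_of_pow_mem 2 (by
          have : x ^ 2 ∈ J ^ 2 := Ideal.pow_mem_pow hx 2
          rw [hJ] at this
          rw [(Submodule.mem_bot _).1 this]
          exact zero_mem _)
      rw [← Ideal.mk_ker (I := J), ← range_comap_of_surjective _ _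
        Ideal.Quotient.mk_surjective] at this
      exact this
    obtain ⟨z', rfl⟩ := hs z
    exact ⟨Spec.map (CommRingCat.ofHom g.toRingHom) z', (congr($(hp₁) z')).symm⟩
  let q := IsOpenImmersion.lift i p.left hrange
  have hq : q ≫ i = p.left := IsOpenImmersion.lift_fac _ _ _
  let g₀ := Spec.preimage q
  have e₁ : g₀ ≫ CommRingCat.ofHom (Ideal.Quotient.mk J) = CommRingCat.ofHom g.toRingHom := Spec.map_injective (by
    rw [Spec.map_comp, Spec.map_preimage, ← cancel_mono i, Category.assoc, hq, hp₁])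
  have e₂ : CommRingCat.ofHom (algebraMap R A) ≫ g₀ = CommRingCat.ofHom (algebraMap R C) := Spec.map_injective (by
    rw [Spec.map_comp, Spec.map_preimage, ← cancel_mono j, Category.assoc, ← hij]
    exact (Category.assoc q i h.left).symm.trans ((congrArg (· ≫ h.left) hq).trans hp₂))
  exact ⟨{ g₀.hom with commutes' := fun r => congr($(e₂) r) }, AlgHom.ext fun x => congr($(e₁) x)⟩

/-- An affine chart at a point, of a morphism with Noetherian base. -/
theorem exists_affine_pair {U V : Scheme.{u}} (h : U ⟶ V) [IsLocallyNoetherian V] [LocallyOfFiniteType h] (u : U) :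
    ∃ (R A : Type u) (_ : CommRing R) (_ : CommRing A) (_ : Algebra R A)
      (i : Spec (CommRingCat.of A) ⟶ U) (j : Spec (CommRingCat.of R) ⟶ V) (p : PrimeSpectrum A),
      IsNoetherianRing R ∧ Algebra.FiniteType R A ∧ IsOpenImmersion i ∧ IsOpenImmersion j ∧
      i ≫ h = Spec.map (CommRingCat.ofHom (algebraMap R A)) ≫ j ∧ i p = u := by
  obtain ⟨_, ⟨V₀, hV, rfl⟩, huV, -⟩ :=
    V.isBasis_affineOpens.exists_subset_of_mem_open (Set.mem_univ (h u)) isOpen_univ
  obtain ⟨_, ⟨U₀, hU, rfl⟩, huU, hUV⟩ :=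
    U.isBasis_affineOpens.exists_subset_of_mem_open (show u ∈ (h ⁻¹ᵁ V₀).1 from huV) (h ⁻¹ᵁ V₀).2
  have hft := HasRingHomProperty.appLE @LocallyOfFiniteType h ‹_› ⟨V₀, hV⟩ ⟨U₀, hU⟩ hUV
  let _ := (h.appLE V₀ U₀ hUV).hom.toAlgebra
  have : IsNoetherianRing Γ(V, V₀) := IsLocallyNoetherian.component_noetherian ⟨V₀, hV⟩
  obtain ⟨p, hp⟩ : u ∈ Set.range (hU : IsAffineOpen U₀).fromSpec := by
    rw [IsAffineOpen.range_fromSpec]; exact huU
  refine ⟨Γ(V, V₀), Γ(U, U₀), inferInstance, inferInstance, inferInstance, (hU : IsAffineOpen U₀).fromSpec,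
    (hV : IsAffineOpen V₀).fromSpec, p, this, RingHom.finiteType_algebraMap.1 hft, inferInstance, inferInstance, ?_, hp⟩
  exact (IsAffineOpen.SpecMap_appLE_fromSpec h hV (hU : IsAffineOpen U₀) hUV).symm

theorem smoothAt_iff_lift {X Y : Space S} (f : X ⟶ Y)
    (hY : IsLocNoethSp Y.obj) (hft : LocP @LocallyOfFiniteType f.hom) (x : Points X.obj)
    (H : ∀ (B' B : Type u) [CommRing B'] [CommRing B] [IsLocalRing B'] [IsLocalRing B]
        [IsArtinianRing B'] [IsArtinianRing B] (π : B' →+* B), Function.Surjective π →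
        (∃ t : B', RingHom.ker π = Ideal.span {t} ∧ ∀ a ∈ maximalIdeal B', a * t = 0) →
        ∀ (s : Spec (CommRingCat.of B') ⟶ S)
          (α : (yon S).obj (Over.mk (Spec.map (CommRingCat.ofHom π) ≫ s)) ⟶ X.obj)
          (β : (yon S).obj (Over.mk s) ⟶ Y.obj),
          Points.ofPt α (closedPoint B) = x →
          α ≫ f.hom = (yon S).map (Over.homMk (Spec.map (CommRingCat.ofHom π)) :
              Over.mk (Spec.map (CommRingCat.ofHom π) ≫ s) ⟶ Over.mk s) ≫ β →
          ∃ γ : (yon S).obj (Over.mk s) ⟶ X.obj,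
            (yon S).map (Over.homMk (Spec.map (CommRingCat.ofHom π)) :
              Over.mk (Spec.map (CommRingCat.ofHom π) ≫ s) ⟶ Over.mk s) ≫ γ = α ∧ γ ≫ f.hom = β) :
    HasAtMor (fun U _ h u => ∃ W : U.Opens, u ∈ W ∧ Smooth (W.ι ≫ h)) f.hom x := by
  obtain ⟨V, b, hb, hbs, hV⟩ := hY
  obtain ⟨U₀, a₀, ha₀, ha₀s⟩ := X.property.atlas
  obtain ⟨U, a, h, ha, has, w⟩ := exists_chart_over f.hom ha₀ ha₀s hb hbs
  obtain ⟨u, hu⟩ := surjective_ofPt has x
  have : LocallyOfFiniteType h.left := hft a b h ha hb w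
  obtain ⟨R, A, _, _, _, i, j, p, _, _, _, _, hij, hp⟩ := exists_affine_pair h.left u
  have : Algebra.IsSmoothAt R p.asIdeal := by
    refine isSmoothAt_of_lift_trivial p.asIdeal fun C _ _ _ _ t htm htk _ g hg _ => ?_
    have hJ : Ideal.span {t} ^ 2 = (⊥ : Ideal C) := by
      rw [Ideal.span_singleton_pow, Ideal.span_singleton_eq_bot, pow_two]
      exact htk t htm
    refine lift_of_space_lift _ hJ ha hb w i j hij g fun α k hk hα m _ hαf => ?_
    refine H C (C ⧸ Ideal.span {t}) (Ideal.Quotient.mk _) Ideal.Quotient.mk_surjective ⟨t, Ideal.mk_ker, htk⟩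
      _ α ((yon S).map m ≫ b) ?_ hαf
    rw [hα, ofPt_comp, ← hu, hk, Scheme.Hom.comp_apply, ← hp]
    congr 2
    exact PrimeSpectrum.ext hg
  have : Algebra.FinitePresentation R A := Algebra.FinitePresentation.of_finiteType.1 inferInstance
  obtain ⟨r, hr, hsm⟩ := Algebra.IsSmoothAt.exists_notMem_smooth R p.asIdeal
  let e : Spec (CommRingCat.of (Localization.Away r)) ⟶ Spec (CommRingCat.of A) :=
    Spec.map (CommRingCat.ofHom (algebraMap A (Localization.Away r)))
  have he : Smooth ((e ≫ i) ≫ h.left) := by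
    have : Smooth (Spec.map (CommRingCat.ofHom (algebraMap R (Localization.Away r)))) :=
      (HasRingHomProperty.Spec_iff (P := @Smooth)).2 (RingHom.smooth_algebraMap.2 hsm)
    rw [Category.assoc, hij, ← Category.assoc, ← Spec.map_comp, ← CommRingCat.ofHom_comp,
      ← IsScalarTower.algebraMap_eq]
    infer_instance
  refine ⟨U, V, a, b, h, u, ha, hb, w, hu, (e ≫ i).opensRange, ?_, ?_⟩
  · obtain ⟨q, hq⟩ : p ∈ Set.range e :=
      (PrimeSpectrum.localization_away_comap_range (Localization.Away r) r).ge hr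
    exact ⟨q, by rw [Scheme.Hom.comp_apply, hq, hp]⟩
  · rw [← MorphismProperty.cancel_left_of_respectsIso (P := @Smooth) (e ≫ i).isoOpensRange.hom,
      ← Category.assoc, Scheme.Hom.isoOpensRange_hom_ι]
    exact he

theorem smooth_iff_lift {X Y : Space S} (f : X ⟶ Y)
    (hY : IsLocNoethSp Y.obj) (hft : LocP @LocallyOfFiniteType f.hom) :
    LocP @Smooth f.hom ↔
      ∀ (B' B : Type u) [CommRing B'] [CommRing B] [IsLocalRing B'] [IsLocalRing B]
        [IsArtinianRing B'] [IsArtinianRing B] (π : B' →+* B), Function.Surjective π →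
        (∃ t : B', RingHom.ker π = Ideal.span {t} ∧ ∀ a ∈ maximalIdeal B', a * t = 0) →
        ∀ (s : Spec (CommRingCat.of B') ⟶ S)
          (α : (yon S).obj (Over.mk (Spec.map (CommRingCat.ofHom π) ≫ s)) ⟶ X.obj)
          (β : (yon S).obj (Over.mk s) ⟶ Y.obj),
          LocP @LocallyOfFiniteType β →
          α ≫ f.hom = (yon S).map (Over.homMk (Spec.map (CommRingCat.ofHom π)) :
              Over.mk (Spec.map (CommRingCat.ofHom π) ≫ s) ⟶ Over.mk s) ≫ β →
          ∃ γ : (yon S).obj (Over.mk s) ⟶ X.obj,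
            (yon S).map (Over.homMk (Spec.map (CommRingCat.ofHom π)) :
              Over.mk (Spec.map (CommRingCat.ofHom π) ≫ s) ⟶ Over.mk s) ≫ γ = α ∧ γ ≫ f.hom = β := by
  refine ⟨fun hf B' B _ _ _ _ _ _ π hπ ht s α β _ w =>
    exists_lift_of_formallySmooth ((locP_smooth_iff X.property Y.property).1 hf).2 π hπ (ker_sq_of_small π ht) s α β w,
    fun H => ?_⟩
  obtain ⟨V, b, hb, hbs, hV⟩ := hY
  obtain ⟨U₀, a₀, ha₀, ha₀s⟩ := X.property.atlas
  obtain ⟨U, a, h, ha, has, w⟩ := exists_chart_over f.hom ha₀ ha₀s hb hbs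
  have : LocallyOfFiniteType h.left := hft a b h ha hb w
  refine locP_of_chart ha has hb w ?_
  choose R A _ _ _ i j p _ _ hi hjo hij hp using fun u => exists_affine_pair h.left u
  have hA : ∀ u, Algebra.Smooth (R u) (A u) := fun u => by
    have hfp : Algebra.FinitePresentation (R u) (A u) := Algebra.FinitePresentation.of_finiteType.1 inferInstance
    have hmax : ∀ (q : Ideal (A u)) (hq : q.IsMaximal), haveI := hq.isPrime; Algebra.IsSmoothAt (R u) q := fun q hq => by
      have := hq.isPrime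
      refine isSmoothAt_of_lift_trivial q fun C _ _ _ _ t htm htk _ g hg hres => ?_
      have hJ : Ideal.span {t} ^ 2 = (⊥ : Ideal C) := by
        rw [Ideal.span_singleton_pow, Ideal.span_singleton_eq_bot, pow_two]
        exact htk t htm
      have hle : Ideal.span {t} ≤ maximalIdeal C := (Ideal.span_singleton_le_iff_mem _).2 htm
      let θ : C ⧸ Ideal.span {t} →+* ResidueField C := Ideal.Quotient.lift _ (residue C) fun c hc =>
        (residue_eq_zero_iff c).2 (hle hc)
      have hθ : ∀ z, θ z = 0 ↔ z ∈ maximalIdeal (C ⧸ Ideal.span {t}) := fun z => by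
        obtain ⟨c, rfl⟩ := Ideal.Quotient.mk_surjective z
        change residue C c = 0 ↔ _
        rw [residue_eq_zero_iff]
        exact ⟨fun hc => by
          rw [mem_maximalIdeal]
          refine fun hu => (mem_maximalIdeal c).1 hc ?_
          obtain ⟨d, hd⟩ := Ideal.Quotient.mk_surjective (↑hu.unit⁻¹ : C ⧸ Ideal.span {t})
          by_contra hne
          have h1 : c * d - 1 ∈ maximalIdeal C := hle (Ideal.Quotient.eq.1 (by simp [hd]))
          exact (maximalIdeal.isMaximal C).ne_top ((Ideal.eq_top_iff_one _).2 (by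
            simpa using sub_mem (Ideal.mul_mem_right d _ ((mem_maximalIdeal _).2 hne)) h1)),
          fun hc => (mem_maximalIdeal c).2 fun hu => (mem_maximalIdeal _).1 hc (hu.map _)⟩
      have hCft : Algebra.FiniteType (R u) C := by
        refine finiteType_of_residue (θ.comp g.toRingHom) (fun r => ?_) fun z => ?_
        · change θ (g (algebraMap _ _ r)) = _
          rw [g.commutes]; rfl
        · obtain ⟨c, rfl⟩ := residue_surjective z
          obtain ⟨a', b', hb', hab⟩ := hres c
          obtain ⟨y, i', hi', hy⟩ := Ideal.IsMaximal.exists_inv hq hb'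
          refine ⟨y * a', ?_⟩
          have h1 : residue C c * θ (g b') = θ (g a') := by
            have := (hθ _).2 hab
            rwa [map_sub, map_mul, sub_eq_zero] at this
          have h2 : θ (g y) * θ (g b') = 1 := by
            have h3 : θ (g i') = 0 := (hθ _).2 (hg.ge hi')
            have := congrArg (θ ∘ g) hy
            simpa [map_add, map_mul, h3] using this
          simp only [RingHom.comp_apply, AlgHom.toRingHom_eq_coe, RingHom.coe_coe, map_mul, ← h1]
          calc θ (g y) * (residue C c * θ (g b')) = residue C c * (θ (g y) * θ (g b')) := by ring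
            _ = residue C c := by rw [h2, mul_one]
      refine lift_of_space_lift _ hJ ha hb w (i u) (j u) (hij u) g fun α k _ _ m hm hαf => ?_
      have hlft : LocallyOfFiniteType m.left := by
        have : LocallyOfFiniteType (Spec.map (CommRingCat.ofHom (algebraMap (R u) C))) :=
          (HasRingHomProperty.Spec_iff (P := @LocallyOfFiniteType)).2 (RingHom.finiteType_algebraMap.2 hCft)
        have := hjo u
        rw [hm]
        infer_instance
      refine H C (C ⧸ Ideal.span {t}) (Ideal.Quotient.mk _) Ideal.Quotient.mk_surjective ⟨t, Ideal.mk_ker, htk⟩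
        _ α ((yon S).map m ≫ b) ?_ hαf
      exact locP_comp (IsAlgSpace.yon_obj _) (IsAlgSpace.yon_obj _) Y.property
        (locP_of_repWith (fun e f (_ : Etale e) (_ : LocallyOfFiniteType f) =>
          inferInstanceAs (LocallyOfFiniteType (e ≫ f))) ((repWith_yon_map_iff _ _).2 hlft))
        (locP_of_repWith (fun e f (_ : Etale e) (_ : LocallyOfFiniteType f) =>
          inferInstanceAs (LocallyOfFiniteType (e ≫ f)))
          (repWith_mono (fun _ _ e (_ : Etale e) => inferInstanceAs (LocallyOfFiniteType e)) hb))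
    refine ⟨?_, hfp⟩
    rw [← Algebra.smoothLocus_eq_univ_iff, Set.eq_univ_iff_forall]
    intro q
    obtain ⟨M, hM, hqM⟩ := q.asIdeal.exists_le_maximal q.isPrime.ne_top
    exact ((PrimeSpectrum.le_iff_specializes q ⟨M, hM.isPrime⟩).1 hqM).mem_open Algebra.isOpen_smoothLocus
      (hmax M hM)
  refine (IsZariskiLocalAtSource.iff_of_iSup_eq_top (P := @Smooth) (fun u => (i u).opensRange)
    (TopologicalSpace.Opens.ext (Set.eq_univ_of_forall fun z =>
      Set.mem_of_mem_of_subset (⟨p z, hp z⟩ : z ∈ Set.range (i z)) (fun w hw =>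
        TopologicalSpace.Opens.mem_iSup.2 ⟨z, hw⟩)))).2 fun u => ?_
  have := hjo u
  have : Smooth (Spec.map (CommRingCat.ofHom (algebraMap (R u) (A u)))) :=
    (HasRingHomProperty.Spec_iff (P := @Smooth)).2 (RingHom.smooth_algebraMap.2 (hA u))
  have := hi u
  rw [← MorphismProperty.cancel_left_of_respectsIso (P := @Smooth) (i u).isoOpensRange.hom,
    ← Category.assoc, Scheme.Hom.isoOpensRange_hom_ι, hij u]
  infer_instance

end Groth.Agent.AlgSpLoc
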