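import Groth.Agent.AlgSpLoc.EtSmDescentSch
import Groth.Agent.AlgSpLoc.EtaleLift
import Groth.Agent.AlgSpc.EtLocInst
import Groth.Prelude.Def_AlgSpInf
import Mathlib.RingTheory.RingHom.Etale
import Mathlib.RingTheory.RingHom.Smooth
import Mathlib.RingTheory.Smooth.Locus

/-!
Smooth morphisms lift etale locally along thickenings.
-/

set_option autoImplicit false
set_option backward.isDefEq.respectTransparency false

universe u

open CategoryTheory CategoryTheory.Limits AlgebraicGeometry TensorProduct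

namespace Groth.Agent.AlgSpLoc

open _root_.AlgSp Groth.Agent.AlgSpc

section Algebra

/-- Smooth algebras lift along nil ideals. -/
theorem exists_lift_nil {R C A : Type u} [CommRing R] [CommRing C] [CommRing A] [Algebra R C] [Algebra R A]
    [Algebra.Smooth R C] (J : Ideal A) (hJ : ∀ x ∈ J, IsNilpotent x) (φ : C →ₐ[R] A ⧸ J) :
    ∃ ψ : C →ₐ[R] A, (Ideal.Quotient.mkₐ R J).comp ψ = φ := by
  obtain ⟨n, π, hπ, hker⟩ := (Algebra.Smooth.finitePresentation (R := R) (A := C)).out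
  choose a ha using fun i => Ideal.Quotient.mk_surjective (φ (π (MvPolynomial.X i)))
  let ev : MvPolynomial (Fin n) R →ₐ[R] A := MvPolynomial.aeval a
  have hev : (Ideal.Quotient.mkₐ R J).comp ev = φ.comp π := MvPolynomial.algHom_ext fun i => by simp [ev, ha]
  let J₀ : Ideal A := (RingHom.ker π.toRingHom).map ev.toRingHom
  have hle : J₀ ≤ J := Ideal.map_le_iff_le_comap.2 fun x hx => by
    rw [Ideal.mem_comap, ← Ideal.Quotient.eq_zero_iff_mem]
    rw [RingHom.mem_ker] at hx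
    exact (congr($(hev) x)).trans (by
      simp only [AlgHom.comp_apply]
      rw [show π x = 0 from hx, map_zero])
  have hnil : IsNilpotent J₀ :=
    (Ideal.FG.isNilpotent_iff_le_nilradical (hker.map _)).2 fun x hx => hJ x (hle hx)
  have hf : RingHom.ker π.toRingHom ≤ RingHom.ker ((Ideal.Quotient.mkₐ R J₀).comp ev).toRingHom := fun x hx => by
    rw [RingHom.mem_ker]
    exact Ideal.Quotient.eq_zero_iff_mem.2 (Ideal.mem_map_of_mem _ hx)
  let φ₀ : C →ₐ[R] A ⧸ J₀ := AlgHom.liftOfSurjective π hπ ((Ideal.Quotient.mkₐ R J₀).comp ev) hf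
  obtain ⟨ψ, hψ⟩ := Algebra.FormallySmooth.exists_lift (R := R) J₀ hnil φ₀
  refine ⟨ψ, AlgHom.ext fun c => ?_⟩
  obtain ⟨x, rfl⟩ := hπ c
  have h₁ : Ideal.Quotient.mk J₀ (ψ (π x)) = Ideal.Quotient.mk J₀ (ev x) := by
    refine (congr($(hψ) (π x))).trans ?_
    simp [φ₀, AlgHom.liftOfSurjective_apply]
  have h₂ : Ideal.Quotient.mk J (ψ (π x)) = Ideal.Quotient.mk J (ev x) :=
    Ideal.Quotient.eq.2 (hle (Ideal.Quotient.eq.1 h₁))
  exact h₂.trans congr($(hev) x)

end Algebra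

section Scheme

/-- The scheme level statement. -/
theorem exists_etale_smooth_lift {P V' W U V : Scheme.{u}} (j : P ⟶ V') [IsClosedImmersion j] [Surjective j]
    (q : W ⟶ P) [Etale q] (w : W) (h : U ⟶ V) [Smooth h] (g : W ⟶ U) (β : V' ⟶ V) (hg : q ≫ j ≫ β = g ≫ h) :
    ∃ (V₁ P₁ : Scheme.{u}) (ε : V₁ ⟶ V') (ℓ : V₁ ⟶ U) (p₁ : P₁ ⟶ P) (p₂ : P₁ ⟶ V₁) (σ : P₁ ⟶ W) (v₁ : V₁),
      Etale ε ∧ ℓ ≫ h = ε ≫ β ∧ IsPullback p₁ p₂ j ε ∧ σ ≫ q = p₁ ∧ σ ≫ g = p₂ ≫ ℓ ∧ ε v₁ = j (q w) := by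
  -- affine charts of `h` at the image of `w`
  obtain ⟨_, ⟨V₀, hV, rfl⟩, hwV, -⟩ :=
    V.isBasis_affineOpens.exists_subset_of_mem_open (Set.mem_univ (h (g w))) isOpen_univ
  obtain ⟨_, ⟨U₀, hU, rfl⟩, hwU, hUV⟩ :=
    U.isBasis_affineOpens.exists_subset_of_mem_open (show g w ∈ (h ⁻¹ᵁ V₀).1 from hwV) (h ⁻¹ᵁ V₀).2
  have hsm := HasRingHomProperty.appLE @Smooth h ‹_› ⟨V₀, hV⟩ ⟨U₀, hU⟩ hUV
  have hv : j (q w) ∈ (β ⁻¹ᵁ V₀).1 := by
    change β (j (q w)) ∈ V₀
    rw [show β (j (q w)) = h (g w) from congr($(hg) w)]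
    exact hwV
  obtain ⟨_, ⟨V'₀, hV', rfl⟩, hwV', hV'V⟩ :=
    V'.isBasis_affineOpens.exists_subset_of_mem_open hv (β ⁻¹ᵁ V₀).2
  let R₀ := Γ(V, V₀)
  let C := Γ(U, U₀)
  let R := Γ(V', V'₀)
  let iV : Spec R₀ ⟶ V := (hV : IsAffineOpen V₀).fromSpec
  let iU : Spec C ⟶ U := (hU : IsAffineOpen U₀).fromSpec
  let iV' : Spec R ⟶ V' := (hV' : IsAffineOpen V'₀).fromSpec
  let φh : R₀ ⟶ C := h.appLE V₀ U₀ hUV
  have eh : Spec.map φh ≫ iV = iU ≫ h :=
    IsAffineOpen.SpecMap_appLE_fromSpec h hV (hU : IsAffineOpen U₀) hUV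
  let φβ : R₀ ⟶ R := β.appLE V₀ V'₀ hV'V
  have eβ : Spec.map φβ ≫ iV = iV' ≫ β :=
    IsAffineOpen.SpecMap_appLE_fromSpec β hV (hV' : IsAffineOpen V'₀) hV'V
  -- the closed subscheme over the affine open
  obtain ⟨I, e, he⟩ := IsClosedImmersion.Spec_iff.1 (inferInstance : IsClosedImmersion (pullback.snd j iV'))
  have sP : IsPullback (e.inv ≫ pullback.fst j iV') (Spec.map (CommRingCat.ofHom (Ideal.Quotient.mk I))) j iV' :=
    (IsPullback.of_hasPullback j iV').of_iso e (Iso.refl _) (Iso.refl _) (Iso.refl _) (by simp)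
      (by simp [he]) (by simp) (by simp)
  let iP : Spec (CommRingCat.of (R ⧸ I)) ⟶ P := e.inv ≫ pullback.fst j iV'
  let mkI : Spec (CommRingCat.of (R ⧸ I)) ⟶ Spec R := Spec.map (CommRingCat.ofHom (Ideal.Quotient.mk I))
  have hIsurj : Surjective mkI := MorphismProperty.of_isPullback (P := @Surjective) sP ‹_›
  have hInil : I ≤ nilradical R := by
    refine (PrimeSpectrum.zeroLocus_eq_univ_iff _).1 (Set.eq_univ_of_forall fun z => ?_)
    obtain ⟨z', rfl⟩ := mkI.surjective z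
    intro x hx
    change Ideal.Quotient.mk I x ∈ z'.asIdeal
    rw [Ideal.Quotient.eq_zero_iff_mem.2 hx]
    exact zero_mem _
  -- an affine open of the etale scheme over it
  have sW := IsPullback.of_hasPullback q iP
  obtain ⟨p₀, hp₀⟩ : j (q w) ∈ Set.range iV' := by
    rw [IsAffineOpen.range_fromSpec]; exact hwV'
  obtain ⟨pI, hpI₁, hpI₂⟩ := Scheme.exists_preimage_of_isPullback sP (q w) p₀ hp₀.symm
  obtain ⟨z₀, hz₁, hz₂⟩ := Scheme.exists_preimage_of_isPullback sW w pI hpI₁.symm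
  let g' : pullback q iP ⟶ U := pullback.fst q iP ≫ g
  have hz₀ : z₀ ∈ (g' ⁻¹ᵁ U₀).1 := by
    change g (pullback.fst q iP z₀) ∈ U₀
    rw [hz₁]; exact hwU
  obtain ⟨_, ⟨W₀, hW, rfl⟩, hzW, hWle⟩ :=
    (pullback q iP).isBasis_affineOpens.exists_subset_of_mem_open hz₀ (g' ⁻¹ᵁ U₀).2
  let A₀ := Γ(pullback q iP, W₀)
  let iW : Spec A₀ ⟶ pullback q iP := (hW : IsAffineOpen W₀).fromSpec
  let θ : CommRingCat.of (R ⧸ I) ⟶ A₀ := Spec.preimage (iW ≫ pullback.snd q iP)
  have hθ : Spec.map θ = iW ≫ pullback.snd q iP := Spec.map_preimage _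
  have hθet : θ.hom.Etale := (HasRingHomProperty.Spec_iff (P := @Etale)).1 (by
    rw [hθ]
    have : Etale (pullback.snd q iP) := MorphismProperty.pullback_snd (P := @Etale) _ _ ‹_›
    infer_instance)
  let _ := θ.hom.toAlgebra
  have : Algebra.Etale (R ⧸ I) A₀ := RingHom.etale_algebraMap.1 hθet
  obtain ⟨A, _, _, _, ⟨eA⟩⟩ := exists_etale_lift R I A₀
  let π : A →+* A₀ := eA.toRingEquiv.toRingHom.comp
    (Algebra.TensorProduct.includeRight : A →ₐ[R] (R ⧸ I) ⊗[R] A).toRingHom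
  let _ : Algebra A A₀ := π.toAlgebra
  let _ : Algebra R A₀ := ((algebraMap (R ⧸ I) A₀).comp (algebraMap R (R ⧸ I))).toAlgebra
  have : IsScalarTower R (R ⧸ I) A₀ := IsScalarTower.of_algebraMap_eq fun _ => rfl
  have hπR : ∀ r, π (algebraMap R A r) = algebraMap (R ⧸ I) A₀ (Ideal.Quotient.mk I r) := fun r => by
    change eA ((Algebra.TensorProduct.includeRight : A →ₐ[R] (R ⧸ I) ⊗[R] A) (algebraMap R A r)) = _
    rw [AlgHom.commutes, IsScalarTower.algebraMap_apply R (R ⧸ I) ((R ⧸ I) ⊗[R] A), AlgEquiv.commutes]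
    rfl
  have : IsScalarTower R A A₀ := IsScalarTower.of_algebraMap_eq fun r => (hπR r).symm
  have hπs : Function.Surjective π := eA.surjective.comp
    (Algebra.TensorProduct.includeRight_surjective A Ideal.Quotient.mk_surjective)
  have hnil : ∀ x ∈ RingHom.ker π, IsNilpotent x := fun x hx => by
    have hx' : (1 : R ⧸ I) ⊗ₜ[R] x = 0 := eA.injective (by rw [map_zero]; exact hx)
    have : x ∈ I.map (algebraMap R A) := by
      have h1 := congrArg (TensorProduct.comm R (R ⧸ I) A) hx'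
      rw [map_zero, TensorProduct.comm_tmul] at h1
      rw [← Ideal.Quotient.eq_zero_iff_mem]
      apply (Algebra.TensorProduct.quotIdealMapEquivTensorQuot A I).injective
      rw [map_zero]
      exact (Algebra.TensorProduct.quotIdealMapEquivTensorQuot_mk A I x).trans h1
    refine mem_nilradical.1 ((Ideal.map_le_iff_le_comap.2 fun r hr => ?_) this)
    exact mem_nilradical.2 ((mem_nilradical.1 (hInil hr)).map _)
  -- the lift
  let _ := φh.hom.toAlgebra
  have : Algebra.Smooth R₀ C := RingHom.smooth_algebraMap.1 hsm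
  let _ : Algebra R₀ A := ((algebraMap R A).comp φβ.hom).toAlgebra
  have hrange : Set.range (iW ≫ g') ⊆ Set.range iU := by
    rintro _ ⟨z, rfl⟩
    rw [IsAffineOpen.range_fromSpec]
    exact hWle (((hW : IsAffineOpen W₀).range_fromSpec).le ⟨z, rfl⟩)
  let ω : Spec A₀ ⟶ Spec C := IsOpenImmersion.lift iU (iW ≫ g') hrange
  have hω : ω ≫ iU = iW ≫ g' := IsOpenImmersion.lift_fac _ _ _
  let η := Spec.preimage ω
  have hη : φh ≫ η = φβ ≫ CommRingCat.ofHom (algebraMap R A) ≫ CommRingCat.ofHom π := Spec.map_injective (by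
    rw [← cancel_mono iV, Spec.map_comp, Spec.map_preimage, Category.assoc, eh, ← Category.assoc, hω,
      ← CommRingCat.ofHom_comp, show π.comp (algebraMap R A) = θ.hom.comp (Ideal.Quotient.mk I) from RingHom.ext hπR,
      CommRingCat.ofHom_comp, CommRingCat.ofHom_hom, Spec.map_comp, Spec.map_comp, Category.assoc, Category.assoc,
      Category.assoc, eβ, Category.assoc (Spec.map θ), ← sP.w_assoc, ← Category.assoc (Spec.map θ), hθ, Category.assoc, Category.assoc,
      Category.assoc, ← hg, pullback.condition_assoc]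
    simp only [iP, Category.assoc])
  let κ : (A ⧸ RingHom.ker π) ≃+* A₀ := RingHom.quotientKerEquivOfSurjective hπs
  let φ : C →ₐ[R₀] A ⧸ RingHom.ker π :=
    { κ.symm.toRingHom.comp η.hom with
      commutes' := fun r => κ.injective (by
        change κ (κ.symm (η.hom (φh.hom r))) = π (algebraMap R A (φβ.hom r))
        rw [κ.apply_symm_apply]
        exact congr($(hη) r)) }
  obtain ⟨ψ, hψ⟩ := exists_lift_nil (RingHom.ker π) hnil φ
  have hψ' : π.comp ψ.toRingHom = η.hom := RingHom.ext fun c => by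
    have : Ideal.Quotient.mk (RingHom.ker π) (ψ c) = κ.symm (η.hom c) := congr($(hψ) c)
    exact ((congrArg κ this).trans (κ.apply_symm_apply _))
  let ε : Spec (CommRingCat.of A) ⟶ V' := Spec.map (CommRingCat.ofHom (algebraMap R A)) ≫ iV'
  let p₂ : Spec A₀ ⟶ Spec (CommRingCat.of A) := Spec.map (CommRingCat.ofHom π)
  let : Algebra A ((R ⧸ I) ⊗[R] A) := Algebra.TensorProduct.rightAlgebra
  have : Algebra.IsPushout R (R ⧸ I) A A₀ :=
    Algebra.IsPushout.of_equiv (S' := (R ⧸ I) ⊗[R] A) eA (RingHom.ext fun a => rfl)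
  have sA : IsPullback (Spec.map θ) p₂ mkI (Spec.map (CommRingCat.ofHom (algebraMap R A))) :=
    isPullback_SpecMap_of_isPushout _ _ _ _ (CommRingCat.isPushout_iff_isPushout.mpr this)
  obtain ⟨v₀, hv₀⟩ : z₀ ∈ Set.range iW := by
    rw [IsAffineOpen.range_fromSpec]; exact hzW
  refine ⟨_, _, ε, Spec.map (CommRingCat.ofHom ψ.toRingHom) ≫ iU, Spec.map θ ≫ iP, p₂, iW ≫ pullback.fst q iP,
    p₂ v₀, ?_, ?_, sA.paste_horiz sP, ?_, ?_, ?_⟩
  · have : Etale (Spec.map (CommRingCat.ofHom (algebraMap R A))) :=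
      (HasRingHomProperty.Spec_iff (P := @Etale)).2 (RingHom.etale_algebraMap.2 inferInstance)
    infer_instance
  · rw [Category.assoc, ← eh, ← Category.assoc, ← Spec.map_comp, Category.assoc, ← eβ, ← Category.assoc,
      ← Spec.map_comp]
    congr 2
    ext r
    exact ψ.commutes r
  · rw [Category.assoc, pullback.condition, ← Category.assoc, ← hθ]
  · rw [← Category.assoc p₂, ← Spec.map_comp, Category.assoc, ← hω, show ω = Spec.map η from (Spec.map_preimage _).symm]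
    congr 2
    ext c
    exact (congr($(hψ') c)).symm
  · change (p₂ ≫ ε) v₀ = _
    rw [← sA.paste_horiz sP |>.w, hθ]
    simp only [Scheme.Hom.comp_apply, hv₀, iP]
    rw [← Scheme.Hom.comp_apply, hz₂]
    exact congrArg j hpI₁

end Scheme

end Groth.Agent.AlgSpLoc
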