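import Groth.Agent.AlgSpc.LocP
import Groth.Prelude.Def_AlgSpCov
import Mathlib.AlgebraicGeometry.Sites.Fpqc
import Mathlib.AlgebraicGeometry.Sites.Etale

/-!
`LocP P` is local on the source when `P` is.
-/

set_option autoImplicit false
set_option backward.isDefEq.respectTransparency false

universe u

open CategoryTheory CategoryTheory.Limits AlgebraicGeometry Opposite

namespace Groth.Agent.AlgSpLoc

open _root_.AlgSp Groth.Agent.AlgSpc

variable {S : Scheme.{u}}

/-- Precomposition of a morphism with `LocP P` by a morphism with `LocP W`. -/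
theorem locP_precomp {P W : MorphismProperty Scheme.{u}}
    (hpre : ∀ {A B C : Scheme.{u}} (e : A ⟶ B) (f : B ⟶ C), W e → P f → P (e ≫ f))
    (hd : ∀ {A B C : Scheme.{u}} (e : A ⟶ B) (f : B ⟶ C), Etale e → Surjective e → P (e ≫ f) → P f)
    {A X Y : Sp S} (hX : IsAlgSpace X) (hY : IsAlgSpace Y) {g : A ⟶ X} {f : X ⟶ Y}
    (hg : LocP W g) (hf : LocP P f) : LocP P (g ≫ f) := by
  intro U V a b h ha hb w
  have sR := IsPullback.of_hasPullback f b
  have hR : IsAlgSpace (pullback f b) := isAlgSpace_of_isPullback hX hY (IsAlgSpace.yon_obj V) sR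
  obtain ⟨W0, c, hc, hcs⟩ := hR.atlas
  have hm : RepWith @Etale (c ≫ pullback.fst f b) := repWith_comp hc (repWith_of_isPullback sR.flip hb)
  let k := pre (c ≫ pullback.snd f b)
  have hk : P k.left := hf _ b k hm hb (by simp [k, pullback.condition])
  let l := pullback.lift (a ≫ g) ((yon S).map h) (by rw [Category.assoc, w])
  obtain ⟨U', p, q, sq⟩ := exists_sq hc.1 l
  obtain ⟨p, rfl⟩ := (yon S).map_surjective p
  have hW : W p.left := hg ((yon S).map q ≫ a) (c ≫ pullback.fst f b) p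
    (repWith_comp ((repWith_yon_map_iff _ _).2 (hc.2 _ _ _ sq)) ha) hm (by
      rw [← Category.assoc ((yon S).map p), sq.w]; simp [l])
  refine hd q.left h.left (hc.2 _ _ _ sq) (hcs.2 _ _ _ sq) ?_
  have e : p ≫ k = q ≫ h := (yon S).map_injective (by
    rw [Functor.map_comp, map_pre, ← Category.assoc, sq.w]; simp [l])
  rw [← Over.comp_left, ← e, Over.comp_left]
  exact hpre _ _ hW hk

/-- Over a chart of the target of a family, etale charts of the members form a family. -/
theorem exists_chart_family {W : MorphismProperty Scheme.{u}} {ι : Type u} {X : Sp S} (Xi : ι → Sp S)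
    (g : ∀ i, Xi i ⟶ X) (hX : IsAlgSpace X) (hXi : ∀ i, IsAlgSpace (Xi i)) (hg : ∀ i, LocP W (g i))
    {U : Over S} {a : (yon S).obj U ⟶ X} (ha : RepWith @Etale a) :
    ∃ (Ui : ι → Over S) (ai : ∀ i, (yon S).obj (Ui i) ⟶ Xi i) (e : ∀ i, Ui i ⟶ U),
      (∀ i, RepWith @Etale (ai i) ∧ W (e i).left ∧ ai i ≫ g i = (yon S).map (e i) ≫ a) ∧
      (∀ (u : ↥U.left) (i : ι), Points.ofPt a u ∈ Set.range (Points.map (g i)) → u ∈ Set.range (e i).left) ∧
      (∀ (i : ι) ⦃T : Over S⦄ (c : T ⟶ U) (l : (yon S).obj T ⟶ Xi i), l ≫ g i = (yon S).map c ≫ a →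
        ∃ (T' : Over S) (q : T' ⟶ T) (t : T' ⟶ Ui i), Etale q.left ∧ Surjective q.left ∧ t ≫ e i = q ≫ c) := by
  have hR : ∀ i, IsAlgSpace (pullback (g i) a) := fun i =>
    isAlgSpace_of_isPullback (hXi i) hX (IsAlgSpace.yon_obj U) (IsPullback.of_hasPullback _ _)
  choose Ui w hw hws using fun i => (hR i).atlas
  refine ⟨Ui, fun i => w i ≫ pullback.fst (g i) a, fun i => pre (w i ≫ pullback.snd (g i) a),
    fun i => ⟨?_, ?_, ?_⟩, fun u i hu => ?_, fun i T c l hl => ?_⟩
  · exact repWith_comp (hw i) (repWith_of_isPullback (IsPullback.of_hasPullback (g i) a).flip ha)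
  · exact hg i _ a _
      (repWith_comp (hw i) (repWith_of_isPullback (IsPullback.of_hasPullback (g i) a).flip ha)) ha
      (by simp [pullback.condition])
  · simp [pullback.condition]
  · obtain ⟨z, hz⟩ := hu
    obtain ⟨r, -, hr⟩ := exists_point_of_isPullback (IsPullback.of_hasPullback (g i) a) z (Points.ofScheme U u)
      (by rw [hz, Points.ofPt_eq_map_ofScheme])
    obtain ⟨v, rfl⟩ := surjective_ofPt (hws i) r
    refine ⟨v, ?_⟩
    rw [Points.map_ofPt, ofPt_pre] at hr
    simpa using congrArg (Points.toScheme U) hr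
  · obtain ⟨T', t, q, sq⟩ := exists_sq (hw i).1 (pullback.lift l ((yon S).map c) hl)
    obtain ⟨t, rfl⟩ := (yon S).map_surjective t
    refine ⟨T', q, t, (hw i).2 _ _ _ sq, (hws i).2 _ _ _ sq, (yon S).map_injective ?_⟩
    rw [Functor.map_comp, map_pre, ← Category.assoc, sq.w]
    simp

/-- A covering family for a chart gives locality on the source. -/
theorem locP_iff_comp_of_isLocalAtSource {P W : MorphismProperty Scheme.{u}} {K : Precoverage Scheme.{u}}
    [P.IsLocalAtSource K]
    (hKid : ∀ {A B : Scheme.{u}} (e : A ⟶ B), W e →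
      Presieve.ofArrows (fun b : ULift.{u} Bool => if b.down then A else B)
        (fun b => match b with | ⟨true⟩ => e | ⟨false⟩ => 𝟙 B) ∈ K B)
    (hKsurj : ∀ {A B : Scheme.{u}} (e : A ⟶ B), Etale e → Surjective e → Presieve.singleton e ∈ K B)
    {ι : Type u} {X Y : Sp S} (Xi : ι → Sp S) (g : ∀ i, Xi i ⟶ X) (hX : IsAlgSpace X) (hY : IsAlgSpace Y)
    (hXi : ∀ i, IsAlgSpace (Xi i)) (hg : ∀ i, LocP W (g i))
    (hK : ∀ ⦃U : Over S⦄ (a : (yon S).obj U ⟶ X), RepWith @Etale a →
      ∀ (Ui : ι → Over S) (e : ∀ i, Ui i ⟶ U), (∀ i, W (e i).left) →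
        (∀ (u : ↥U.left) (i : ι), Points.ofPt a u ∈ Set.range (Points.map (g i)) → u ∈ Set.range (e i).left) →
        (∀ (i : ι) ⦃T : Over S⦄ (c : T ⟶ U) (l : (yon S).obj T ⟶ Xi i), l ≫ g i = (yon S).map c ≫ a →
          ∃ (T' : Over S) (q : T' ⟶ T) (t : T' ⟶ Ui i), Etale q.left ∧ Surjective q.left ∧ t ≫ e i = q ≫ c) →
        Presieve.ofArrows (fun i => (Ui i).left) (fun i => (e i).left) ∈ K U.left)
    (f : X ⟶ Y) : LocP P f ↔ ∀ i, LocP P (g i ≫ f) := by
  refine ⟨fun hf i => locP_precomp (fun e f he hf => ?_) (fun e f he hes h => ?_) hX hY (hg i) hf, fun h => ?_⟩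
  · exact MorphismProperty.IsLocalAtSource.comp (hKid e he) e (Presieve.ofArrows.mk (ULift.up true)) hf
  · exact MorphismProperty.IsLocalAtSource.of_forall_comp (hKsurj e he hes) fun _ _ hg => by cases hg; exact h
  · intro U V a b k ha hb w
    obtain ⟨Ui, ai, e, h1, h2, h3⟩ := exists_chart_family Xi g hX hXi hg ha
    refine MorphismProperty.IsLocalAtSource.of_forall_comp
      (hK a ha Ui e (fun i => (h1 i).2.1) h2 h3) fun _ _ hg => ?_
    obtain ⟨i⟩ := hg
    have hi := h i (ai i) b (e i ≫ k) (h1 i).1 hb (by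
      rw [← Category.assoc, (h1 i).2.2, Category.assoc, w, Functor.map_comp, Category.assoc])
    exact hi

theorem mem_precoverage_ite {W : MorphismProperty Scheme.{u}} (hWid : ∀ A : Scheme.{u}, W (𝟙 A))
    {A B : Scheme.{u}} (e : A ⟶ B) (he : W e) :
    Presieve.ofArrows (fun b : ULift.{u} Bool => if b.down then A else B)
      (fun b => match b with | ⟨true⟩ => e | ⟨false⟩ => 𝟙 B) ∈ Scheme.precoverage W B := by
  rw [Scheme.ofArrows_mem_precoverage_iff]
  exact ⟨fun x => ⟨⟨false⟩, x, rfl⟩, fun b => by rcases b with ⟨_ | _⟩; exacts [hWid B, he]⟩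

/-- The case of coverings given by a property of morphisms and surjectivity on points. -/
theorem isLocalOnSource_of_precoverage (W : MorphismProperty Scheme.{u}) (τ : MorphismProperty (Sp S))
    (hWid : ∀ A : Scheme.{u}, W (𝟙 A)) (hetW : ∀ {A B : Scheme.{u}} (e : A ⟶ B), Etale e → W e)
    (hτ : ∀ ⦃A B : Sp S⦄ (g : A ⟶ B), IsAlgSpace A → IsAlgSpace B → τ g → LocP W g)
    (P : MorphismProperty Scheme.{u}) [P.IsLocalAtSource (Scheme.precoverage W)] :
    IsLocalOnSource (fun _ _ Yi g => IsCover τ Yi g) (LocP (S := S) P) := by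
  intro ι X Xi g hX hXi hcov Y f hY
  refine locP_iff_comp_of_isLocalAtSource (K := Scheme.precoverage W)
    (fun e he => mem_precoverage_ite hWid e he) (fun {A B} e he hes => ?_) Xi g hX hY hXi
    (fun i => hτ _ (hXi i) hX (hcov.1 i)) (fun U a _ Ui e hWe hsurj _ => ?_) f
  · rw [← Presieve.ofArrows_pUnit.{0}, Scheme.ofArrows_mem_precoverage_iff]
    exact ⟨fun x => ⟨⟨⟩, hes.surj x⟩, fun _ => hetW e he⟩
  · rw [Scheme.ofArrows_mem_precoverage_iff]
    refine ⟨fun u => ?_, hWe⟩
    obtain ⟨i, hi⟩ := hcov.2 (Points.ofPt a u)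
    exact ⟨i, hsurj u i hi⟩

/-- The fpqc case. -/
theorem isLocalOnSource_fpqc (P : MorphismProperty Scheme.{u}) [P.IsLocalAtSource Scheme.fpqcPrecoverage] :
    IsLocalOnSource (IsFpqcCover (S := S)) (LocP P) := by
  intro ι X Xi g hX hXi hcov Y f hY
  refine locP_iff_comp_of_isLocalAtSource (K := Scheme.fpqcPrecoverage) (W := @Flat)
    (fun {A B} e he => ?_) (fun {A B} e he hes => ?_) Xi g hX hY hXi hcov.1
    (fun U a _ Ui e hWe _ hlift => ?_) f
  · refine ⟨?_, mem_precoverage_ite (fun A => (inferInstance : Flat (𝟙 A))) e he⟩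
    refine (Scheme.presieve₀_mem_qcPrecoverage_iff (E := ⟨ULift.{u} Bool, fun b => if b.down then A else B, fun b =>
      match b with | ⟨true⟩ => e | ⟨false⟩ => 𝟙 B⟩)).2 ⟨fun {V} hV => ?_⟩
    exact IsCompactOpenCovered.of_finite (f := fun b : ULift.{u} Bool =>
      ⇑(match b with | ⟨true⟩ => e | ⟨false⟩ => 𝟙 B : (if b.down then A else B) ⟶ B))
      (fun _ : Unit => (⟨false⟩ : ULift.{u} Bool)) (fun _ => V) (fun _ => hV.isCompact) (by simp [Set.iUnion_const])
  · refine Scheme.fppfPrecoverage_le_fpqcPrecoverage _ ?_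
    have : Etale e := he
    exact e.singleton_mem_fppfPrecoverage
  · refine ⟨(Scheme.presieve₀_mem_qcPrecoverage_iff (E := ⟨ι, fun i => (Ui i).left, fun i => (e i).left⟩)).2
      ⟨fun {Z} hZ => ?_⟩, ?_⟩
    · let Z' : Over S := Over.mk (Z.ι ≫ U.hom)
      let ι' : Z' ⟶ U := Over.homMk Z.ι rfl
      obtain ⟨m, W, c, hW, -, hsurj, hl⟩ := hcov.2 Z' hZ ((yon S).map ι' ≫ a)
      choose i l hl using hl
      choose T' q t hq hqs hte using fun j => hlift (i j) (c j ≫ ι') (l j)
        (by rw [hl j, Functor.map_comp, Category.assoc])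
      have hK : ∀ j, ∃ K : (T' j).left.Opens, IsCompact (K : Set (T' j).left) ∧ (q j).left '' K = Set.univ := by
        intro j
        have := hqs j
        have := hW j
        obtain ⟨K, hK, hK'⟩ := (q j).left.isOpenMap.exists_opens_image_eq_of_prespectralSpace
          (q j).left.continuous (by simp [Function.Surjective.range_eq (q j).left.surjective]) isOpen_univ
          isCompact_univ
        exact ⟨K, hK, hK'⟩
      choose K hKc hKu using hK
      refine IsCompactOpenCovered.of_comp (g := fun j => ⇑((q j).left ≫ (c j).left ≫ Z.ι)) (a := i)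
        (t := fun j => ⇑(t j).left) (fun j => (t j).left.continuous) (fun j => ?_)
        (fun i => (e i).left.continuous) Z.2 ?_
      · have := congrArg CommaMorphism.left (hte j)
        funext x
        exact congrArg (fun φ : (T' j).left ⟶ U.left => φ x) this.symm
      · refine IsCompactOpenCovered.of_finite id K hKc ?_
        ext z
        simp only [Set.mem_iUnion, Set.mem_image, id, SetLike.mem_coe, Scheme.Hom.comp_apply]
        constructor
        · rintro ⟨j, x, -, rfl⟩
          exact ((c j).left ((q j).left x)).2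
        · intro hz
          obtain ⟨j, w, hw⟩ := hsurj ⟨z, hz⟩
          obtain ⟨x, hx, rfl⟩ := (hKu j).ge (Set.mem_univ w)
          exact ⟨j, x, hx, congrArg Subtype.val hw⟩
    · rw [Scheme.ofArrows_mem_precoverage_iff]
      refine ⟨fun u => ?_, hWe⟩
      obtain ⟨_, ⟨Z, hZ, rfl⟩, hu, -⟩ := U.left.isBasis_affineOpens.exists_subset_of_mem_open
        (Set.mem_univ u) isOpen_univ
      let Z : U.left.Opens := Z
      let Z' : Over S := Over.mk (Z.ι ≫ U.hom)
      let ι' : Z' ⟶ U := Over.homMk Z.ι rfl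
      obtain ⟨m, W, c, -, -, hsurj, hl⟩ := hcov.2 Z' hZ ((yon S).map ι' ≫ a)
      obtain ⟨j, w, hw⟩ := hsurj ⟨u, hu⟩
      obtain ⟨i, l, hl⟩ := hl j
      obtain ⟨T', q, t, -, hqs, hte⟩ := hlift i (c j ≫ ι') l (by rw [hl, Functor.map_comp, Category.assoc])
      obtain ⟨x, rfl⟩ := hqs.surj w
      refine ⟨i, t.left x, ?_⟩
      have := congrArg (fun φ : T' ⟶ U => φ.left x) hte
      simp only [Over.comp_left, Scheme.Hom.comp_apply] at this
      rw [this]
      exact congrArg Subtype.val hw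

end Groth.Agent.AlgSpLoc
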