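import Groth.Agent.AlgSpLoc.ThickMor
import Groth.Agent.AlgStB.DiagSep

/-!
Separation properties along morphisms of thickenings.
-/

set_option autoImplicit false
set_option backward.isDefEq.respectTransparency false

universe u

open CategoryTheory CategoryTheory.Limits AlgebraicGeometry
open AlgSp

namespace Groth.Agent.AlgSpLoc

variable {S : Scheme.{u}}

theorem thick_isStableUnderComposition : (thick.{u}).IsStableUnderComposition where
  comp_mem f g hf hg := by
    have := hf.1
    have := hf.2
    have := hg.1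
    have := hg.2
    exact ⟨inferInstance, inferInstance⟩

variable {X X' Y Y' : Sp S} {i : X ⟶ X'} {j : Y ⟶ Y'} {f : X ⟶ Y} {f' : X' ⟶ Y'}

/-- The comparison map of fibre squares of a morphism of thickenings is a thickening. -/
theorem thick_pullbackMap (hi : RepWith thick i) (hj : RepWith thick j) (w : i ≫ f' = f ≫ j) :
    RepWith thick (pullback.map f f f' f' i i j w.symm w.symm) := by
  haveI := thick_isStableUnderComposition.{u}
  haveI := mono_of_thick hj
  have s₀ : IsPullback (pullback.fst f f) (pullback.snd f f) (i ≫ f') (i ≫ f') := by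
    rw [w]
    have sq := IsPullback.of_hasPullback f f
    refine ⟨⟨by rw [reassoc_of% sq.w]⟩, ⟨PullbackCone.IsLimit.mk _
      (fun s => sq.lift s.fst s.snd ((cancel_mono j).1 (by simpa using s.condition)))
      (fun s => sq.lift_fst _ _ _) (fun s => sq.lift_snd _ _ _) fun s m h₁ h₂ => ?_⟩⟩
    apply sq.hom_ext <;> simp [h₁, h₂]
  have s₁ := IsPullback.of_hasPullback f' (i ≫ f')
  let e₁ : pullback f f ⟶ pullback f' (i ≫ f') :=
    pullback.lift (pullback.fst f f ≫ i) (pullback.snd f f) (by rw [Category.assoc]; exact s₀.w)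
  have h₁ : IsPullback (pullback.fst f f) e₁ i (pullback.fst f' (i ≫ f')) :=
    IsPullback.of_bot (by rwa [show e₁ ≫ pullback.snd _ _ = pullback.snd f f from pullback.lift_snd _ _ _])
      (pullback.lift_fst _ _ _).symm s₁
  let e₂ : pullback f' (i ≫ f') ⟶ pullback f' f' :=
    pullback.lift (pullback.fst f' (i ≫ f')) (pullback.snd f' (i ≫ f') ≫ i)
      (by rw [Category.assoc]; exact s₁.w)
  have h₂ : IsPullback (pullback.snd f' (i ≫ f')) e₂ i (pullback.snd f' f') :=
    IsPullback.of_bot
      (by rw [show e₂ ≫ pullback.fst f' f' = pullback.fst f' (i ≫ f') from pullback.lift_fst _ _ _]; exact s₁.flip)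
      (pullback.lift_snd _ _ _).symm
      (IsPullback.of_hasPullback f' f').flip
  have h : pullback.map f f f' f' i i j w.symm w.symm = e₁ ≫ e₂ := by
    apply pullback.hom_ext <;> simp [e₁, e₂, pullback.map]
  rw [h]
  exact AlgSpc.repWith_comp (AlgSpc.repWith_of_isPullback h₁ hi) (AlgSpc.repWith_of_isPullback h₂ hi)

theorem diagonal_w (w : i ≫ f' = f ≫ j) :
    i ≫ pullback.diagonal f' = pullback.diagonal f ≫ pullback.map f f f' f' i i j w.symm w.symm := by
  apply pullback.hom_ext <;> simp [pullback.map]

theorem separated_thick_iff (hi : RepWith thick i) (hj : RepWith thick j) (w : i ≫ f' = f ≫ j)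
    (hX : IsAlgSpace X) (hX' : IsAlgSpace X') (hY : IsAlgSpace Y) (hY' : IsAlgSpace Y') :
    (IsSeparatedMor f ↔ IsSeparatedMor f') ∧ (IsQuasiSeparatedMor f ↔ IsQuasiSeparatedMor f') := by
  have hP := AlgSpc.isAlgSpace_of_isPullback hX hY hX (IsPullback.of_hasPullback f f)
  have hP' := AlgSpc.isAlgSpace_of_isPullback hX' hY' hX' (IsPullback.of_hasPullback f' f')
  have hm := thick_pullbackMap hi hj w
  refine ⟨?_, ?_⟩
  · rw [(AlgStB.isUnivClosedMor_diagonal_iff hX f).1, (AlgStB.isUnivClosedMor_diagonal_iff hX' f').1]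
    exact univClosed_thick_iff hi hm (diagonal_w w) hP hP'
  · change RepWith @QuasiCompact (pullback.diagonal f) ↔ RepWith @QuasiCompact (pullback.diagonal f')
    rw [AlgSpc.repWith_quasiCompact_iff (representable_diagonal_mor hX f),
      AlgSpc.repWith_quasiCompact_iff (representable_diagonal_mor hX' f')]
    exact quasiCompact_thick_iff hi hm (diagonal_w w) hX hX' hP hP'

end Groth.Agent.AlgSpLoc
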