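import Groth.Prelude.Def_AlgSpInf
import Groth.Agent.AlgSpc.FibreProd
import Groth.Agent.AlgSpc.Compact
import Groth.Agent.AlgSpc.Universal

/-!
Morphisms of thickenings of algebraic spaces: universal topological properties agree.
-/

set_option autoImplicit false

universe u

open CategoryTheory CategoryTheory.Limits AlgebraicGeometry
open AlgSp

namespace Groth.Agent.AlgSpLoc

variable {S : Scheme.{u}}

theorem isHomeomorph_of_thick {F G : Sp S} {i : F ⟶ G} (hi : RepWith thick i) :
    IsHomeomorph (Points.map i) :=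
  AlgSpc.isHomeomorph_map_of_repWith (P := thick) (fun _ _ f (h : IsClosedImmersion f ∧ Surjective f) =>
    have h1 := h.1
    have h2 := h.2
    IsHomeomorph.mk (Scheme.Hom.continuous f)
      (f.isClosedEmbedding.isEmbedding.isOpenEmbedding_of_surjective f.surjective).isOpenMap
      ⟨f.isClosedEmbedding.injective, f.surjective⟩) hi

theorem mono_of_thick {F G : Sp S} {i : F ⟶ G} (hi : RepWith thick i) : Mono i :=
  AlgSpc.mono_of_repWith (fun _ _ e (h : IsClosedImmersion e ∧ Surjective e) => have := h.1; inferInstance) hi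

variable {X X' Y Y' : Sp S} {i : X ⟶ X'} {j : Y ⟶ Y'} {f : X ⟶ Y} {f' : X' ⟶ Y'}

/-- Comparison of a fibre product of the thick morphism with one of the composite through the thin source. -/
theorem exists_thick_compare (hi : RepWith thick i) {Z P P' : Sp S} {g : Z ⟶ Y'} {a : P ⟶ X} {b : P ⟶ Z}
    {a' : P' ⟶ X'} {b' : P' ⟶ Z} (sq : IsPullback a b (i ≫ f') g) (sq' : IsPullback a' b' f' g) :
    ∃ e : P ⟶ P', e ≫ b' = b ∧ IsHomeomorph (Points.map e) := by
  let e : P ⟶ P' := sq'.lift (a ≫ i) b (by rw [Category.assoc]; exact sq.w)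
  have he : e ≫ b' = b := sq'.lift_snd _ _ _
  have he' : e ≫ a' = a ≫ i := sq'.lift_fst _ _ _
  have hp : IsPullback a e i a' := IsPullback.of_bot (he.symm ▸ sq) he'.symm sq'
  exact ⟨e, he, isHomeomorph_of_thick (AlgSpc.repWith_of_isPullback hp hi)⟩

/-- Transfer of a property of maps on points, invariant under homeomorphisms, between the fibre products. -/
theorem univSp_thick_iff (hi : RepWith thick i) (hj : RepWith thick j) (w : i ≫ f' = f ≫ j)
    (hY : IsAlgSpace Y) (hY' : IsAlgSpace Y')
    (Q : ∀ {A B : Type (u + 1)} [TopologicalSpace A] [TopologicalSpace B], (A → B) → Prop)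
    (hpost : ∀ {A B C : Type (u + 1)} [TopologicalSpace A] [TopologicalSpace B] [TopologicalSpace C]
      (h : A → B) (k : B → C), IsHomeomorph k → (Q (k ∘ h) ↔ Q h))
    (hpre : ∀ {A B C : Type (u + 1)} [TopologicalSpace A] [TopologicalSpace B] [TopologicalSpace C]
      (h : A → B) (k : B → C), IsHomeomorph h → (Q (k ∘ h) ↔ Q k)) :
    UnivSp (fun _ _ h => Q (Points.map h)) f ↔ UnivSp (fun _ _ h => Q (Points.map h)) f' := by
  haveI := mono_of_thick hj
  constructor
  · intro hf Z P' hZ g a' b' sq'
    have sY := IsPullback.of_hasPullback j g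
    have hZY := AlgSpc.isAlgSpace_of_isPullback hY hY' hZ sY
    have sP := IsPullback.of_hasPullback f (pullback.fst j g)
    obtain ⟨e, he, hhom⟩ := exists_thick_compare hi (w.symm ▸ sP.paste_vert sY) sq'
    have h1 := hf hZY _ _ _ sP
    have h2 := (hpost (Points.map (pullback.snd f (pullback.fst j g))) (Points.map (pullback.snd j g))
      (isHomeomorph_of_thick (AlgSpc.repWith_of_isPullback sY hj))).2 h1
    refine (hpre (Points.map e) (Points.map b') hhom).1 ?_
    convert h2 using 1
    funext x
    simp only [Function.comp_apply, ← Points.map_comp, he]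
  · intro hf' Z P hZ g a b sq
    have sP' := IsPullback.of_hasPullback f' (g ≫ j)
    have so : IsPullback a b (i ≫ f') (g ≫ j) := by
      rw [w]
      refine ⟨⟨by rw [reassoc_of% sq.w]⟩, ⟨PullbackCone.IsLimit.mk _
        (fun s => sq.lift s.fst s.snd ((cancel_mono j).1 (by simpa using s.condition)))
        (fun s => sq.lift_fst _ _ _) (fun s => sq.lift_snd _ _ _) fun s m h₁ h₂ => ?_⟩⟩
      apply sq.hom_ext <;> simp [h₁, h₂]
    obtain ⟨e, he, hhom⟩ := exists_thick_compare hi so sP'
    have h1 := (hpre (Points.map e) (Points.map (pullback.snd f' (g ≫ j))) hhom).2 (hf' hZ _ _ _ sP')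
    convert h1 using 1
    funext x
    simp only [Function.comp_apply, ← Points.map_comp, he]

theorem univClosed_thick_iff (hi : RepWith thick i) (hj : RepWith thick j) (w : i ≫ f' = f ≫ j)
    (hY : IsAlgSpace Y) (hY' : IsAlgSpace Y') : IsUnivClosedMor f ↔ IsUnivClosedMor f' :=
  univSp_thick_iff hi hj w hY hY' (fun h => IsClosedMap h)
    (fun h k hk => ⟨fun H s hs => by
      rw [← hk.injective.preimage_image (h '' s), ← Set.image_comp]; exact (H s hs).preimage hk.continuous,
      fun H => hk.isClosedMap.comp H⟩)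
    (fun h k hh => ⟨fun H s hs => by
      rw [← hh.surjective.image_preimage s, ← Set.image_comp]; exact H _ (hs.preimage hh.continuous),
      fun H => H.comp hh.isClosedMap⟩)

theorem univOpen_thick_iff (hi : RepWith thick i) (hj : RepWith thick j) (w : i ≫ f' = f ≫ j)
    (hY : IsAlgSpace Y) (hY' : IsAlgSpace Y') : IsUnivOpenMor f ↔ IsUnivOpenMor f' :=
  univSp_thick_iff hi hj w hY hY' (fun h => IsOpenMap h)
    (fun h k hk => ⟨fun H s hs => by
      rw [← hk.injective.preimage_image (h '' s), ← Set.image_comp]; exact (H s hs).preimage hk.continuous,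
      fun H => hk.isOpenMap.comp H⟩)
    (fun h k hh => ⟨fun H s hs => by
      rw [← hh.surjective.image_preimage s, ← Set.image_comp]; exact H _ (hs.preimage hh.continuous),
      fun H => H.comp hh.isOpenMap⟩)

theorem univInjective_thick_iff (hi : RepWith thick i) (hj : RepWith thick j) (w : i ≫ f' = f ≫ j)
    (hY : IsAlgSpace Y) (hY' : IsAlgSpace Y') : IsUnivInjectiveMor f ↔ IsUnivInjectiveMor f' :=
  univSp_thick_iff hi hj w hY hY' (fun h => Function.Injective h)
    (fun h k hk => ⟨fun H => H.of_comp, fun H => hk.injective.comp H⟩)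
    (fun h k hh => ⟨fun H => H.of_comp_right hh.surjective, fun H => H.comp hh.injective⟩)

theorem surjective_thick_iff (hi : RepWith thick i) (hj : RepWith thick j) (w : i ≫ f' = f ≫ j) :
    IsSurjectiveMor f ↔ IsSurjectiveMor f' := by
  have e : Points.map f' ∘ Points.map i = Points.map j ∘ Points.map f := by
    funext x
    simp only [Function.comp_apply, ← Points.map_comp, w]
  constructor
  · intro h
    exact (e.symm ▸ (isHomeomorph_of_thick hj).surjective.comp h).of_comp
  · intro h y
    obtain ⟨x', hx⟩ := h (Points.map j y)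
    obtain ⟨x, rfl⟩ := (isHomeomorph_of_thick hi).surjective x'
    exact ⟨x, (isHomeomorph_of_thick hj).injective ((congrFun e x).symm.trans hx)⟩

theorem quasiCompact_thick_iff (hi : RepWith thick i) (hj : RepWith thick j) (w : i ≫ f' = f ≫ j)
    (hX : IsAlgSpace X) (hX' : IsAlgSpace X') (hY : IsAlgSpace Y) (hY' : IsAlgSpace Y') :
    IsQuasiCompactMor f ↔ IsQuasiCompactMor f' := by
  haveI := mono_of_thick hj
  have tr : ∀ {A B : Sp S} (e : A ⟶ B), IsHomeomorph (Points.map e) → IsAlgSpace A → IsAlgSpace B →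
      (IsQuasiCompactSp A ↔ IsQuasiCompactSp B) := fun e he hA hB => by
    rw [AlgSpc.isQuasiCompactSp_iff hA, AlgSpc.isQuasiCompactSp_iff hB]
    exact ⟨fun _ => (he.homeomorph _).compactSpace, fun _ => (he.homeomorph _).symm.compactSpace⟩
  constructor
  · intro hf Z P' hZ hZc g a' b' sq'
    have sY := IsPullback.of_hasPullback j g
    have hZY := AlgSpc.isAlgSpace_of_isPullback hY hY' hZ sY
    have sP := IsPullback.of_hasPullback f (pullback.fst j g)
    obtain ⟨e, he, hhom⟩ := exists_thick_compare hi (w.symm ▸ sP.paste_vert sY) sq'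
    have hYc := (tr _ (isHomeomorph_of_thick (AlgSpc.repWith_of_isPullback sY hj)) hZY hZ).2 hZc
    exact (tr e hhom (AlgSpc.isAlgSpace_of_isPullback hX hY hZY sP)
      (AlgSpc.isAlgSpace_of_isPullback hX' hY' hZ sq')).1 (hf hZY hYc _ _ _ sP)
  · intro hf' Z P hZ hZc g a b sq
    have sP' := IsPullback.of_hasPullback f' (g ≫ j)
    have so : IsPullback a b (i ≫ f') (g ≫ j) := by
      rw [w]
      refine ⟨⟨by rw [reassoc_of% sq.w]⟩, ⟨PullbackCone.IsLimit.mk _
        (fun s => sq.lift s.fst s.snd ((cancel_mono j).1 (by simpa using s.condition)))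
        (fun s => sq.lift_fst _ _ _) (fun s => sq.lift_snd _ _ _) fun s m h₁ h₂ => ?_⟩⟩
      apply sq.hom_ext <;> simp [h₁, h₂]
    obtain ⟨e, he, hhom⟩ := exists_thick_compare hi so sP'
    exact (tr e hhom (AlgSpc.isAlgSpace_of_isPullback hX hY hZ sq)
      (AlgSpc.isAlgSpace_of_isPullback hX' hY' hZ sP')).2 (hf' hZ hZc _ _ _ sP')

end Groth.Agent.AlgSpLoc
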