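import Groth.Agent.AlgSpDesc.Pointwise
import Groth.Agent.AlgSpLoc.FlatLocusSp
import Groth.Agent.AlgSpc.EtLocInst
import Groth.Agent.UnramFibre.Basic
import Groth.Agent.Unram.Pointwise

/-!
The unramified locus of a morphism of algebraic spaces and its base change.
-/

set_option autoImplicit false
set_option linter.style.haveILetI false
set_option backward.isDefEq.respectTransparency false

universe u

open CategoryTheory CategoryTheory.Limits AlgebraicGeometry

namespace Groth.Agent.AlgSpLoc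

open _root_.AlgSp Groth.Agent.AlgSpc

variable {S : Scheme.{u}}

/-- A property holding near a point in one chart holds near it in every chart. -/
theorem hasAtMor_iff_chart {P : MorphismProperty Scheme.{u}} [EtLoc P] {X Y : Sp S} {f : X ⟶ Y} {U₀ V₀ : Over S}
    {a₀ : (yon S).obj U₀ ⟶ X} {b₀ : (yon S).obj V₀ ⟶ Y} {k₀ : U₀ ⟶ V₀} (ha₀ : RepWith @Etale a₀)
    (hb₀ : RepWith @Etale b₀) (w₀ : a₀ ≫ f = (yon S).map k₀ ≫ b₀) (u₀ : U₀.left) :
    HasAtMor (fun U _ h u => ∃ W : U.Opens, u ∈ W ∧ P (W.ι ≫ h)) f (Points.ofPt a₀ u₀) ↔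
      ∃ O : U₀.left.Opens, u₀ ∈ O ∧ P (O.ι ≫ k₀.left) := by
  refine ⟨fun H => ?_, fun H => ⟨U₀, V₀, a₀, b₀, k₀, u₀, ha₀, hb₀, w₀, rfl, H⟩⟩
  obtain ⟨U, V, a, b, h, u, ha, hb, w, hu, W, huW, hW⟩ := H
  obtain ⟨T, q, r, sq⟩ := exists_sq ha.1 a₀
  haveI : Etale r.left := ha.2 _ _ _ sq
  haveI : Etale (pre q).left := sq_etale sq ha₀
  obtain ⟨t, ht₁, ht₂⟩ := exists_point_of_sq sq (Points.ofScheme U u) u₀
    (by rw [← Points.ofPt_eq_map_ofScheme]; exact hu)
  have ht₁' : (pre q).left t = u := by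
    have := congrArg (Points.toScheme U) ht₁
    rwa [← map_pre q, Points.toScheme_ofPt, Points.toScheme_ofScheme] at this
  obtain ⟨R, s₁, s₂, sR⟩ := exists_sq hb.1 b₀
  haveI : Etale s₂.left := hb.2 _ _ _ sR
  haveI : Etale (pre s₁).left := sq_etale sR hb₀
  have wl : ((yon S).map (pre q ≫ h)) ≫ b = (yon S).map (r ≫ k₀) ≫ b₀ := by
    rw [Functor.map_comp, Category.assoc, ← w, map_pre, ← Category.assoc, sq.w, Functor.map_comp,
      Category.assoc, Category.assoc, w₀]
  let m : T ⟶ R := pre (sR.lift _ _ wl)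
  have hm₁ : m ≫ pre s₁ = pre q ≫ h := (yon S).map_injective (by
    rw [Functor.map_comp, map_pre, map_pre, sR.lift_fst])
  have hm₂ : m ≫ s₂ = r ≫ k₀ := (yon S).map_injective (by rw [Functor.map_comp, map_pre, sR.lift_snd])
  let T' : T.left.Opens := (pre q).left ⁻¹ᵁ W
  have h1 : P ((T'.ι ≫ m.left) ≫ (pre s₁).left) := by
    rw [Category.assoc, show m.left ≫ (pre s₁).left = (pre q).left ≫ h.left from congrArg CommaMorphism.left hm₁,
      show T'.ι ≫ (pre q).left ≫ h.left = ((pre q).left ∣_ W) ≫ W.ι ≫ h.left by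
        rw [morphismRestrict_ι_assoc]]
    exact EtLoc.precomp _ _ (IsZariskiLocalAtTarget.restrict (P := @Etale) inferInstance W) hW
  have h2 : P ((T'.ι ≫ r.left) ≫ k₀.left) := by
    have := EtLoc.postcomp _ s₂.left inferInstance (EtLoc.cancel (T'.ι ≫ m.left) (pre s₁).left inferInstance h1)
    rw [Category.assoc, show m.left ≫ s₂.left = r.left ≫ k₀.left from congrArg CommaMorphism.left hm₂] at this
    rwa [Category.assoc]
  let O : U₀.left.Opens := ⟨Set.range (T'.ι ≫ r.left), (T'.ι ≫ r.left).isOpenMap.isOpen_range⟩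
  refine ⟨O, ⟨⟨t, show (pre q).left t ∈ W by rw [ht₁']; exact huW⟩, by simpa using ht₂⟩, ?_⟩
  let e : (T' : Scheme.{u}) ⟶ O := IsOpenImmersion.lift O.ι (T'.ι ≫ r.left) (by
    rintro _ ⟨z, rfl⟩
    rw [Scheme.Opens.range_ι]
    exact ⟨z, rfl⟩)
  have he : e ≫ O.ι = T'.ι ≫ r.left := IsOpenImmersion.lift_fac _ _ _
  haveI : Etale (e ≫ O.ι) := he ▸ (inferInstance : Etale (T'.ι ≫ r.left))
  haveI : Etale e := Etale.of_comp e O.ι
  haveI : Surjective e := ⟨fun o => by
    obtain ⟨z, hz⟩ := o.2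
    exact ⟨z, O.ι.isOpenEmbedding.injective (by rw [← Scheme.Hom.comp_apply, he]; exact hz)⟩⟩
  refine EtLoc.descend e _ inferInstance inferInstance ?_
  rwa [← Category.assoc, he]

/-- The predicate used for the unramified locus. -/
abbrev UnramAt {F G : Sp S} (f : F ⟶ G) (x : Points F) : Prop :=
  HasAtMor (fun U _ h u => ∃ W : U.Opens, u ∈ W ∧ LocallyOfFiniteType (W.ι ≫ h) ∧ FormallyUnramified (W.ι ≫ h)) f x

theorem unramAt_iff {F G : Sp S} {f : F ⟶ G} {U V : Over S} {a : (yon S).obj U ⟶ F}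
    {b : (yon S).obj V ⟶ G} {h : U ⟶ V} (ha : RepWith @Etale a) (hb : RepWith @Etale b)
    (w : a ≫ f = (yon S).map h ≫ b) [LocallyOfFiniteType h.left] (u : U.left) :
    UnramAt f (Points.ofPt a u) ↔ (h.left.stalkMap u).hom.FormallyUnramified := by
  rw [← Unram.unramified_nhd_iff h.left u]
  refine (hasAtMor_iff_chart (P := (@LocallyOfFiniteType ⊓ @FormallyUnramified : MorphismProperty Scheme.{u}))
    ha hb w u).trans ⟨fun ⟨O, hu, hO⟩ => ⟨O, hu, hO.2⟩, fun ⟨O, hu, hO⟩ => ⟨O, hu, inferInstance, hO⟩⟩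

theorem locP_unram_iff {F G : Sp S} (hF : IsAlgSpace F) (hG : IsAlgSpace G) {f : F ⟶ G} :
    LocP (@LocallyOfFiniteType ⊓ @FormallyUnramified) f ↔ ∀ x, UnramAt f x :=
  AlgSpDesc.locP_iff_hasAtMor hF hG f

theorem lft_left {F G : Sp S} {f : F ⟶ G} (hf : LocP @LocallyOfFiniteType f) {U V : Over S}
    {a : (yon S).obj U ⟶ F} {b : (yon S).obj V ⟶ G} {h : U ⟶ V} (ha : RepWith @Etale a) (hb : RepWith @Etale b)
    (w : a ≫ f = (yon S).map h ≫ b) : LocallyOfFiniteType h.left := hf a b h ha hb w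

/-- The unramified locus is open and commutes with base change. -/
theorem unramLocus_open_and_baseChange {X Y : Space S} (f : X ⟶ Y) (hf : LocP @LocallyOfFiniteType f.hom) :
    IsOpen {x : Points X.obj | UnramAt f.hom x} ∧
    ∀ (X' Y' : Space S) (f' : X' ⟶ Y') (pX : X' ⟶ X) (pY : Y' ⟶ Y),
      IsPullback pX.hom f'.hom f.hom pY.hom →
      {x' : Points X'.obj | UnramAt f'.hom x'} = Points.map pX.hom ⁻¹' {x : Points X.obj | UnramAt f.hom x} := by
  obtain ⟨V, c, hc, hcs⟩ := Y.property.atlas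
  have sX := IsPullback.of_hasPullback f.hom c
  obtain ⟨U, a₁, ha₁, ha₁s⟩ :=
    (isAlgSpace_of_isPullback X.property Y.property (IsAlgSpace.yon_obj V) sX).atlas
  let φ : U ⟶ V := pre (a₁ ≫ pullback.snd f.hom c)
  have hk : a₁ ≫ pullback.snd f.hom c = (yon S).map φ := (map_pre _).symm
  let a := a₁ ≫ pullback.fst f.hom c
  have ha : RepWith @Etale a := repWith_comp ha₁ (repWith_of_isPullback sX.flip hc)
  have has : RepWith @Surjective a := repWith_comp ha₁s (repWith_of_isPullback sX.flip hcs)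
  have wac : a ≫ f.hom = (yon S).map φ ≫ c := by rw [Category.assoc, sX.w, ← Category.assoc, hk]
  have : LocallyOfFiniteType φ.left := lft_left hf ha hc wac
  refine ⟨?_, fun X' Y' f' pX pY sq => ?_⟩
  · rw [← (isQuotientMap_ofPt ha has).isOpen_preimage,
      show Points.ofPt a ⁻¹' {x | UnramAt f.hom x} = {u | (φ.left.stalkMap u).hom.FormallyUnramified} from
        Set.ext fun u => unramAt_iff ha hc wac u]
    exact Unram.isOpen_unramified_stalkMap φ.left
  have sZ := IsPullback.of_hasPullback pY.hom c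
  obtain ⟨V', d, hd, hds⟩ := (isAlgSpace_of_isPullback Y'.property Y.property (IsAlgSpace.yon_obj V) sZ).atlas
  let ω : V' ⟶ V := pre (d ≫ pullback.snd pY.hom c)
  let c' := d ≫ pullback.fst pY.hom c
  have hc' : RepWith @Etale c' := repWith_comp hd (repWith_of_isPullback sZ.flip hc)
  have hc's : RepWith @Surjective c' := repWith_comp hds (repWith_of_isPullback sZ.flip hcs)
  have wc : c' ≫ pY.hom = (yon S).map ω ≫ c := by rw [map_pre, Category.assoc, Category.assoc, sZ.w]
  let U' : Over S := Over.mk (pullback.snd φ.left ω.left ≫ V'.hom)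
  let φ' : U' ⟶ V' := Over.homMk (pullback.snd φ.left ω.left) rfl
  let wU : U' ⟶ U := Over.homMk (pullback.fst φ.left ω.left) (by
    change _ = pullback.snd φ.left ω.left ≫ V'.hom
    rw [← Over.w φ, ← Over.w ω, ← Category.assoc, pullback.condition, Category.assoc])
  have sU : IsPullback wU.left φ'.left φ.left ω.left := IsPullback.of_hasPullback _ _
  obtain ⟨a', ha', ha's, wa₁, wa₂⟩ := exists_chart_baseChange sq wc hc' hc's ha₁ ha₁s hk (k' := φ') (wV := wU) sU
  have : LocallyOfFiniteType φ'.left := MorphismProperty.of_isPullback sU ‹_›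
  ext x'
  obtain ⟨u', rfl⟩ := surjective_ofPt ha's x'
  change UnramAt f'.hom _ ↔ UnramAt f.hom (Points.map pX.hom _)
  rw [Points.map_ofPt, wa₂, ofPt_comp, unramAt_iff ha' hc' wa₁ u', unramAt_iff ha hc wac]
  exact ⟨fun hu => UnramFibre.formallyUnramified_stalkMap_of_baseChange φ.left ω.left u' hu, fun hu => by
    obtain ⟨O, hO, hO'⟩ := (Unram.unramified_nhd_iff φ.left _).2 hu
    refine (Unram.unramified_nhd_iff φ'.left u').1 ⟨wU.left ⁻¹ᵁ O, hO, ?_⟩
    exact MorphismProperty.of_isPullback (P := @FormallyUnramified)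
      ((isPullback_morphismRestrict wU.left O).paste_vert sU) hO'⟩

/-- Morphisms whose composite is locally of finite type are locally of finite type. -/
theorem lft_of_comp {X Y Z : Space S} {f : X ⟶ Y} {p : X ⟶ Z} {q : Y ⟶ Z} (hc : f ≫ q = p)
    (hp : LocP @LocallyOfFiniteType p.hom) : LocP @LocallyOfFiniteType f.hom :=
  locP_of_comp (P := @LocallyOfFiniteType) (Q := ⊤) (fun h k (hk : LocallyOfFiniteType (h ≫ k)) _ =>
    locallyOfFiniteType_of_comp h k) X.property Y.property Z.property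
    (by rw [show f.hom ≫ q.hom = p.hom from congrArg (fun k => k.hom) hc]; exact hp) (locP_top _)

end Groth.Agent.AlgSpLoc
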