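import Groth.Agent.AlgSpLoc.WhereOpen
import Groth.Agent.AlgSpLoc.FlatLocusSp

/-!
Where a morphism is flat, and surjective, after base change.
-/

set_option autoImplicit false
set_option backward.isDefEq.respectTransparency false

universe u

open CategoryTheory CategoryTheory.Limits AlgebraicGeometry

namespace Groth.Agent.AlgSpLoc

open _root_.AlgSp Groth.Agent.AlgSpc

variable {S : Scheme.{u}}

theorem locP_flat_iff {X Y : Sp S} (hX : IsAlgSpace X) (hY : IsAlgSpace Y) {f : X ⟶ Y} :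
    LocP @Flat f ↔ ∀ x, IsFlatAtMor f x := by
  refine ⟨fun hf x U V a b h u ha hb w _ => ?_, fun hf => ?_⟩
  · haveI : Flat h.left := hf a b h ha hb w
    exact Flat.stalkMap _ u
  · intro U V a b h ha hb w
    exact Flat.iff_flat_stalkMap _ |>.2 fun u => hf (Points.ofPt a u) a b h u ha hb w rfl

theorem isOpen_image_flatLocus {X Y Z : Space S} (f : X ⟶ Y) (q : Y ⟶ Z)
    (hfp : LocP @LocallyOfFinitePresentation (f ≫ q).hom) (hft : LocP @LocallyOfFiniteType q.hom) :
    IsOpen (Points.map f.hom '' {x | IsFlatAtMor f.hom x}) := by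
  have hf : LocP @LocallyOfFinitePresentation f.hom :=
    locP_of_comp (P := @LocallyOfFinitePresentation) (Q := @LocallyOfFiniteType)
      (fun h k (_ : LocallyOfFinitePresentation (h ≫ k)) (_ : LocallyOfFiniteType k) =>
        FlatLocus.locallyOfFinitePresentation_of_comp h k)
      X.property Y.property Z.property hfp hft
  obtain ⟨U, V, a, b, h, ha, has, hb, -, w⟩ := exists_chart X.property Y.property f.hom
  have : LocallyOfFinitePresentation h.left := hf a b h ha hb w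
  have hL : IsOpen {u : U.left | (h.left.stalkMap u).hom.Flat} := S0386.result h.left
  let W : U.left.Opens := ⟨_, hL⟩
  have : Flat (W.ι ≫ h.left) := Flat.iff_flat_stalkMap _ |>.2 fun y =>
    flat_stalk_comp W.ι h.left y (Flat.stalkMap _ y) y.2
  have hopen : IsOpen (h.left '' (W : Set U.left)) := by
    have := (W.ι ≫ h.left).isOpenMap.isOpen_range
    rwa [show Set.range (W.ι ≫ h.left) = h.left '' (W : Set U.left) by
      rw [← Scheme.Opens.range_ι W, ← Set.range_comp]; rfl] at this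
  convert isOpenMap_ofPt hb _ hopen using 1
  ext y
  constructor
  · rintro ⟨x, hx, rfl⟩
    obtain ⟨u, rfl⟩ := surjective_ofPt has x
    exact ⟨h.left u, ⟨u, (isFlatAtMor_iff ha hb w u).1 hx, rfl⟩, (map_ofPt_sq w u).symm⟩
  · rintro ⟨_, ⟨u, hu, rfl⟩, rfl⟩
    exact ⟨Points.ofPt a u, (isFlatAtMor_iff ha hb w u).2 hu, map_ofPt_sq w u⟩

theorem where_flat {X Y Z : Space S} (f : X ⟶ Y) (p : X ⟶ Z) (q : Y ⟶ Z) (hc : f ≫ q = p)
    (hp1 : LocP @LocallyOfFinitePresentation p.hom) (hp2 : LocP @Flat p.hom)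
    (hp3 : IsClosedMor p.hom) (hq : LocP @LocallyOfFiniteType q.hom) :
    ∃ (W : Space S) (w : W ⟶ Z), RepWith @IsOpenImmersion w.hom ∧
      ∀ (Z' : Space S) (g : Z' ⟶ Z),
        (∃ k : Z' ⟶ W, k ≫ w = g) ↔
          ∀ (Y' : Space S) (gY : Y' ⟶ Y) (q' : Y' ⟶ Z'), IsPullback gY.hom q'.hom q.hom g.hom →
            ∀ (X' : Space S) (gX : X' ⟶ X) (f' : X' ⟶ Y'), IsPullback gX.hom f'.hom f.hom gY.hom →
              LocP @Flat f'.hom := by
  subst hc
  obtain ⟨hopen, hbc⟩ := flatLocus_open_and_baseChange f q hp1 hp2 hq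
  refine exists_openSubspace_where f q (fun f' => LocP @Flat f'.hom)
    (hp3 _ hopen.isClosed_compl).isOpen_compl fun Z' g Y' gY q' sY X' gX f' sX => ?_
  rw [locP_flat_iff X'.property Y'.property, ← forall_notMem_iff (isPullback_comp rfl sY sX)]
  refine forall_congr' fun x' => ?_
  simpa using Set.ext_iff.1 (hbc X' Y' Z' g f' q' gX gY sY sX) x'

theorem where_surjective_flat {X Y Z : Space S} (f : X ⟶ Y) (p : X ⟶ Z) (q : Y ⟶ Z) (hc : f ≫ q = p)
    (hp1 : LocP @LocallyOfFinitePresentation p.hom) (hp2 : LocP @Flat p.hom)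
    (hp3 : IsClosedMor p.hom) (hq1 : LocP @LocallyOfFiniteType q.hom) (hq2 : IsClosedMor q.hom) :
    ∃ (W : Space S) (w : W ⟶ Z), RepWith @IsOpenImmersion w.hom ∧
      ∀ (Z' : Space S) (g : Z' ⟶ Z),
        (∃ k : Z' ⟶ W, k ≫ w = g) ↔
          ∀ (Y' : Space S) (gY : Y' ⟶ Y) (q' : Y' ⟶ Z'), IsPullback gY.hom q'.hom q.hom g.hom →
            ∀ (X' : Space S) (gX : X' ⟶ X) (f' : X' ⟶ Y'), IsPullback gX.hom f'.hom f.hom gY.hom →
              (IsSurjectiveMor f'.hom ∧ LocP @Flat f'.hom) := by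
  subst hc
  obtain ⟨hopen, hbc⟩ := flatLocus_open_and_baseChange f q hp1 hp2 hq1
  refine exists_openSubspace_where f q (fun f' => IsSurjectiveMor f'.hom ∧ LocP @Flat f'.hom)
    ((hp3 _ hopen.isClosed_compl).isOpen_compl.inter
      (hq2 _ (isOpen_image_flatLocus f q hp1 hq1).isClosed_compl).isOpen_compl)
    fun Z' g Y' gY q' sY X' gX f' sX => ?_
  have hflat : LocP @Flat f'.hom ↔ ∀ x', Points.map gX.hom x' ∉ {x | IsFlatAtMor f.hom x}ᶜ := by
    rw [locP_flat_iff X'.property Y'.property]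
    refine forall_congr' fun x' => ?_
    simpa using Set.ext_iff.1 (hbc X' Y' Z' g f' q' gX gY sY sX) x'
  rw [hflat, forall_notMem_iff (isPullback_comp rfl sY sX)]
  constructor
  · rintro ⟨hs, hg⟩
    refine Set.subset_inter hg ?_
    rintro _ ⟨z, rfl⟩ ⟨y, hy, he⟩
    obtain ⟨y', rfl, -⟩ := exists_point_of_isPullback sY y z he
    obtain ⟨x', rfl⟩ := hs y'
    refine hy ⟨Points.map gX.hom x', ?_, ?_⟩
    · by_contra hx
      exact (forall_notMem_iff (isPullback_comp rfl sY sX) _).2 hg x' hx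
    · rw [← Points.map_comp, ← Points.map_comp, sX.w]
  · intro hg
    refine ⟨fun y' => ?_, hg.trans Set.inter_subset_left⟩
    by_contra hy
    refine (hg ⟨Points.map q'.hom y', rfl⟩).2 ⟨Points.map gY.hom y', ?_, ?_⟩
    · rintro ⟨x, -, hx⟩
      obtain ⟨x', -, hx'⟩ := exists_point_of_isPullback sX x y' hx
      exact hy ⟨x', hx'⟩
    · rw [← Points.map_comp, ← Points.map_comp, sY.w]

end Groth.Agent.AlgSpLoc
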