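import Groth.Agent.AlgSpLoc.WhereOpen
import Groth.Agent.AlgSpLoc.UnramLocusSp
import Groth.Agent.AlgSpFormal.UnramDiag

/-!
Where a morphism is unramified and universally injective after base change.
-/

set_option autoImplicit false
set_option backward.isDefEq.respectTransparency false

universe u

open CategoryTheory CategoryTheory.Limits AlgebraicGeometry

namespace Groth.Agent.AlgSpLoc

open _root_.AlgSp Groth.Agent.AlgSpc

variable {S : Scheme.{u}}

theorem unramAt_openImm_comp {X0 X Y : Sp S} {j : X0 ⟶ X} (hj : RepWith @IsOpenImmersion j) {f : X ⟶ Y}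
    {x : Points X0} (h : UnramAt f (Points.map j x)) : UnramAt (j ≫ f) x := by
  obtain ⟨U, V, a, b, k, u, ha, hb, w, hu, W, huW, hW₁, hW₂⟩ := h
  obtain ⟨U₀, a₀, o, sq⟩ := exists_sq hj.1 a
  haveI : IsOpenImmersion o.left := hj.2 _ _ _ sq
  obtain ⟨u₀, hx, rfl⟩ := exists_point_of_sq sq x u hu.symm
  refine ⟨U₀, V, a₀, b, o ≫ k, u₀, repWith_of_isPullback sq.flip ha, hb,
    by rw [reassoc_of% sq.w, w, Functor.map_comp, Category.assoc], hx, o.left ⁻¹ᵁ W, huW, ?_, ?_⟩ <;>
  · haveI : Etale (o.left ∣_ W) := inferInstance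
    rw [Over.comp_left, ← Category.assoc, ← morphismRestrict_ι, Category.assoc]
    exact MorphismProperty.comp_mem _ _ _ inferInstance ‹_›

theorem isOpen_diagonal_image {X Y : Space S} (f : X ⟶ Y) (hft : LocP @LocallyOfFiniteType f.hom)
    {XX : Space S} {pr0 pr1 : XX ⟶ X} (hXX : IsPullback pr0.hom pr1.hom f.hom f.hom) :
    IsOpen (Points.map (hXX.lift (𝟙 _) (𝟙 _) rfl) '' {x | UnramAt f.hom x}) := by
  obtain ⟨hopen, -⟩ := unramLocus_open_and_baseChange f hft
  obtain ⟨X₀, j, hj, hr⟩ := exists_openSubspace X hopen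
  let h := j.hom ≫ f.hom
  have hh : LocP (@LocallyOfFiniteType ⊓ @FormallyUnramified) h :=
    (locP_unram_iff X₀.property Y.property).2 fun x => unramAt_openImm_comp hj (hr.le ⟨x, rfl⟩)
  have hd := (AlgSpFormal.diagonal_iff X₀.property Y.property).1 hh
  have s₁ := IsPullback.of_hasPullback f.hom h
  let e₁ : pullback h h ⟶ pullback f.hom h := pullback.lift (pullback.fst h h ≫ j.hom) (pullback.snd h h)
    (by rw [Category.assoc]; exact pullback.condition)
  have h₁ : IsPullback (pullback.fst h h) e₁ j.hom (pullback.fst f.hom h) :=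
    IsPullback.of_bot (by
      rw [show e₁ ≫ pullback.snd _ _ = pullback.snd h h from pullback.lift_snd _ _ _]
      exact IsPullback.of_hasPullback h h)
      (pullback.lift_fst _ _ _).symm s₁
  let e₂ : pullback f.hom h ⟶ XX.obj := hXX.lift (pullback.fst f.hom h) (pullback.snd f.hom h ≫ j.hom)
    (by rw [Category.assoc]; exact s₁.w)
  have h₂ : IsPullback (pullback.snd f.hom h) e₂ j.hom pr1.hom :=
    IsPullback.of_bot (by rw [hXX.lift_fst]; exact s₁.flip) (hXX.lift_snd _ _ _).symm hXX.flip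
  have hopenmap : ∀ {A B : Sp S} {e : A ⟶ B}, RepWith @IsOpenImmersion e → IsOpenMap (Points.map e) := fun he =>
    isOpenMap_map_of_repWith (P := @IsOpenImmersion) (fun _ _ k (_ : IsOpenImmersion k) => k.isOpenEmbedding.isOpenMap) he
  have := (hopenmap (repWith_of_isPullback h₂ hj)).comp
    ((hopenmap (repWith_of_isPullback h₁ hj)).comp (hopenmap hd))
  convert this.isOpen_range using 1
  rw [← hr, ← Set.range_comp]
  congr 1
  funext x
  simp only [Function.comp_apply, ← Points.map_comp]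
  congr 1
  apply hXX.hom_ext <;> simp [e₁, e₂]

theorem univInjective_of_diagonal {X Y X' Y' : Sp S} {f : X ⟶ Y} {f' : X' ⟶ Y'} {gX : X' ⟶ X} {gY : Y' ⟶ Y}
    (sX : IsPullback gX f' f gY) {XX : Sp S} {pr0 pr1 : XX ⟶ X} (hXX : IsPullback pr0 pr1 f f)
    (h : ∀ ζ : Points (pullback f' f'), Points.map (hXX.lift (pullback.fst f' f' ≫ gX) (pullback.snd f' f' ≫ gX)
      (by simp [sX.w, pullback.condition_assoc])) ζ ∈ Set.range (Points.map (hXX.lift (𝟙 _) (𝟙 _) rfl))) :
    IsUnivInjectiveMor f' := by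
  intro T P hT t a b sq x₁ x₂ hx
  have sT : IsPullback (a ≫ gX) b f (t ≫ gY) := sq.paste_horiz sX
  obtain ⟨ζ, h₁, h₂⟩ := exists_point_of_isPullback (IsPullback.of_hasPullback b b) x₁ x₂ hx
  let c : pullback b b ⟶ pullback f' f' := pullback.map b b f' f' a a t sq.w.symm sq.w.symm
  let M : pullback b b ⟶ XX := hXX.lift (pullback.fst b b ≫ a ≫ gX) (pullback.snd b b ≫ a ≫ gX) (by
    simp [sT.w, pullback.condition_assoc])
  have hM : c ≫ hXX.lift (pullback.fst f' f' ≫ gX) (pullback.snd f' f' ≫ gX)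
      (by simp [sX.w, pullback.condition_assoc]) = M := by
    apply hXX.hom_ext <;> simp [c, M, pullback.map]
  obtain ⟨x₀, hx₀⟩ := h (Points.map c ζ)
  rw [← Points.map_comp, hM] at hx₀
  have sd : IsPullback (a ≫ gX) (pullback.diagonal b) (hXX.lift (𝟙 _) (𝟙 _) rfl) M := by
    refine IsPullback.of_iso (isPullback_diagonal sT) (Iso.refl _) (Iso.refl _) (Iso.refl _)
      hXX.isoPullback.symm (by simp) (by simp) ?_ ?_
    · apply hXX.hom_ext <;> simp
    · apply hXX.hom_ext <;> simp [M, pullback.map]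
  obtain ⟨x, -, hxd⟩ := exists_point_of_isPullback sd x₀ ζ hx₀
  rw [← h₁, ← h₂, ← hxd, ← Points.map_comp, ← Points.map_comp, pullback.diagonal_fst, pullback.diagonal_snd]

theorem diagonal_of_univInjective {X' Y' : Space S} (f' : X' ⟶ Y') (h : IsUnivInjectiveMor f'.hom)
    (ζ : Points (pullback f'.hom f'.hom)) : ζ ∈ Set.range (Points.map (pullback.diagonal f'.hom)) := by
  refine ⟨Points.map (pullback.snd f'.hom f'.hom) ζ,
    h X'.property _ _ _ (IsPullback.of_hasPullback f'.hom f'.hom) ?_⟩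
  rw [← Points.map_comp, pullback.diagonal_snd, Points.map_id]

theorem where_unramified_univInjective {X Y Z : Space S} (f : X ⟶ Y) (p : X ⟶ Z) (q : Y ⟶ Z) (hc : f ≫ q = p)
    (XX : Space S) (pr0 pr1 : XX ⟶ X) (hXX : IsPullback pr0.hom pr1.hom f.hom f.hom)
    (hp1 : LocP @LocallyOfFiniteType p.hom) (hp2 : IsClosedMor p.hom) (hp3 : IsClosedMor (pr1 ≫ p).hom) :
    ∃ (W : Space S) (w : W ⟶ Z), RepWith @IsOpenImmersion w.hom ∧
      ∀ (Z' : Space S) (g : Z' ⟶ Z),
        (∃ k : Z' ⟶ W, k ≫ w = g) ↔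
          ∀ (Y' : Space S) (gY : Y' ⟶ Y) (q' : Y' ⟶ Z'), IsPullback gY.hom q'.hom q.hom g.hom →
            ∀ (X' : Space S) (gX : X' ⟶ X) (f' : X' ⟶ Y'), IsPullback gX.hom f'.hom f.hom gY.hom →
              (LocP (@LocallyOfFiniteType ⊓ @FormallyUnramified) f'.hom ∧ IsUnivInjectiveMor f'.hom) := by
  have hft := lft_of_comp hc hp1
  obtain ⟨hopen, hbc⟩ := unramLocus_open_and_baseChange f hft
  let d := hXX.lift (𝟙 _) (𝟙 _) rfl
  have hwp : pr0.hom ≫ p.hom = pr1.hom ≫ p.hom := by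
    subst hc
    exact (reassoc_of% hXX.w) q.hom
  refine exists_openSubspace_where f q
    (fun f' => LocP (@LocallyOfFiniteType ⊓ @FormallyUnramified) f'.hom ∧ IsUnivInjectiveMor f'.hom)
    ((hp2 _ hopen.isClosed_compl).isOpen_compl.inter
      (hp3 _ (isOpen_diagonal_image f hft hXX).isClosed_compl).isOpen_compl)
    fun Z' g Y' gY q' sY X' gX f' sX => ?_
  have sp := isPullback_comp hc sY sX
  have hun : LocP (@LocallyOfFiniteType ⊓ @FormallyUnramified) f'.hom ↔
      ∀ x', UnramAt f.hom (Points.map gX.hom x') := by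
    rw [locP_unram_iff X'.property Y'.property]
    exact forall_congr' fun x' => Set.ext_iff.1 (hbc X' Y' f' gX gY sX) x'
  have hun' : (∀ x', UnramAt f.hom (Points.map gX.hom x')) ↔
      Set.range (Points.map g.hom) ⊆ (Points.map p.hom '' {x | UnramAt f.hom x}ᶜ)ᶜ := by
    rw [← forall_notMem_iff sp]
    simp
  let M : pullback f'.hom f'.hom ⟶ XX.obj := hXX.lift (pullback.fst f'.hom f'.hom ≫ gX.hom)
    (pullback.snd f'.hom f'.hom ≫ gX.hom) (by simp [sX.w, pullback.condition_assoc])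
  have sM : IsPullback M (pullback.fst f'.hom f'.hom) pr0.hom gX.hom := by
    refine (IsPullback.of_bot ?_ (hXX.lift_fst _ _ _).symm hXX).flip
    rw [hXX.lift_snd, ← sX.w.symm.trans rfl]
    exact (IsPullback.of_hasPullback f'.hom f'.hom).paste_vert sX.flip
  constructor
  · rintro ⟨h1, h2⟩
    refine Set.subset_inter (hun'.1 (hun.1 h1)) ?_
    rintro _ ⟨z, rfl⟩ ⟨ξ, hξ, he⟩
    obtain ⟨x', hx', -⟩ := exists_point_of_isPullback sp (Points.map pr0.hom ξ) z (by
      rw [← Points.map_comp, hwp]; exact he)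
    obtain ⟨ζ, hζ, -⟩ := exists_point_of_isPullback sM ξ x' hx'.symm
    obtain ⟨y, rfl⟩ := diagonal_of_univInjective f' h2 ζ
    refine hξ ⟨Points.map gX.hom y, hun.1 h1 y, ?_⟩
    rw [← hζ, ← Points.map_comp, ← Points.map_comp]
    congr 1
    apply hXX.hom_ext <;> simp [M]
  · intro hg
    have h1 := hun'.2 (hg.trans Set.inter_subset_left)
    refine ⟨hun.2 h1, univInjective_of_diagonal sX hXX fun ζ => ?_⟩
    by_contra hζ
    refine (hg ⟨Points.map (pullback.fst f'.hom f'.hom ≫ f'.hom ≫ q'.hom) ζ, rfl⟩).2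
      ⟨Points.map M ζ, fun ⟨x, _, hx⟩ => hζ ⟨x, hx⟩, ?_⟩
    rw [← Points.map_comp, ← Points.map_comp]
    congr 1
    change M ≫ pr1.hom ≫ p.hom = _
    rw [← hwp, hXX.lift_fst_assoc, Category.assoc, Category.assoc, sp.w]

end Groth.Agent.AlgSpLoc
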