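import Groth.Agent.AlgSpLoc.OpenSubspace
import Groth.Agent.AlgSpc.FibreProd

/-!
Open subspaces of the base cut out by conditions on a base change.
-/

set_option autoImplicit false
set_option backward.isDefEq.respectTransparency false

universe u

open CategoryTheory CategoryTheory.Limits AlgebraicGeometry

namespace Groth.Agent.AlgSpLoc

open _root_.AlgSp Groth.Agent.AlgSpc

variable {S : Scheme.{u}}

/-- An open set detecting a condition on base changes gives the representing open subspace. -/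
theorem exists_openSubspace_where {X Y Z : Space S} (f : X ⟶ Y) (q : Y ⟶ Z)
    (P : ∀ {A B : Space S}, (A ⟶ B) → Prop) {O : Set (Points Z.obj)} (hO : IsOpen O)
    (H : ∀ (Z' : Space S) (g : Z' ⟶ Z) (Y' : Space S) (gY : Y' ⟶ Y) (q' : Y' ⟶ Z'),
      IsPullback gY.hom q'.hom q.hom g.hom →
      ∀ (X' : Space S) (gX : X' ⟶ X) (f' : X' ⟶ Y'), IsPullback gX.hom f'.hom f.hom gY.hom →
        (P f' ↔ Set.range (Points.map g.hom) ⊆ O)) :
    ∃ (W : Space S) (w : W ⟶ Z), RepWith @IsOpenImmersion w.hom ∧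
      ∀ (Z' : Space S) (g : Z' ⟶ Z),
        (∃ k : Z' ⟶ W, k ≫ w = g) ↔
          ∀ (Y' : Space S) (gY : Y' ⟶ Y) (q' : Y' ⟶ Z'),
            IsPullback gY.hom q'.hom q.hom g.hom →
            ∀ (X' : Space S) (gX : X' ⟶ X) (f' : X' ⟶ Y'), IsPullback gX.hom f'.hom f.hom gY.hom → P f' := by
  obtain ⟨W, w, hw, hr⟩ := exists_openSubspace Z hO
  refine ⟨W, w, hw, fun Z' g => ⟨?_, fun h => ?_⟩⟩
  · rintro ⟨k, rfl⟩ Y' gY q' sY X' gX f' sX
    refine (H _ _ Y' gY q' sY X' gX f' sX).2 ?_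
    rintro _ ⟨z, rfl⟩
    exact hr.le ⟨Points.map k.hom z, (Points.map_comp k.hom w.hom z).symm⟩
  · let Y' : Space S := ⟨pullback q.hom g.hom,
      isAlgSpace_of_isPullback Y.property Z.property Z'.property (IsPullback.of_hasPullback _ _)⟩
    let gY : Y' ⟶ Y := ObjectProperty.homMk (pullback.fst q.hom g.hom)
    let q' : Y' ⟶ Z' := ObjectProperty.homMk (pullback.snd q.hom g.hom)
    let X' : Space S := ⟨pullback f.hom gY.hom,
      isAlgSpace_of_isPullback X.property Y.property Y'.property (IsPullback.of_hasPullback _ _)⟩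
    let gX : X' ⟶ X := ObjectProperty.homMk (pullback.fst f.hom gY.hom)
    let f' : X' ⟶ Y' := ObjectProperty.homMk (pullback.snd f.hom gY.hom)
    have sY : IsPullback gY.hom q'.hom q.hom g.hom := IsPullback.of_hasPullback _ _
    have sX : IsPullback gX.hom f'.hom f.hom gY.hom := IsPullback.of_hasPullback _ _
    have := (H Z' g Y' gY q' sY X' gX f' sX).1 (h Y' gY q' sY X' gX f' sX)
    obtain ⟨k, hk⟩ := exists_lift_openImm hw g.hom (this.trans hr.ge)
    exact ⟨ObjectProperty.homMk k, by ext : 1; exact hk⟩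

/-- A set of points of the source is avoided by a base change iff the base avoids its image. -/
theorem forall_notMem_iff {X Z Z' X' : Sp S} {p : X ⟶ Z} {g : Z' ⟶ Z} {gX : X' ⟶ X} {p' : X' ⟶ Z'}
    (sq : IsPullback gX p' p g) (B : Set (Points X)) :
    (∀ x', Points.map gX x' ∉ B) ↔ Set.range (Points.map g) ⊆ (Points.map p '' B)ᶜ := by
  constructor
  · rintro h _ ⟨z, rfl⟩ ⟨x, hx, he⟩
    obtain ⟨x', rfl, -⟩ := exists_point_of_isPullback sq x z he
    exact h x' hx
  · intro h x' hx'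
    exact h ⟨Points.map p' x', rfl⟩ ⟨Points.map gX x', hx', by rw [← Points.map_comp, sq.w, Points.map_comp]⟩

/-- The composite square of a base change over the base. -/
theorem isPullback_comp {X Y Z Z' Y' X' : Space S} {f : X ⟶ Y} {p : X ⟶ Z} {q : Y ⟶ Z} (hc : f ≫ q = p)
    {g : Z' ⟶ Z} {gY : Y' ⟶ Y} {q' : Y' ⟶ Z'} (sY : IsPullback gY.hom q'.hom q.hom g.hom)
    {gX : X' ⟶ X} {f' : X' ⟶ Y'} (sX : IsPullback gX.hom f'.hom f.hom gY.hom) :
    IsPullback gX.hom (f'.hom ≫ q'.hom) p.hom g.hom := by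
  subst hc
  exact sX.paste_vert sY

end Groth.Agent.AlgSpLoc
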